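import Cfsg.Agent.Lib.TwoCover.Linear
import Cfsg.Agent.Lib.G2Zorn.Order

/-
G₂(2^a) is covered by the stabilisers of a split and of an anisotropic quadratic subalgebra.
* `slAut`, `exists_aniso_act_eq`, `exists_affine_fixed`, `cover_g_two`
-/
set_option autoImplicit false

open Matrix Cfsg.Lie

namespace Cfsg.Agent.TwoCover

open Cfsg.Agent.G2Zorn

variable {F : Type*} [Field F]

/-- G₂ acting on the algebra. -/
noncomputable def gAct : G2 F →* (Module.End F (Fin 8 → F))ˣ :=
  Matrix.GeneralLinearGroup.toLin.toMonoidHom.comp (G2 F).subtype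

theorem gAct_apply (g : G2 F) (x : Fin 8 → F) :
    (gAct g : Module.End F (Fin 8 → F)) x = act (g : GL (Fin 8) F) x := rfl

theorem cross3_mulVec (A : Matrix (Fin 3) (Fin 3) F) (a c : Fin 3 → F) :
    Aᵀ *ᵥ cross3 (A *ᵥ a) (A *ᵥ c) = A.det • cross3 a c := by
  funext i
  fin_cases i <;>
    simp [cross3, mulVec, dotProduct, Fin.sum_univ_three, det_fin_three] <;> ring

theorem dot3_eq (u v : Fin 3 → F) : dot3 u v = u ⬝ᵥ v := by
  simp [dot3, dotProduct, Fin.sum_univ_three]

/-- The linear map of `A ∈ SL₃`, `a ↦ A a`, `b ↦ A⁻ᵀ b`. -/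
def slAutLin (A : Matrix.SpecialLinearGroup (Fin 3) F) : (Fin 8 → F) →ₗ[F] (Fin 8 → F) where
  toFun x := Zv (x 0) (A.1 *ᵥ zA F x) ((A⁻¹ : Matrix.SpecialLinearGroup (Fin 3) F).1ᵀ *ᵥ zB F x) (x 7)
  map_add' x y := by
    funext i
    fin_cases i <;> simp [Zv, zA, zB, mulVec, dotProduct, Fin.sum_univ_three] <;> ring
  map_smul' t x := by
    funext i
    fin_cases i <;> simp [Zv, zA, zB, mulVec, dotProduct, Fin.sum_univ_three] <;> ring

theorem slAutLin_Zv (A : Matrix.SpecialLinearGroup (Fin 3) F) (α β : F) (a b : Fin 3 → F) :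
    slAutLin A (Zv α a b β) =
      Zv α (A.1 *ᵥ a) ((A⁻¹ : Matrix.SpecialLinearGroup (Fin 3) F).1ᵀ *ᵥ b) β := by
  show Zv _ _ _ _ = _
  rw [zA_Zv, zB_Zv, Zv_zero, Zv_seven]

theorem slAutLin_comp (A B : Matrix.SpecialLinearGroup (Fin 3) F) :
    (slAutLin A).comp (slAutLin B) = slAutLin (A * B) := by
  refine LinearMap.ext fun x => ?_
  rw [LinearMap.comp_apply, eq_Zv x, slAutLin_Zv, slAutLin_Zv, slAutLin_Zv, _root_.mul_inv_rev,
    Matrix.SpecialLinearGroup.coe_mul, Matrix.SpecialLinearGroup.coe_mul, transpose_mul,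
    mulVec_mulVec, mulVec_mulVec]

theorem slAutLin_one : slAutLin (1 : Matrix.SpecialLinearGroup (Fin 3) F) = LinearMap.id := by
  refine LinearMap.ext fun x => ?_
  rw [LinearMap.id_apply, eq_Zv x, slAutLin_Zv]
  simp

theorem slAutLin_mul (A : Matrix.SpecialLinearGroup (Fin 3) F) (x y : Fin 8 → F) :
    slAutLin A (zornMul x y) = zornMul (slAutLin A x) (slAutLin A y) := by
  set B : Matrix (Fin 3) (Fin 3) F := (A⁻¹ : Matrix.SpecialLinearGroup (Fin 3) F).1ᵀ with hB
  have hBA : A.1ᵀ * B = 1 := by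
    rw [hB, ← transpose_mul, ← Matrix.SpecialLinearGroup.coe_mul, inv_mul_cancel,
      Matrix.SpecialLinearGroup.coe_one, transpose_one]
  have hAB : B * A.1ᵀ = 1 := by
    rw [hB, ← transpose_mul, ← Matrix.SpecialLinearGroup.coe_mul, mul_inv_cancel,
      Matrix.SpecialLinearGroup.coe_one, transpose_one]
  have hBdet : B.det = 1 := by rw [hB, det_transpose]; exact (A⁻¹).2
  have hAT : Bᵀ * A.1 = 1 := by
    have := congrArg transpose hBA
    rwa [transpose_mul, transpose_transpose, transpose_one] at this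
  have hTA : A.1 * Bᵀ = 1 := by
    have := congrArg transpose hAB
    rwa [transpose_mul, transpose_transpose, transpose_one] at this
  have hdot : ∀ a d : Fin 3 → F, dot3 (A.1 *ᵥ a) (B *ᵥ d) = dot3 a d := fun a d => by
    rw [dot3_eq, dot3_eq, dotProduct_mulVec, ← mulVec_transpose, mulVec_mulVec, hAT, one_mulVec]
  have hdot' : ∀ b c : Fin 3 → F, dot3 (B *ᵥ b) (A.1 *ᵥ c) = dot3 b c := fun b c => by
    rw [dot3_eq, dot3_eq, dotProduct_mulVec, ← mulVec_transpose, mulVec_mulVec, hBA, one_mulVec]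
  have hc1 : ∀ a c : Fin 3 → F, cross3 (A.1 *ᵥ a) (A.1 *ᵥ c) = B *ᵥ cross3 a c := fun a c => by
    have h := cross3_mulVec A.1 a c
    rw [A.2, one_smul] at h
    rw [← h, mulVec_mulVec, hAB, one_mulVec]
  have hc2 : ∀ b d : Fin 3 → F, cross3 (B *ᵥ b) (B *ᵥ d) = A.1 *ᵥ cross3 b d := fun b d => by
    have h := cross3_mulVec B b d
    rw [hBdet, one_smul] at h
    rw [← h, mulVec_mulVec, hTA, one_mulVec]
  rw [eq_Zv x, eq_Zv y, zornMul_Zv, slAutLin_Zv, slAutLin_Zv, slAutLin_Zv, zornMul_Zv,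
    hdot, hdot', hc1, hc2, ← hB]
  simp only [mulVec_sub, mulVec_add, mulVec_smul]

/-- The automorphism of `A ∈ SL₃`. -/
noncomputable def slAut (A : Matrix.SpecialLinearGroup (Fin 3) F) : G2 F :=
  mkAut (slAutLin A) (slAutLin A⁻¹) (by rw [slAutLin_comp, mul_inv_cancel, slAutLin_one])
    (by rw [slAutLin_comp, inv_mul_cancel, slAutLin_one]) (slAutLin_mul A)

theorem act_slAut (A : Matrix.SpecialLinearGroup (Fin 3) F) (x : Fin 8 → F) :
    act (slAut A : GL (Fin 8) F) x = slAutLin A x :=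
  act_mkAut _ _ _ _ _ x

theorem exists_cross_eq {b : Fin 3 → F} (hb : b ≠ 0) : ∃ u v, cross3 u v = b := by
  obtain ⟨i, hi⟩ := Function.ne_iff.1 hb
  fin_cases i <;> simp only [Pi.zero_apply, Fin.zero_eta, Fin.mk_one, Fin.reduceFinMk] at hi
  · refine ⟨![-b 1, b 0, 0], ![-b 2 / b 0, 0, 1], ?_⟩
    funext j; fin_cases j <;> simp [cross3] <;> field_simp
  · refine ⟨![0, -b 2, b 1], ![1, -b 0 / b 1, 0], ?_⟩
    funext j; fin_cases j <;> simp [cross3] <;> field_simp
  · refine ⟨![b 2, 0, -b 0], ![0, 1, -b 1 / b 2], ?_⟩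
    funext j; fin_cases j <;> simp [cross3] <;> field_simp

/-- The norm. -/
def zN (x : Fin 8 → F) : F := x 0 * x 7 - dot3 (zA F x) (zB F x)

theorem zN_Zv (α β : F) (a b : Fin 3 → F) : zN (Zv α a b β) = α * β - dot3 a b := by
  rw [zN, zA_Zv, zB_Zv, Zv_zero, Zv_seven]

theorem zornMul_self (x : Fin 8 → F) : zornMul x x = (x 0 + x 7) • x - zN x • (oneZ : Fin 8 → F) := by
  obtain ⟨α, a, b, β, rfl⟩ : ∃ α a b β, x = Zv α a b β := ⟨_, _, _, _, eq_Zv x⟩
  rw [zornMul_Zv, zN_Zv]
  funext i
  fin_cases i <;> simp [Zv, oneZ, dot3, cross3] <;> ring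

theorem act_linear (g : G2 F) (c : F) (x y : Fin 8 → F) :
    act (g : GL (Fin 8) F) (c • x + y) = c • act (g : GL (Fin 8) F) x + act (g : GL (Fin 8) F) y := by
  simp [act, mulVec_add, mulVec_smul]

theorem trace_norm_act (g : G2 F) (x : Fin 8 → F) :
    act (g : GL (Fin 8) F) x 0 + act (g : GL (Fin 8) F) x 7 = x 0 + x 7 ∧
      zN (act (g : GL (Fin 8) F) x) = zN x := by
  set y := act (g : GL (Fin 8) F) x with hy
  by_cases hx : ∃ c : F, x = c • oneZ
  · obtain ⟨c, rfl⟩ := hx
    rw [hy, show act (g : GL (Fin 8) F) (c • oneZ) = c • oneZ by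
      simp only [act, mulVec_smul]; exact congrArg (c • ·) (act_one g)]
    exact ⟨rfl, rfl⟩
  have h1 := mem_G2_iff.1 g.2 x x
  rw [zornMul_self, zornMul_self, ← hy] at h1
  have h2 : act (g : GL (Fin 8) F) ((x 0 + x 7) • x - zN x • oneZ) =
      (x 0 + x 7) • y - zN x • oneZ := by
    rw [hy]; simp only [act, mulVec_sub, mulVec_smul]
    exact congrArg (fun z => _ - zN x • z) (act_one g)
  rw [h2] at h1
  have ht : (x 0 + x 7) - (y 0 + y 7) = 0 := by
    by_contra hne
    refine hx ⟨((x 0 + x 7) - (y 0 + y 7))⁻¹ * (zN x - zN y), act_injective (g : GL (Fin 8) F) ?_⟩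
    rw [← hy]
    simp only [act, mulVec_smul]
    rw [show (g : GL (Fin 8) F).val *ᵥ oneZ = oneZ from act_one g, mul_smul]
    have h3 : ((x 0 + x 7) - (y 0 + y 7)) • y = (zN x - zN y) • (oneZ : Fin 8 → F) := by
      rw [sub_smul, sub_smul]
      linear_combination (norm := module) h1
    rw [← h3, smul_smul, inv_mul_cancel₀ hne, one_smul]
  refine ⟨(sub_eq_zero.1 ht).symm, ?_⟩
  have h3 : (zN x - zN y) • (oneZ : Fin 8 → F) = 0 := by
    rw [← sub_eq_zero.1 ht] at h1
    rw [sub_smul]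
    linear_combination (norm := module) -h1
  have := congrFun h3 0
  simp [oneZ, Zv] at this
  exact (sub_eq_zero.1 this).symm

/-- Transitivity on elements of trace one and given anisotropic norm. -/
theorem exists_aniso_act_eq {c : F} (hc : ∀ z : F, z * (1 - z) ≠ c) {x : Fin 8 → F}
    (ht : x 0 + x 7 = 1) (hn : zN x = c) :
    ∃ g : G2 F, act (g : GL (Fin 8) F) (Zv 1 (Pi.single 0 (-c)) (Pi.single 0 1) 0) = x := by
  obtain ⟨α, a, b, β, rfl⟩ : ∃ α a b β, x = Zv α a b β := ⟨_, _, _, _, eq_Zv x⟩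
  rw [Zv_zero, Zv_seven] at ht
  rw [zN_Zv] at hn
  have hc0 : c ≠ 0 := fun h => hc 0 (by rw [h, zero_mul])
  have hb : b ≠ 0 := fun h => by
    subst h
    apply hc α
    rw [← hn, show dot3 a 0 = 0 by simp [dot3]]
    linear_combination -α * ht
  obtain ⟨v, hv⟩ : ∃ v, dot3 v b = α - 1 := by
    obtain ⟨j, hj⟩ := Function.ne_iff.mp hb
    refine ⟨Pi.single j ((α - 1) / b j), ?_⟩
    rw [dot3_single_left, div_mul_cancel₀ _ (show b j ≠ 0 from hj)]
  set a' := a + (α - β - dot3 v b) • v with ha'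
  set b' := b + cross3 v a with hb'
  have hn' : dot3 a' b' = -c := by
    have e1 : dot3 a' b' = dot3 a b + (α - β - dot3 v b) * dot3 v b := by
      rw [ha', hb']; simp [dot3, cross3]; ring
    rw [e1, hv]
    linear_combination -hn + ht
  have h1 : shearLin v (Zv α a b β) = Zv 1 a' b' 0 := by
    rw [shearLin_Zv, ← ha', ← hb', hv]
    exact Zv_eq_iff.mpr ⟨by ring, rfl, rfl, by linear_combination ht⟩
  have hb0 : b' ≠ 0 := fun h => by
    rw [h] at hn'
    simp [dot3] at hn'
    exact hc0 hn'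
  obtain ⟨u, w, huw⟩ := exists_cross_eq hb0
  let M : Matrix (Fin 3) (Fin 3) F := (Matrix.of ![-c⁻¹ • a', u, w])ᵀ
  have hM0 : M *ᵥ Pi.single 0 (-c) = a' := by
    funext i
    simp [M]
    field_simp
  have hMT : Mᵀ *ᵥ b' = Pi.single 0 1 := by
    rw [dot3] at hn'
    funext i
    fin_cases i
    · simp [M, mulVec, dotProduct, Fin.sum_univ_three]
      field_simp
      linear_combination -hn'
    · simp [M, mulVec, dotProduct, Fin.sum_univ_three, ← huw, cross3]; ring
    · simp [M, mulVec, dotProduct, Fin.sum_univ_three, ← huw, cross3]; ring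
  have hdet : M.det = 1 := by
    have h := congrFun hMT 0
    rw [← huw] at h
    simp [M, mulVec, dotProduct, Fin.sum_univ_three, cross3] at h
    simp [M, det_fin_three]
    linear_combination h
  let A : Matrix.SpecialLinearGroup (Fin 3) F := ⟨M, hdet⟩
  refine ⟨(shear v)⁻¹ * slAut A, act_injective ((shear v : G2 F) : GL (Fin 8) F) ?_⟩
  rw [← act_mul, mul_inv_cancel_left, act_slAut, act_shear, h1, slAutLin_Zv, show A.1 = M from rfl,
    hM0, ← hMT, mulVec_mulVec, ← transpose_mul, ← show A.1 = M from rfl,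
    ← Matrix.SpecialLinearGroup.coe_mul, mul_inv_cancel, Matrix.SpecialLinearGroup.coe_one,
    transpose_one, one_mulVec]

/-- Every automorphism fixes a trace one element modulo scalars. -/
theorem exists_affine_fixed (g : G2 F) :
    ∃ x : Fin 8 → F, x 0 + x 7 = 1 ∧
      ∃ r : F, act (g : GL (Fin 8) F) x = x + r • oneZ := by
  set T := (gAct g : Module.End F (Fin 8 → F)) with hT
  let π := (Submodule.span F {(oneZ : Fin 8 → F)}).mkQ ∘ₗ (T - 1)
  let t : (Fin 8 → F) →ₗ[F] F :=
    LinearMap.proj (R := F) (φ := fun _ : Fin 8 => F) 0 + LinearMap.proj (R := F) (φ := fun _ : Fin 8 => F) 7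
  by_cases hz : ∃ x ∈ LinearMap.ker π, t x ≠ 0
  · obtain ⟨x, hx, htx⟩ := hz
    have hx' : T x - x ∈ Submodule.span F {(oneZ : Fin 8 → F)} := by
      rw [← Submodule.Quotient.mk_eq_zero, Submodule.Quotient.mk_sub]
      simpa [π] using hx
    obtain ⟨r, hr⟩ := Submodule.mem_span_singleton.1 hx'
    refine ⟨(t x)⁻¹ • x, ?_, (t x)⁻¹ * r, ?_⟩
    · simp only [Pi.smul_apply, smul_eq_mul, ← mul_add]
      exact inv_mul_cancel₀ htx
    · rw [← gAct_apply, ← hT, map_smul, mul_smul, hr, ← smul_add, add_sub_cancel]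
  · simp only [not_exists, not_and, not_not] at hz
    exfalso
    have ht : t ∈ (LinearMap.ker π).dualAnnihilator :=
      (Submodule.mem_dualAnnihilator _).2 hz
    rw [← LinearMap.range_dualMap_eq_dualAnnihilator_ker] at ht
    obtain ⟨χ, hχ⟩ := ht
    let ψ := χ ∘ₗ (Submodule.span F {(oneZ : Fin 8 → F)}).mkQ
    have hψ1 : ψ oneZ = 0 := by
      show χ _ = 0
      rw [show (Submodule.span F {(oneZ : Fin 8 → F)}).mkQ oneZ = 0 from
        (Submodule.Quotient.mk_eq_zero _).2 (Submodule.mem_span_singleton_self _), map_zero]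
    let e : Fin 8 → F := fun i => ψ (Pi.single i 1)
    let y : Fin 8 → F := Zv (e 7) (-![e 4, e 5, e 6]) (-![e 1, e 2, e 3]) (e 0)
    have hψe : ∀ x, ψ x = ∑ i, x i * e i := fun x => by
      conv_lhs => rw [pi_eq_sum_univ' x, map_sum]
      exact Finset.sum_congr rfl fun i _ => by rw [map_smul]; rfl
    have hψB : ∀ x, zN (y + x) - zN y - zN x = ψ x := fun x => by
      rw [hψe]
      simp [zN, y, Zv, zA, zB, dot3, Fin.sum_univ_eight]
      ring
    have hty : y 0 + y 7 = 0 := by
      have := hψe oneZ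
      rw [hψ1] at this
      simp [oneZ, Zv, Fin.sum_univ_eight] at this
      simp [y, Zv]
      linear_combination -this
    -- `g⁻¹ y = y + 1`
    set y' := act ((g⁻¹ : G2 F) : GL (Fin 8) F) y with hy'
    have hgy' : act (g : GL (Fin 8) F) y' = y := by
      rw [hy', ← act_mul, mul_inv_cancel]; simp [act]
    have hkey : ∀ x, zN (y' + x) - zN y' - zN x - (zN (y + x) - zN y - zN x) = t x := fun x => by
      have h1 : t x = ψ (T x - x) := by rw [← hχ]; rfl
      rw [h1, map_sub, ← hψB, ← hψB, hT, gAct_apply, ← hgy']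
      have h2 : act (g : GL (Fin 8) F) y' + act (g : GL (Fin 8) F) x =
          act (g : GL (Fin 8) F) (y' + x) := by simp [act, mulVec_add]
      rw [h2, (trace_norm_act g (y' + x)).2, (trace_norm_act g y').2, (trace_norm_act g x).2]
    have hyy : y' = y + oneZ := by
      funext i
      fin_cases i
      all_goals first
        | (have := hkey (Pi.single 7 1); simp [zN, oneZ, Zv, zA, zB, dot3, t] at this ⊢; linear_combination this)
        | (have := hkey (Pi.single 0 1); simp [zN, oneZ, Zv, zA, zB, dot3, t] at this ⊢; linear_combination this)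
        | (have := hkey (Pi.single 4 1); simp [zN, oneZ, Zv, zA, zB, dot3, t] at this ⊢; linear_combination -this)
        | (have := hkey (Pi.single 5 1); simp [zN, oneZ, Zv, zA, zB, dot3, t] at this ⊢; linear_combination -this)
        | (have := hkey (Pi.single 6 1); simp [zN, oneZ, Zv, zA, zB, dot3, t] at this ⊢; linear_combination -this)
        | (have := hkey (Pi.single 1 1); simp [zN, oneZ, Zv, zA, zB, dot3, t] at this ⊢; linear_combination -this)
        | (have := hkey (Pi.single 2 1); simp [zN, oneZ, Zv, zA, zB, dot3, t] at this ⊢; linear_combination -this)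
        | (have := hkey (Pi.single 3 1); simp [zN, oneZ, Zv, zA, zB, dot3, t] at this ⊢; linear_combination -this)
    have hn := (trace_norm_act g y').2
    rw [hgy', hyy] at hn
    simp [zN, oneZ, Zv, zA, zB, dot3] at hn
    exact one_ne_zero (α := F) (by linear_combination -hn - hty)

theorem cover_g_two [Fintype F] [CharP F 2] : TwoCover (G2 F) := by
  classical
  obtain ⟨c, hc⟩ : ∃ c : F, ∀ z : F, z * (1 - z) ≠ c := by
    by_contra! h
    have hinj := Finite.injective_iff_surjective.2 (h : Function.Surjective fun z : F => z * (1 - z))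
    exact zero_ne_one (α := F) (hinj (by simp))
  let ω : Fin 8 → F := Zv 1 (Pi.single 0 (-c)) (Pi.single 0 1) 0
  let H := setStab (gAct (F := F)) (Submodule.span F {oneZ, e₀})
  let L := setStab (gAct (F := F)) (Submodule.span F {oneZ, ω})
  have hne : ∀ u : Fin 8 → F, u 0 = 1 → u 2 = 0 → u 7 = 0 →
      (shearLin (Pi.single 1 1) u) 2 = 1 → setStab (gAct (F := F)) (Submodule.span F {oneZ, u}) ≠ ⊤ := by
    intro u h0 h2 h7 hs htop
    have hmem : shear (Pi.single 1 1) ∈ setStab (gAct (F := F)) (Submodule.span F {oneZ, u}) :=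
      htop ▸ Subgroup.mem_top _
    have h1 : Submodule.map _ (Submodule.span F {oneZ, u}) = Submodule.span F {oneZ, u} := hmem
    have hm := Submodule.mem_map_of_mem (f := (gAct (shear (F := F) (Pi.single 1 1)) : Module.End F (Fin 8 → F)))
      (Submodule.subset_span (Set.mem_insert_of_mem oneZ (Set.mem_singleton u)) :
        u ∈ Submodule.span F {oneZ, u})
    rw [h1, gAct_apply, act_shear, Submodule.mem_span_pair] at hm
    obtain ⟨a, b, hab⟩ := hm
    have := congrFun hab 2
    simp [oneZ, Zv, h2, hs] at this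
  refine ⟨H, L, hne e₀ rfl rfl rfl ?_, hne ω rfl (by simp [ω, Zv]) rfl ?_, fun g => ?_⟩
  · rw [e₀, shearLin_Zv]; simp [Zv, dot3, cross3]
  · simp only [ω]; rw [shearLin_Zv]; simp [Zv, dot3, cross3]
  obtain ⟨x, htx, r, hr⟩ := exists_affine_fixed g
  have key : ∀ (u : Fin 8 → F) (s : F),
      (∃ h : G2 F, act (h : GL (Fin 8) F) u = x + s • oneZ) →
      ∃ k, k * g * k⁻¹ ∈ setStab (gAct (F := F)) (Submodule.span F {oneZ, u}) := by
    rintro u s ⟨h, hh⟩
    refine ⟨h⁻¹, ?_⟩
    show Submodule.map _ _ = _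
    have e1 : act ((h⁻¹ * g * h⁻¹⁻¹ : G2 F) : GL (Fin 8) F) u = u + r • oneZ := by
      refine act_injective (h : GL (Fin 8) F) ?_
      rw [← act_mul, inv_inv, show h * (h⁻¹ * g * h) = g * h by group, act_mul, hh]
      simp only [act, mulVec_add, mulVec_smul] at hr hh ⊢
      rw [hr, hh, show (g : GL (Fin 8) F).val *ᵥ oneZ = oneZ from act_one g,
        show (h : GL (Fin 8) F).val *ᵥ oneZ = oneZ from act_one h, add_right_comm]
    rw [Submodule.map_span, Set.image_insert_eq, Set.image_singleton, gAct_apply, gAct_apply,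
      act_one, e1]
    refine le_antisymm ?_ ?_ <;> rw [Submodule.span_le, Set.insert_subset_iff,
      Set.singleton_subset_iff] <;> refine ⟨Submodule.mem_span_pair.2 ⟨1, 0, by simp⟩, ?_⟩
    · exact Submodule.mem_span_pair.2 ⟨r, 1, by rw [one_smul, add_comm]⟩
    · exact Submodule.mem_span_pair.2 ⟨-r, 1, by rw [one_smul, neg_smul]; abel⟩
  -- shift the norm into `{0, c}`
  have hshift : ∀ s : F, (x + s • oneZ : Fin 8 → F) 0 + (x + s • oneZ : Fin 8 → F) 7 = 1 ∧
      zN (x + s • oneZ) = zN x + s * (1 + s) := fun s => by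
    refine ⟨?_, ?_⟩
    · simp [oneZ, Zv]
      linear_combination htx + s * CharTwo.two_eq_zero (R := F)
    · simp [zN, oneZ, Zv, zA, zB, dot3]
      linear_combination s * htx
  obtain ⟨s, hs⟩ : ∃ s : F, zN x + s * (1 + s) = 0 ∨ zN x + s * (1 + s) = c := by
    let P : F →+ F := AddMonoidHom.mk' (fun s => s * (1 + s))
      (fun a b => by linear_combination a * b * CharTwo.two_eq_zero (R := F))
    have hker : Nat.card P.ker = 2 := by
      rw [Nat.card_eq_two_iff' (⟨0, by simp⟩ : P.ker)]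
      refine ⟨⟨1, by
        show (1 : F) * (1 + 1) = 0
        linear_combination CharTwo.two_eq_zero (R := F)⟩, fun h => one_ne_zero (congrArg Subtype.val h),
        fun y hy => ?_⟩
      obtain ⟨y, hy'⟩ := y
      have : y * (1 + y) = 0 := hy'
      rcases mul_eq_zero.1 this with h | h
      · exact absurd (Subtype.ext h) hy
      · exact Subtype.ext (by linear_combination h - CharTwo.two_eq_zero (R := F))
    have hidx : P.range.index = 2 := by
      have h1 := P.range.card_mul_index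
      have h2 : Nat.card F = Nat.card P.range * Nat.card P.ker := by
        rw [P.ker.card_eq_card_quotient_mul_card_addSubgroup,
          Nat.card_congr (QuotientAddGroup.quotientKerEquivRange P).toEquiv]
      rw [hker, ← h1] at h2
      exact Nat.eq_of_mul_eq_mul_left Nat.card_pos h2
    by_cases hx : zN x ∈ P.range
    · obtain ⟨s, hs⟩ := hx
      refine ⟨s, Or.inl ?_⟩
      have hs' : s * (1 + s) = zN x := hs
      rw [hs']; linear_combination zN x * CharTwo.two_eq_zero (R := F)
    · have hcr : c ∉ P.range := fun ⟨z, hz⟩ => hc z (by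
        have hz' : z * (1 + z) = c := hz
        linear_combination hz' - z * z * CharTwo.two_eq_zero (R := F))
      have hmem : zN x + c ∈ P.range :=
        (AddSubgroup.add_mem_iff_of_index_two hidx).2 (iff_of_false hx hcr)
      obtain ⟨s, hs⟩ := hmem
      refine ⟨s, Or.inr ?_⟩
      have hs' : s * (1 + s) = zN x + c := hs
      rw [hs']; linear_combination zN x * CharTwo.two_eq_zero (R := F)
  rcases hs with hs | hs
  · obtain ⟨k, hk⟩ := key e₀ s (exists_act_eq (x := x + s • oneZ) (show _ ∧ _ from ⟨(hshift s).1, by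
      have := (hshift s).2.trans hs
      rw [zN, sub_eq_zero] at this
      exact this⟩))
    exact ⟨k, Or.inl hk⟩
  · obtain ⟨k, hk⟩ := key ω s (exists_aniso_act_eq hc (hshift s).1 ((hshift s).2.trans hs))
    exact ⟨k, Or.inr hk⟩

end Cfsg.Agent.TwoCover
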