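import Cfsg.Agent.EqLemmas

/-
Coverings of a group by the conjugates of two proper subgroups, and field-extension structures.
* `TwoCover`, `twoCover_quotient`
* `exists_ext` : degree d extension of a finite field
* `exists_commutant_ext` : an endomorphism all whose eigenvalue degrees are multiples of d commutes with a K-structure
* `semiStab` : semilinear stabiliser of a K-structure
* `exists_intertwiner` : K-structures are conjugate with prescribed determinant
-/
set_option autoImplicit false

open Polynomial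

namespace Cfsg.Agent.TwoCover

/-- Union of the conjugates of two proper subgroups. -/
def TwoCover (G : Type*) [Group G] : Prop :=
  ∃ H K : Subgroup G, H ≠ ⊤ ∧ K ≠ ⊤ ∧ ∀ g : G, ∃ x : G, x * g * x⁻¹ ∈ H ∨ x * g * x⁻¹ ∈ K

theorem twoCover_quotient {G : Type*} [Group G] (N : Subgroup G) [N.Normal] (H K : Subgroup G)
    (hNH : N ≤ H) (hNK : N ≤ K) (hH : H ≠ ⊤) (hK : K ≠ ⊤)
    (h : ∀ g : G, ∃ x : G, x * g * x⁻¹ ∈ H ∨ x * g * x⁻¹ ∈ K) : TwoCover (G ⧸ N) := by
  have key : ∀ {L : Subgroup G}, N ≤ L → L ≠ ⊤ → L.map (QuotientGroup.mk' N) ≠ ⊤ := by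
    intro L hNL hL e
    apply hL
    have := Subgroup.comap_map_eq (QuotientGroup.mk' N) L
    rw [e, Subgroup.comap_top, QuotientGroup.ker_mk', sup_eq_left.2 hNL] at this
    exact this.symm
  refine ⟨H.map (QuotientGroup.mk' N), K.map (QuotientGroup.mk' N), key hNH hH, key hNK hK, ?_⟩
  intro g
  obtain ⟨g, rfl⟩ := QuotientGroup.mk'_surjective N g
  obtain ⟨x, hx⟩ := h g
  exact ⟨QuotientGroup.mk' N x, hx.imp (fun hx => ⟨_, hx, by simp⟩) (fun hx => ⟨_, hx, by simp⟩)⟩

theorem exists_ext (F : Type*) [Field F] [Finite F] (d : ℕ) (hd : d ≠ 0) :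
    ∃ (K : Type) (_ : Field K) (_ : Algebra F K) (_ : Finite K), Module.finrank F K = d := by
  haveI : NeZero d := ⟨hd⟩
  obtain ⟨p, _⟩ := CharP.exists F
  haveI : Fact p.Prime := ⟨CharP.char_is_prime F p⟩
  exact ⟨FiniteField.Extension F p d, inferInstance, inferInstance, inferInstance,
    FiniteField.finrank_extension F p d⟩

section Commutant

variable {F : Type*} [Field F] [Fintype F] {A : Type*} [Ring A] [Algebra F A]

theorem aeval_pow_card_pow (y : A) (m : F[X]) (e : ℕ) :
    aeval (y ^ Fintype.card F ^ e) m = aeval y m ^ Fintype.card F ^ e := by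
  induction e with
  | zero => simp
  | succ e ih =>
    rw [pow_succ, pow_mul, ← expand_aeval, FiniteField.expand_card, map_pow, ih, ← pow_mul]

theorem dvd_comp_sub (m a b : F[X]) : a - b ∣ m.comp a - m.comp b := by
  have := Polynomial.sub_dvd_eval_sub a b (m.map C)
  rwa [eval_map, eval_map] at this

theorem exists_comp_root (m : F[X]) (s : Finset F[X]) (hs : ∀ f ∈ s, Irreducible f ∧ f.Monic)
    (hroot : ∀ f ∈ s, ∃ P : F[X], f ∣ m.comp P) : ∃ P : F[X], ∀ f ∈ s, f ∣ m.comp P := by
  classical
  induction s using Finset.induction with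
  | empty => exact ⟨0, fun f hf => absurd hf (Finset.notMem_empty f)⟩
  | @insert f s hf ih =>
    obtain ⟨Ps, hPs⟩ := ih (fun g hg => hs g (Finset.mem_insert_of_mem hg))
      (fun g hg => hroot g (Finset.mem_insert_of_mem hg))
    obtain ⟨Pf, hPf⟩ := hroot f (Finset.mem_insert_self f s)
    have hfirr := hs f (Finset.mem_insert_self f s)
    obtain ⟨u, v, huv⟩ : IsCoprime (∏ g ∈ s, g) f := IsCoprime.prod_left fun g hg => by
      have hgirr := hs g (Finset.mem_insert_of_mem hg)
      refine hgirr.1.coprime_iff_not_dvd.2 fun hdvd => ?_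
      have := eq_of_monic_of_associated hgirr.2 hfirr.2
        (hgirr.1.associated_of_dvd hfirr.1 hdvd)
      exact hf (this ▸ hg)
    refine ⟨Pf * (u * ∏ g ∈ s, g) + Ps * (v * f), fun g hg => ?_⟩
    rcases Finset.mem_insert.1 hg with rfl | hg'
    · have h1 : g ∣ (Pf * (u * ∏ h ∈ s, h) + Ps * (v * g)) - Pf :=
        ⟨(Ps - Pf) * v, by linear_combination Pf * huv⟩
      exact (dvd_sub_left hPf).1 (h1.trans (dvd_comp_sub m _ _))
    · have h1 : g ∣ (Pf * (u * ∏ h ∈ s, h) + Ps * (v * f)) - Ps := by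
        obtain ⟨c, hc⟩ := Finset.dvd_prod_of_mem (fun h => h) hg'
        exact ⟨(Pf - Ps) * u * c, by linear_combination Ps * huv + ((Pf - Ps) * u) * hc⟩
      exact (dvd_sub_left (hPs g hg')).1 (h1.trans (dvd_comp_sub m _ _))

theorem exists_aeval_ext (K : Type*) [Field K] [Algebra F K] [Finite K] (T : A) (Q : F[X])
    (hQ : Q ≠ 0) (hT : aeval T Q = 0)
    (hdeg : ∀ f : F[X], Irreducible f → f ∣ Q → Module.finrank F K ∣ f.natDegree) :
    ∃ ρ : K →ₐ[F] A, ∀ k, ∃ R : F[X], ρ k = aeval T R := by
  classical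
  haveI : FiniteDimensional F K := Module.Finite.of_finite
  let pb := Field.powerBasisOfFiniteOfSeparable F K
  set m := minpoly F pb.gen with hm
  set s := UniqueFactorizationMonoid.normalizedFactors Q with hs
  have hmem : ∀ f ∈ s, Irreducible f ∧ f.Monic := fun f hf =>
    ⟨UniqueFactorizationMonoid.irreducible_of_normalized_factor f hf, by
      have h1 := UniqueFactorizationMonoid.normalize_normalized_factor f hf
      rw [← h1]
      exact Polynomial.monic_normalize
        (UniqueFactorizationMonoid.irreducible_of_normalized_factor f hf).ne_zero⟩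
  obtain ⟨P, hP⟩ := exists_comp_root m s.toFinset (fun f hf => hmem f (Multiset.mem_toFinset.1 hf))
    (fun f hf => by
      rw [Multiset.mem_toFinset] at hf
      obtain ⟨hfi, hfm⟩ := hmem f hf
      haveI := Fact.mk hfi
      haveI : Module.Finite F (AdjoinRoot f) := hfm.finite_adjoinRoot
      haveI : Finite (AdjoinRoot f) := Module.finite_of_finite F
      obtain ⟨φ⟩ := FiniteField.nonempty_algHom_of_finrank_dvd (F := F) (K := K)
        (L := AdjoinRoot f) (by
          rw [(AdjoinRoot.powerBasis hfi.ne_zero).finrank, AdjoinRoot.powerBasis_dim]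
          exact hdeg f hfi (UniqueFactorizationMonoid.dvd_of_mem_normalizedFactors hf))
      obtain ⟨P, hP⟩ := AdjoinRoot.mk_surjective (φ pb.gen)
      refine ⟨P, AdjoinRoot.mk_eq_zero.1 ?_⟩
      rw [← AdjoinRoot.aeval_eq, aeval_comp, AdjoinRoot.aeval_eq, hP, aeval_algHom_apply, hm,
        minpoly.aeval, map_zero])
  have hdvd : Q ∣ m.comp P ^ Multiset.card s := by
    refine (UniqueFactorizationMonoid.prod_normalizedFactors hQ).symm.dvd.trans ?_
    have : ∀ t : Multiset F[X], (∀ f ∈ t, f ∣ m.comp P) → t.prod ∣ m.comp P ^ Multiset.card t := by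
      intro t
      induction t using Multiset.induction with
      | empty => simp
      | cons a t ih =>
        intro ht
        rw [Multiset.prod_cons, Multiset.card_cons, pow_succ']
        exact mul_dvd_mul (ht a (Multiset.mem_cons_self a t))
          (ih fun f hf => ht f (Multiset.mem_cons_of_mem hf))
    exact this _ fun f hf => hP f (Multiset.mem_toFinset.2 hf)
  set y := aeval T P ^ Fintype.card F ^ Multiset.card s with hy
  have hyroot : aeval y (minpoly F pb.gen) = 0 := by
    rw [hy, aeval_pow_card_pow, ← hm, ← aeval_comp]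
    obtain ⟨c, hc⟩ := hdvd
    refine pow_eq_zero_of_le (Nat.lt_pow_self Fintype.one_lt_card).le ?_
    rw [← map_pow, hc, map_mul, hT, zero_mul]
  refine ⟨pb.lift y hyroot, fun k => ?_⟩
  obtain ⟨R, -, rfl⟩ := pb.exists_eq_aeval k
  refine ⟨R.comp (P ^ Fintype.card F ^ Multiset.card s), ?_⟩
  rw [← aeval_algHom_apply, PowerBasis.lift_gen, aeval_comp, map_pow]

theorem exists_commutant_ext (K : Type*) [Field K] [Algebra F K] [Finite K] (T : A) (Q : F[X])
    (hQ : Q ≠ 0) (hT : aeval T Q = 0)
    (hdeg : ∀ f : F[X], Irreducible f → f ∣ Q → Module.finrank F K ∣ f.natDegree) :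
    ∃ ρ : K →ₐ[F] A, ∀ k, Commute T (ρ k) := by
  obtain ⟨ρ, hρ⟩ := exists_aeval_ext K T Q hQ hT hdeg
  refine ⟨ρ, fun k => ?_⟩
  obtain ⟨R, hR⟩ := hρ k
  have := Commute.map (commute_X R) (aeval (R := F) T)
  rwa [aeval_X, ← hR] at this

end Commutant

section Structures

variable {F : Type*} [Field F] {V : Type*} [AddCommGroup V] [Module F V]
  {K : Type*} [Field K] [Algebra F K]

theorem structure_inj (ρ : K →ₐ[F] Module.End F V) {k : K} {v : V} (hv : v ≠ 0)
    (h : ρ k v = 0) : k = 0 := by
  by_contra hk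
  apply hv
  have := congrArg (ρ k⁻¹) h
  rwa [← Module.End.mul_apply, ← map_mul, inv_mul_cancel₀ hk, map_one, Module.End.one_apply,
    map_zero] at this

theorem structure_eq_of_apply_eq (ρ : K →ₐ[F] Module.End F V) {k l : K} {v : V} (hv : v ≠ 0)
    (h : ρ k v = ρ l v) : k = l := by
  refine sub_eq_zero.1 (structure_inj ρ hv ?_)
  rw [map_sub, LinearMap.sub_apply, h, sub_self]

/-- The semilinear stabiliser of a K-structure. -/
def semiStab (ρ : K →ₐ[F] Module.End F V) : Subgroup (Module.End F V)ˣ where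
  carrier := {g | ∃ σ : K ≃ₐ[F] K, ∀ k, (g : Module.End F V) * ρ k = ρ (σ k) * g}
  one_mem' := ⟨AlgEquiv.refl, fun k => by simp⟩
  mul_mem' := by
    rintro a b ⟨σ, hσ⟩ ⟨τ, hτ⟩
    refine ⟨τ.trans σ, fun k => ?_⟩
    rw [Units.val_mul, mul_assoc, hτ, ← mul_assoc, hσ, mul_assoc]
    rfl
  inv_mem' := by
    rintro a ⟨σ, hσ⟩
    refine ⟨σ.symm, fun k => ?_⟩
    have h := hσ (σ.symm k)
    rw [σ.apply_symm_apply] at h
    calc ((a⁻¹ : (Module.End F V)ˣ) : Module.End F V) * ρ k
        = (a⁻¹ : (Module.End F V)ˣ) * (ρ k * a) * (a⁻¹ : (Module.End F V)ˣ) := by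
          rw [mul_assoc, mul_assoc (ρ k), Units.mul_inv, mul_one]
      _ = _ := by rw [← h, ← mul_assoc, Units.inv_mul, one_mul]

theorem mem_semiStab_of_commute (ρ : K →ₐ[F] Module.End F V) (g : (Module.End F V)ˣ)
    (h : ∀ k, Commute (g : Module.End F V) (ρ k)) : g ∈ semiStab ρ :=
  ⟨AlgEquiv.refl, h⟩

/-- Coordinates for a K-structure. -/
theorem exists_coords [FiniteDimensional F V] (ρ : K →ₐ[F] Module.End F V) :
    ∃ (r : ℕ) (Φ : (Fin r → K) ≃ₗ[F] V), Module.finrank F V = Module.finrank F K * r ∧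
      ∀ k x, Φ (k • x) = ρ k (Φ x) := by
  letI : Module K V := Module.compHom V ρ.toRingHom
  haveI : IsScalarTower F K V := ⟨fun c k v => by
    show ρ (c • k) v = c • ρ k v
    rw [map_smul, LinearMap.smul_apply]⟩
  haveI : Module.Finite K V := Module.Finite.of_restrictScalars_finite F K V
  let b := Module.finBasis K V
  refine ⟨Module.finrank K V, (b.equivFun.symm).restrictScalars F,
    (Module.finrank_mul_finrank F K V).symm, fun k x => ?_⟩
  exact map_smul b.equivFun.symm k x

theorem exists_intertwiner [Finite F] [Finite K] [FiniteDimensional F V]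
    (hV : 0 < Module.finrank F V) (ρ ρ' : K →ₐ[F] Module.End F V) (c : Fˣ) :
    ∃ e : V ≃ₗ[F] V, LinearMap.det (e : V →ₗ[F] V) = c ∧ ∀ k v, e (ρ k v) = ρ' k (e v) := by
  classical
  haveI : FiniteDimensional F K := Module.Finite.of_finite
  obtain ⟨r, Φ, hr, hΦ⟩ := exists_coords ρ
  obtain ⟨r', Φ', hr', hΦ'⟩ := exists_coords ρ'
  obtain rfl : r' = r := Nat.eq_of_mul_eq_mul_left Module.finrank_pos (hr'.symm.trans hr)
  have hr0 : 0 < r' := by
    rcases Nat.eq_zero_or_pos r' with h | h
    · rw [h, mul_zero] at hr; omega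
    · exact h
  let e0 : V ≃ₗ[F] V := Φ.symm.trans Φ'
  have hd0 : LinearMap.det (e0 : V →ₗ[F] V) ≠ 0 := (LinearEquiv.isUnit_det' e0).ne_zero
  obtain ⟨a, ha⟩ := FiniteField.norm_surjective F K ((c : F) * (LinearMap.det (e0 : V →ₗ[F] V))⁻¹)
  have ha0 : a ≠ 0 := fun h => by
    rw [h, Algebra.norm_zero] at ha
    exact (mul_ne_zero c.ne_zero (inv_ne_zero hd0)) ha.symm
  let i0 : Fin r' := ⟨0, hr0⟩
  let w : Fin r' → K := Pi.mulSingle i0 a
  let D : (Fin r' → K) →ₗ[K] (Fin r' → K) := Matrix.toLin' (Matrix.diagonal w)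
  have hD : LinearMap.det (D.restrictScalars F) = Algebra.norm F a := by
    rw [LinearMap.det_restrictScalars]
    show Algebra.norm F (LinearMap.det (Matrix.toLin' (Matrix.diagonal w))) = _
    rw [LinearMap.det_toLin', Matrix.det_diagonal, Finset.prod_pi_mulSingle']
    simp
  let f : V →ₗ[F] V :=
    (Φ' : (Fin r' → K) →ₗ[F] V) ∘ₗ (D.restrictScalars F) ∘ₗ (Φ.symm : V →ₗ[F] (Fin r' → K))
  have hf : LinearMap.det f = c := by
    have : f = (e0 : V →ₗ[F] V) ∘ₗ ((Φ : (Fin r' → K) →ₗ[F] V) ∘ₗ (D.restrictScalars F) ∘ₗ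
        (Φ.symm : V →ₗ[F] (Fin r' → K))) := by
      refine LinearMap.ext fun v => ?_
      simp [f, e0]
    rw [this, LinearMap.det_comp, LinearMap.det_conj, hD, ha, mul_comm,
      inv_mul_cancel_right₀ hd0]
  refine ⟨f.equivOfDetNeZero (hf ▸ c.ne_zero), ?_, fun k v => ?_⟩
  · exact hf
  · show f (ρ k v) = ρ' k (f v)
    have h1 : Φ.symm (ρ k v) = k • Φ.symm v := Φ.injective (by
      rw [hΦ, LinearEquiv.apply_symm_apply, LinearEquiv.apply_symm_apply])
    simp only [f, LinearMap.comp_apply, LinearEquiv.coe_coe, LinearMap.coe_restrictScalars, h1,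
      map_smul, hΦ']

theorem semiStab_transvection_eq_zero [FiniteDimensional F V] [FiniteDimensional F K]
    (hd : 1 < Module.finrank F K) (ρ : K →ₐ[F] Module.End F V) (φ : V →ₗ[F] F) (w : V)
    (h : ∀ k, (1 + φ.smulRight w) * ρ k = ρ k * (1 + φ.smulRight w)) : φ.smulRight w = 0 := by
  by_contra hne
  have hc : ∀ k v, φ (ρ k v) • w = φ v • ρ k w := fun k v => by
    have := LinearMap.congr_fun (h k) v
    simpa [map_add, map_smul] using this
  obtain ⟨v, hv⟩ : ∃ v, φ v ≠ 0 := by
    by_contra! hall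
    exact hne (LinearMap.ext fun v => by simp [hall v])
  have hw : w ≠ 0 := fun h0 => hne (by subst h0; exact LinearMap.ext fun v => by simp)
  have hall : ∀ k : K, k ∈ (⊥ : Subalgebra F K) := fun k => by
    refine Algebra.mem_bot.2 ⟨φ (ρ k v) / φ v, structure_eq_of_apply_eq ρ hw ?_⟩
    have := congrArg (fun x => (φ v)⁻¹ • x) (hc k v)
    simp only [smul_smul, inv_mul_cancel₀ hv, one_smul] at this
    rw [AlgHom.commutes, Module.algebraMap_end_apply, ← this, div_eq_inv_mul]
  have : Module.finrank F K = 1 :=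
    Subalgebra.bot_eq_top_iff_finrank_eq_one.1 (eq_top_iff.2 fun k _ => hall k)
  omega

/-- A transvection is semilinear only trivially, given room for a fixed K-line or two fixed vectors. -/
theorem transvection_notMem_semiStab [FiniteDimensional F V] [FiniteDimensional F K]
    (hd : 1 < Module.finrank F K) (hK : (Module.finrank F K).Prime)
    (hV : 2 < Module.finrank F V) (ρ : K →ₐ[F] Module.End F V) (φ : V →ₗ[F] F) (w : V)
    (hne : φ.smulRight w ≠ 0) (g : (Module.End F V)ˣ)
    (hg : (g : Module.End F V) = 1 + φ.smulRight w) : g ∉ semiStab ρ := by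
  rintro ⟨σ, hσ⟩
  apply hne
  refine semiStab_transvection_eq_zero hd ρ φ w fun k => ?_
  suffices hσ1 : ∀ k, σ k = k by rw [← hg, hσ, hσ1]
  have hker : 2 ≤ Module.finrank F (LinearMap.ker φ) := by
    have h1 := LinearMap.finrank_range_add_finrank_ker φ
    have h2 : Module.finrank F (LinearMap.range φ) ≤ 1 :=
      (Submodule.finrank_le _).trans (by rw [Module.finrank_self])
    omega
  have hfix : ∀ u, φ u = 0 → (g : Module.End F V) u = u := fun u hu => by simp [hg, hu]
  by_cases hline : ∃ v, v ≠ 0 ∧ ∀ k, φ (ρ k v) = 0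
  · obtain ⟨v, hv, hvk⟩ := hline
    intro k
    refine structure_eq_of_apply_eq ρ hv ?_
    have h1 := LinearMap.congr_fun (hσ k) v
    rw [Module.End.mul_apply, Module.End.mul_apply, hfix _ (hvk k),
      hfix v (by simpa using hvk 1)] at h1
    exact h1.symm
  · -- one-dimensional over `K`
    obtain ⟨r, Φ, hr, hΦ⟩ := exists_coords ρ
    obtain ⟨u, hu, hu0⟩ := Submodule.exists_mem_ne_zero_of_ne_bot
      (fun h : LinearMap.ker φ = ⊥ => by rw [h, finrank_bot] at hker; omega)
    have hrange : r ≤ 1 := by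
      by_contra! hr2
      apply hline
      let ψ : V →ₗ[F] (K →ₗ[F] F) :=
        { toFun := fun v => φ ∘ₗ (LinearMap.applyₗ v) ∘ₗ ρ.toLinearMap
          map_add' := fun a b => LinearMap.ext fun k => by simp
          map_smul' := fun c a => LinearMap.ext fun k => by simp }
      have hlt : Module.finrank F (LinearMap.range ψ) < Module.finrank F V := by
        refine lt_of_le_of_lt (Submodule.finrank_le _) ?_
        rw [Module.finrank_linearMap, Module.finrank_self, mul_one, hr]
        exact lt_mul_of_one_lt_right (by omega) hr2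
      obtain ⟨v, hv, hv0⟩ := Submodule.exists_mem_ne_zero_of_ne_bot
        (fun h : LinearMap.ker ψ = ⊥ => by
          have := LinearMap.finrank_range_add_finrank_ker ψ
          rw [h, finrank_bot] at this; omega)
      exact ⟨v, hv0, fun k => LinearMap.congr_fun (LinearMap.mem_ker.1 hv) k⟩
    have hne2 : ¬ LinearMap.ker φ ≤ Submodule.span F {u} := fun hle => by
      have := Submodule.finrank_mono hle
      rw [finrank_span_singleton hu0] at this
      omega
    obtain ⟨u', hu', hu'span⟩ := SetLike.not_le_iff_exists.1 hne2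
    have hsurj : ∃ k0, ρ k0 u = u' := by
      let ev : K →ₗ[F] V := (LinearMap.applyₗ u) ∘ₗ ρ.toLinearMap
      have hinj : Function.Injective ev := fun a b hab => structure_eq_of_apply_eq ρ hu0 hab
      have hdim : Module.finrank F K = Module.finrank F V := by
        have hr1 : r = 1 := by
          rcases Nat.eq_zero_or_pos r with h | h
          · rw [h, mul_zero] at hr; omega
          · omega
        rw [hr, hr1, mul_one]
      exact (LinearMap.injective_iff_surjective_of_finrank_eq_finrank hdim).1 hinj u'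
    obtain ⟨k0, hk0⟩ := hsurj
    have hk0fix : σ k0 = k0 := by
      refine structure_eq_of_apply_eq ρ hu0 ?_
      have h1 := LinearMap.congr_fun (hσ k0) u
      rw [Module.End.mul_apply, Module.End.mul_apply, hfix u hu, hk0, hfix u' hu'] at h1
      rw [← h1, hk0]
    have hk0F : k0 ∉ (⊥ : IntermediateField F K) := fun hmem => by
      obtain ⟨c, hc⟩ := IntermediateField.mem_bot.1 hmem
      apply hu'span
      rw [← hk0, ← hc, AlgHom.commutes, Module.algebraMap_end_apply]
      exact Submodule.smul_mem _ c (Submodule.mem_span_singleton_self u)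
    haveI := IntermediateField.isSimpleOrder_of_finrank_prime F K hK
    have htop : IntermediateField.adjoin F {k0} = ⊤ :=
      ((eq_bot_or_eq_top _).resolve_left fun h =>
        hk0F (h ▸ IntermediateField.mem_adjoin_simple_self F k0))
    intro k
    have hle : IntermediateField.adjoin F {k0} ≤
        IntermediateField.fixedField (Subgroup.zpowers σ) := by
      rw [IntermediateField.adjoin_simple_le_iff, IntermediateField.mem_fixedField_iff]
      intro f hf
      have : Subgroup.zpowers σ ≤ MulAction.stabilizer (K ≃ₐ[F] K) k0 := by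
        rw [Subgroup.zpowers_le]; exact hk0fix
      exact this hf
    rw [htop] at hle
    exact (IntermediateField.mem_fixedField_iff _ k).1 (hle IntermediateField.mem_top) σ
      (Subgroup.mem_zpowers σ)

end Structures

end Cfsg.Agent.TwoCover
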