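import Cfsg.Agent.Lib.TwoCover.Basic
import Cfsg.Agent.Lib.Unitary.Witt

/-
Irreducible endomorphisms and irreducible isometries of hermitian forms.
* `exists_field_of_irreducible` : the commutant is a field of degree the dimension
* `irreducible_isometry` : odd dimension, adjoint = Frobenius power q^n
* `exists_eigen_of_even_plane`
-/
set_option autoImplicit false

open Polynomial

namespace Cfsg.Agent.TwoCover

/-- No invariant subspace. -/
def IsIrred {F V : Type*} [Field F] [AddCommGroup V] [Module F V] (T : Module.End F V) : Prop :=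
  ∀ W : Submodule F V, (∀ w ∈ W, T w ∈ W) → W = ⊥ ∨ W = ⊤

theorem exists_field_of_irreducible {F : Type*} [Field F] [Finite F] {V : Type*} [AddCommGroup V]
    [Module F V] [FiniteDimensional F V] [Nontrivial V] (T : Module.End F V) (hT : IsIrred T) :
    ∃ _hf : Fact (Irreducible T.charpoly), ∃ ρ : AdjoinRoot T.charpoly →ₐ[F] Module.End F V,
      ρ (AdjoinRoot.root T.charpoly) = T ∧
      ∀ S : Module.End F V, Commute S T → ∃ k, ρ k = S := by
  set n := Module.finrank F V with hn
  obtain ⟨v, hv⟩ := exists_ne (0 : V)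
  have hcomm : ∀ a : F[X], Commute T (aeval T a) := fun a => by
    have := Commute.map (commute_X a) (aeval (R := F) T)
    rwa [aeval_X] at this
  have hker : ∀ a : F[X], aeval T a = 0 ∨ ∀ w, aeval T a w = 0 → w = 0 := fun a => by
    rcases hT (LinearMap.ker (aeval T a)) (fun w hw => by
      rw [LinearMap.mem_ker] at hw ⊢
      rw [← Module.End.mul_apply, ← (hcomm a).eq, Module.End.mul_apply, hw, map_zero]) with h | h
    · exact Or.inr fun w hw => by
        have : w ∈ LinearMap.ker (aeval T a) := hw
        rwa [h, Submodule.mem_bot] at this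
    · exact Or.inl (LinearMap.ker_eq_top.1 h)
  have hmon := minpoly.monic (Algebra.IsIntegral.isIntegral (R := F) T)
  have hmdeg : n ≤ (minpoly F T).natDegree := by
    let W : Submodule F V :=
      Submodule.span F (Set.range fun i : Fin (minpoly F T).natDegree => (T ^ (i : ℕ)) v)
    have hW : ∀ a : F[X], aeval T a v ∈ W := fun a => by
      rw [← aeval_modByMonic_eq_self_of_root (q := minpoly F T) (minpoly.aeval F T),
        aeval_eq_sum_range' (n := (minpoly F T).natDegree)]
      · rw [LinearMap.sum_apply]
        refine Submodule.sum_mem _ fun i hi => ?_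
        rw [LinearMap.smul_apply]
        exact Submodule.smul_mem _ _ (Submodule.subset_span ⟨⟨i, Finset.mem_range.1 hi⟩, rfl⟩)
      · exact natDegree_modByMonic_lt _ hmon (minpoly.ne_one F T)
    have hinv : ∀ w ∈ W, T w ∈ W := fun w hw => by
      induction hw using Submodule.span_induction with
      | mem x hx =>
        obtain ⟨i, rfl⟩ := hx
        have := hW (X ^ ((i : ℕ) + 1))
        rw [map_pow, aeval_X, pow_succ', Module.End.mul_apply] at this
        exact this
      | zero => simp
      | add x y _ _ hx hy => rw [map_add]; exact W.add_mem hx hy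
      | smul c x _ hx => rw [map_smul]; exact W.smul_mem c hx
    rcases hT W hinv with h | h
    · exact absurd (by have := hW 1; rwa [map_one, Module.End.one_apply, h, Submodule.mem_bot] at this) hv
    · rw [hn, ← finrank_top F V, ← h]
      exact (finrank_range_le_card _).trans (by simp)
  have heq : minpoly F T = T.charpoly :=
    (eq_of_monic_of_dvd_of_natDegree_le hmon T.charpoly_monic T.minpoly_dvd_charpoly
      (by rw [LinearMap.charpoly_natDegree]; exact hmdeg)).symm
  have hirr : Irreducible T.charpoly := by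
    rw [← heq]
    refine ⟨minpoly.not_isUnit F T, fun a b hab => ?_⟩
    have h0 : aeval T a * aeval T b = 0 := by rw [← map_mul, ← hab, minpoly.aeval]
    have ha0 : a ≠ 0 := fun h => minpoly.ne_zero (Algebra.IsIntegral.isIntegral (R := F) T)
      (by rw [hab, h, zero_mul])
    have hb0 : b ≠ 0 := fun h => minpoly.ne_zero (Algebra.IsIntegral.isIntegral (R := F) T)
      (by rw [hab, h, mul_zero])
    have key : ∀ c d : F[X], c ≠ 0 → d ≠ 0 → minpoly F T = c * d → aeval T c = 0 → IsUnit d := by
      intro c d hc hd hcd h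
      have h1 := natDegree_le_of_dvd (minpoly.dvd F T h) hc
      rw [hcd, natDegree_mul hc hd] at h1
      refine isUnit_iff_degree_eq_zero.2 ?_
      rw [degree_eq_natDegree hd, show d.natDegree = 0 by omega]
      rfl
    rcases hker a with h | h
    · exact Or.inr (key a b ha0 hb0 hab h)
    · refine Or.inl (key b a hb0 ha0 (by rw [hab, mul_comm]) (LinearMap.ext fun w => h _ ?_))
      rw [← Module.End.mul_apply, h0, LinearMap.zero_apply]
  haveI hfact := Fact.mk hirr
  let ρ : AdjoinRoot T.charpoly →ₐ[F] Module.End F V :=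
    Ideal.Quotient.liftₐ (Ideal.span {T.charpoly}) (aeval T) (fun a ha => by
      obtain ⟨c, rfl⟩ := Ideal.mem_span_singleton.1 ha
      rw [map_mul, T.aeval_self_charpoly, zero_mul])
  have hρmk : ∀ P : F[X], ρ (AdjoinRoot.mk T.charpoly P) = aeval T P := fun P => rfl
  refine ⟨hfact, ρ, ?_, ?_⟩
  · rw [← AdjoinRoot.mk_X, hρmk, aeval_X]
  · intro S hS
    let ev : AdjoinRoot T.charpoly →ₗ[F] V := (LinearMap.applyₗ v) ∘ₗ ρ.toLinearMap
    haveI : Module.Finite F (AdjoinRoot T.charpoly) := T.charpoly_monic.finite_adjoinRoot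
    have hdim : Module.finrank F (AdjoinRoot T.charpoly) = Module.finrank F V := by
      rw [(AdjoinRoot.powerBasis hirr.ne_zero).finrank, AdjoinRoot.powerBasis_dim,
        LinearMap.charpoly_natDegree]
    have hinj : Function.Injective ev := fun a b hab => structure_eq_of_apply_eq ρ hv hab
    have hsurj := (LinearMap.injective_iff_surjective_of_finrank_eq_finrank hdim).1 hinj
    have hSρ : ∀ k, Commute S (ρ k) := fun k => by
      obtain ⟨P, rfl⟩ := AdjoinRoot.mk_surjective k
      rw [hρmk]
      induction P using Polynomial.induction_on' with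
      | add a b ha hb => rw [map_add]; exact ha.add_right hb
      | monomial i c =>
        rw [aeval_monomial]
        exact Commute.mul_right (Algebra.commute_algebraMap_right c S) (hS.pow_right i)
    obtain ⟨k, hk⟩ := hsurj (S v)
    refine ⟨k, LinearMap.ext fun w => ?_⟩
    obtain ⟨l, rfl⟩ := hsurj w
    show ρ k (ρ l v) = S (ρ l v)
    rw [← Module.End.mul_apply S, (hSρ l).eq, Module.End.mul_apply, ← show ρ k v = S v from hk,
      ← Module.End.mul_apply, ← Module.End.mul_apply, ← map_mul, ← map_mul, mul_comm]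

open Cfsg.Agent.Unitary

universe u

variable {F : Type u} [Field F] [Fintype F] {q : ℕ} {V : Type*} [AddCommGroup V] [Module F V]
  [FiniteDimensional F V] [Nontrivial V]

theorem irreducible_isometry (hF : Fintype.card F = q ^ 2) {h : V → V → F} (H : IsHerm q h)
    (hnd : Unitary.Nondeg h) (T : Module.End F V) (hiso : ∀ u v, h (T u) (T v) = h u v)
    (hT : IsIrred T) :
    Odd (Module.finrank F V) ∧ ∃ (K : Type u) (_ : Field K) (_ : Algebra F K) (_ : Finite K)
      (ρ : K →ₐ[F] Module.End F V), Module.finrank F K = Module.finrank F V ∧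
      (∀ k u v, h (ρ k u) v = h u (ρ (k ^ q ^ Module.finrank F V) v)) ∧
      (∀ S : Module.End F V, Commute S T → ∃ k, ρ k = S) ∧ ∃ θ, ρ θ = T := by
  obtain ⟨hfact, ρ, hρT, hρS⟩ := exists_field_of_irreducible T hT
  set K := AdjoinRoot T.charpoly
  set n := Module.finrank F V with hn
  haveI : Module.Finite F K := T.charpoly_monic.finite_adjoinRoot
  haveI : Finite K := Module.finite_of_finite F
  have hK : Module.finrank F K = n := by
    rw [(AdjoinRoot.powerBasis (Fact.out : Irreducible T.charpoly).ne_zero).finrank,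
      AdjoinRoot.powerBasis_dim, LinearMap.charpoly_natDegree]
  obtain ⟨v0, hv0⟩ := exists_ne (0 : V)
  -- adjoints
  have huniq : ∀ k l l', (∀ u v, h (ρ k u) v = h u (ρ l v)) → (∀ u v, h (ρ k u) v = h u (ρ l' v)) →
      l = l' := fun k l l' h1 h2 => by
    refine structure_eq_of_apply_eq ρ hv0 (sub_eq_zero.1 (hnd _ fun u => (H.eq_zero_symm hF).1 ?_))
    rw [H.sub_right hF, ← h1, ← h2, sub_self]
  have hex : ∀ k : K, ∃ l : K, ∀ u v, h (ρ k u) v = h u (ρ l v) := fun k => by
    obtain ⟨P, rfl⟩ := AdjoinRoot.mk_surjective k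
    induction P using Polynomial.induction_on with
    | C c =>
      refine ⟨algebraMap F K (c ^ q), fun u v => ?_⟩
      rw [AdjoinRoot.mk_C, ← AdjoinRoot.algebraMap_eq, AlgHom.commutes, AlgHom.commutes,
        Module.algebraMap_end_apply, Module.algebraMap_end_apply, H.smul_left, H.smul_right,
        pow_q_pow_q hF]
    | add a b ha hb =>
      obtain ⟨la, hla⟩ := ha
      obtain ⟨lb, hlb⟩ := hb
      exact ⟨la + lb, fun u v => by
        rw [map_add, map_add, map_add, LinearMap.add_apply, LinearMap.add_apply, H.add_left,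
          H.add_right hF, hla, hlb]⟩
    | monomial i a ih =>
      obtain ⟨l, hl⟩ := ih
      refine ⟨l * (AdjoinRoot.root T.charpoly)⁻¹, fun u v => ?_⟩
      have hroot : AdjoinRoot.root T.charpoly ≠ 0 := fun h0 => hv0 (hnd v0 fun w => by
        have hT0 : T = 0 := by rw [← hρT, h0, map_zero]
        rw [← hiso v0 w, hT0, LinearMap.zero_apply, H.zero_left])
      have e : AdjoinRoot.mk T.charpoly (C a * X ^ (i + 1)) =
          AdjoinRoot.mk T.charpoly (C a * X ^ i) * AdjoinRoot.root T.charpoly := by
        rw [← AdjoinRoot.mk_X, ← map_mul, pow_succ, mul_assoc]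
      rw [e, map_mul, Module.End.mul_apply, hl, map_mul, Module.End.mul_apply, hρT]
      have hTw : ∀ w, T w = ρ (AdjoinRoot.root T.charpoly) w := fun w =>
        (LinearMap.congr_fun hρT w).symm
      have hcomm : ∀ w, ρ l (T w) = T (ρ l w) := fun w => by
        simp only [hTw, ← Module.End.mul_apply, ← map_mul, mul_comm]
      have hTv : T (ρ (AdjoinRoot.root T.charpoly)⁻¹ v) = v := by
        simp only [hTw, ← Module.End.mul_apply, ← map_mul, mul_inv_cancel₀ hroot, map_one,
          Module.End.one_apply]
      conv_rhs => rw [← hiso, ← hcomm, hTv]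
  choose τ hτ using hex
  let τhom : K →+* K :=
    { toFun := τ
      map_one' := huniq 1 _ _ (hτ 1) (fun u v => by simp)
      map_mul' := fun a b => huniq (a * b) _ _ (hτ _) (fun u v => by
        rw [mul_comm (τ a), map_mul, map_mul, Module.End.mul_apply, Module.End.mul_apply, hτ, hτ])
      map_zero' := huniq 0 _ _ (hτ 0) (fun u v => by simp [H.zero_left, H.zero_right hF])
      map_add' := fun a b => huniq (a + b) _ _ (hτ _) (fun u v => by
        rw [map_add, map_add, LinearMap.add_apply, LinearMap.add_apply, H.add_left,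
          H.add_right hF, hτ, hτ]) }
  have hττ : ∀ k, τ (τ k) = k := fun k => huniq (τ k) _ _ (hτ _) (fun u v => by
    rw [H.conj_symm v, ← hτ, ← H.conj_symm])
  have hτF : ∀ c : F, τ (algebraMap F K c) = algebraMap F K c ^ q := fun c =>
    huniq _ _ _ (hτ _) (fun u v => by
      rw [← map_pow, AlgHom.commutes, AlgHom.commutes, Module.algebraMap_end_apply,
        Module.algebraMap_end_apply, H.smul_left, H.smul_right, pow_q_pow_q hF])
  obtain ⟨p, _⟩ := CharP.exists F
  haveI : Fact p.Prime := ⟨CharP.char_is_prime F p⟩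
  haveI : CharP K p := charP_of_injective_algebraMap (algebraMap F K).injective p
  letI := ZMod.algebra K p
  letI := Fintype.ofFinite K
  let τe : K ≃ₐ[ZMod p] K :=
    AlgEquiv.ofRingEquiv (f := RingEquiv.ofBijective τhom
      ⟨τhom.injective, fun k => ⟨τ k, hττ k⟩⟩)
      (fun x => RingHom.congr_fun (Subsingleton.elim (τhom.comp (algebraMap (ZMod p) K))
        (algebraMap (ZMod p) K)) x)
  obtain ⟨⟨k, hk⟩, hkτ⟩ := (FiniteField.bijective_frobeniusAlgEquivOfAlgebraic_pow (ZMod p) K).2 τe
  simp only at hkτ
  have hform : ∀ x : K, τ x = x ^ p ^ k := fun x => by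
    have h1 := congrArg (fun e : K ≃ₐ[ZMod p] K => e x) hkτ
    simp only [AlgEquiv.coe_pow, FiniteField.coe_frobeniusAlgEquivOfAlgebraic, pow_iterate,
      ZMod.card] at h1
    exact h1.symm
  have hτne : ¬ ∀ c : F, c ^ q = c := fun hc => conjHom_ne_id hF (RingHom.ext fun c => hc c)
  have hk0 : k ≠ 0 := fun h0 => hτne fun c => (algebraMap F K).injective (by
    rw [map_pow, ← hτF, hform, h0, pow_zero, pow_one])
  have hdvd : Module.finrank (ZMod p) K ∣ 2 * k := by
    rw [← FiniteField.orderOf_frobeniusAlgEquivOfAlgebraic]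
    refine orderOf_dvd_of_pow_eq_one ?_
    rw [mul_comm, pow_mul, hkτ]
    refine AlgEquiv.ext fun x => ?_
    rw [pow_two, AlgEquiv.mul_apply]
    exact hττ x
  have h2k : Module.finrank (ZMod p) K = 2 * k := by
    obtain ⟨c, hc⟩ := hdvd
    rcases c with _ | _ | c
    · omega
    · omega
    · have : 2 * Module.finrank (ZMod p) K ≤ Module.finrank (ZMod p) K * (c + 1 + 1) := by
        rw [mul_comm 2]; exact Nat.mul_le_mul_left _ (by omega)
      omega
  have hpk : p ^ k = q ^ n := by
    refine Nat.pow_left_injective two_ne_zero ?_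
    show (p ^ k) ^ 2 = (q ^ n) ^ 2
    rw [← pow_mul, mul_comm k, ← h2k, FiniteField.pow_finrank_eq_natCard,
      Module.natCard_eq_pow_finrank (K := F), hK, Nat.card_eq_fintype_card, hF, ← pow_mul,
      ← pow_mul, mul_comm]
  refine ⟨?_, K, inferInstance, inferInstance, inferInstance, ρ, hK, fun x u v => ?_, hρS, _, hρT⟩
  · rcases Nat.even_or_odd n with ⟨j, hj⟩ | hodd
    swap
    · exact hodd
    exfalso
    refine hτne fun c => (algebraMap F K).injective ?_
    rw [map_pow, ← hτF, hform, hpk, hj, ← two_mul, pow_mul, ← map_pow]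
    congr 1
    clear hj hpk
    induction j with
    | zero => simp
    | succ j ih => rw [pow_succ, pow_mul, ih, ← hF, FiniteField.pow_card]
  · rw [← hpk, ← hform]; exact hτ x u v

/-- An isometry of a nondegenerate plane has an eigenvector. -/
theorem exists_eigen_of_plane (hF : Fintype.card F = q ^ 2) {h : V → V → F} (H : IsHerm q h)
    (hnd : Unitary.Nondeg h) (T : Module.End F V) (hiso : ∀ u v, h (T u) (T v) = h u v)
    (h2 : Module.finrank F V = 2) : ∃ v ≠ (0 : V), ∃ c : F, T v = c • v := by
  by_contra hno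
  simp only [not_exists, not_and] at hno
  have hT : IsIrred T := fun W hW => by
    have hle := Submodule.finrank_le W
    rw [h2] at hle
    rcases (show Module.finrank F W = 0 ∨ Module.finrank F W = 1 ∨ Module.finrank F W = 2 by omega)
      with hW0 | hW1 | hW2
    · exact Or.inl (Submodule.finrank_eq_zero.1 hW0)
    · exfalso
      obtain ⟨⟨v, hv⟩, hv0, hspan⟩ := finrank_eq_one_iff'.1 hW1
      obtain ⟨c, hc⟩ := hspan ⟨T v, hW v hv⟩
      exact hno v (fun h0 => hv0 (Subtype.ext h0)) c (congrArg Subtype.val hc).symm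
    · exact Or.inr (Submodule.eq_top_of_finrank_eq (hW2.trans h2.symm))
  have := (irreducible_isometry hF H hnd T hiso hT).1
  rw [h2] at this
  exact absurd this (by decide)

end Cfsg.Agent.TwoCover
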