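import Cfsg.Agent.Lib.TwoCover.Basic

/-
PSL_2, PSL_3, PSL_4 are covered by point stabiliser and extension-field normaliser conjugates.
* `setStab`, `cover_psl_two`, `cover_psl_three`, `cover_psl_four`
-/
set_option autoImplicit false

open Matrix Polynomial

namespace Cfsg.Agent.TwoCover

/-- The stabiliser of a subspace. -/
def setStab {G : Type*} [Group G] {F V : Type*} [Field F] [AddCommGroup V] [Module F V]
    (φ : G →* (Module.End F V)ˣ) (W : Submodule F V) : Subgroup G where
  carrier := {g | W.map ((φ g : Module.End F V)) = W}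
  one_mem' := by simp [Module.End.one_eq_id]
  mul_mem' := by
    intro a b ha hb
    simp only [Set.mem_setOf_eq] at ha hb ⊢
    rw [map_mul, Units.val_mul, Module.End.mul_eq_comp, Submodule.map_comp, hb, ha]
  inv_mem' := by
    intro a ha
    simp only [Set.mem_setOf_eq] at ha ⊢
    conv_lhs => rw [← ha, ← Submodule.map_comp, ← Module.End.mul_eq_comp, ← Units.val_mul,
      ← map_mul, inv_mul_cancel, map_one, Units.val_one, Module.End.one_eq_id, Submodule.map_id]

variable {F : Type*} [Field F] {n : ℕ}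

/-- SL acting on column vectors. -/
def slAct : Matrix.SpecialLinearGroup (Fin n) F →* (Module.End F (Fin n → F))ˣ :=
  Matrix.GeneralLinearGroup.toLin.toMonoidHom.comp Matrix.SpecialLinearGroup.toGL

theorem slAct_apply (g : Matrix.SpecialLinearGroup (Fin n) F) (v : Fin n → F) :
    (slAct g : Module.End F (Fin n → F)) v = g.1 *ᵥ v := rfl

theorem slAct_center {z : Matrix.SpecialLinearGroup (Fin n) F}
    (hz : z ∈ Subgroup.center (Matrix.SpecialLinearGroup (Fin n) F)) :
    ∃ r : F, r ≠ 0 ∧ ∀ v, (slAct z : Module.End F (Fin n → F)) v = r • v := by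
  obtain ⟨r, hr, he⟩ := Matrix.SpecialLinearGroup.mem_center_iff.1 hz
  rcases Nat.eq_zero_or_pos n with rfl | hn
  · exact ⟨1, one_ne_zero, fun v => Subsingleton.elim _ _⟩
  refine ⟨r, fun h0 => ?_, fun v => ?_⟩
  · rw [h0, Fintype.card_fin, zero_pow hn.ne'] at hr
    exact zero_ne_one hr
  rw [slAct_apply, ← he]
  funext i
  simp [Matrix.mulVec_diagonal, Pi.smul_apply]

/-- The transvection `v ↦ v + (f ⬝ v) w`. -/
def slTransv (w f : Fin n → F) (h : f ⬝ᵥ w = 0) : Matrix.SpecialLinearGroup (Fin n) F :=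
  ⟨1 + vecMulVec w f, by
    rw [vecMulVec_eq Unit, det_one_add_replicateCol_mul_replicateRow, h, add_zero]⟩

theorem slTransv_apply (w f : Fin n → F) (h : f ⬝ᵥ w = 0) (v : Fin n → F) :
    (slTransv w f h).1 *ᵥ v = v + (f ⬝ᵥ v) • w := by
  show (1 + vecMulVec w f) *ᵥ v = _
  rw [add_mulVec, one_mulVec, vecMulVec_mulVec]
  simp

/-- `f` as a functional. -/
def dotLin (f : Fin n → F) : (Fin n → F) →ₗ[F] F where
  toFun v := f ⬝ᵥ v
  map_add' := dotProduct_add f
  map_smul' c v := by simp [dotProduct_smul]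

theorem slAct_slTransv (w f : Fin n → F) (h : f ⬝ᵥ w = 0) :
    (slAct (slTransv w f h) : Module.End F (Fin n → F)) = 1 + (dotLin f).smulRight w :=
  LinearMap.ext fun v => slTransv_apply w f h v

theorem exists_sl_line {v u : Fin n → F} (hv : v ≠ 0) (hu : u ≠ 0) :
    ∃ (x : Matrix.SpecialLinearGroup (Fin n) F) (c : F), c ≠ 0 ∧ x.1 *ᵥ v = c • u := by
  by_cases hdep : ∃ c : F, v = c • u
  · obtain ⟨c, rfl⟩ := hdep
    exact ⟨1, c, fun h0 => hv (by simp [h0]), by simp⟩
  simp only [not_exists] at hdep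
  have hli : LinearIndependent F ![v, u] := by
    rw [linearIndependent_fin2]
    exact ⟨hu, fun a ha => hdep a ha.symm⟩
  obtain ⟨ψ, hψ⟩ := LinearMap.exists_extend ((Module.Basis.span hli).constr F ![(1 : F), 1])
  have hψi : ∀ i, ψ (![v, u] i) = ![(1 : F), 1] i := fun i => by
    have := LinearMap.congr_fun hψ (Module.Basis.span hli i)
    rw [LinearMap.comp_apply, Module.Basis.constr_basis] at this
    simpa [Module.Basis.span_apply] using this
  let f : Fin n → F := fun i => ψ (Pi.single i 1)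
  have hf : ∀ x, f ⬝ᵥ x = ψ x := fun x => by
    conv_rhs => rw [pi_eq_sum_univ' x, map_sum]
    exact Finset.sum_congr rfl fun i _ => by rw [map_smul, smul_eq_mul, mul_comm]
  have hv1 : f ⬝ᵥ v = 1 := (hf v).trans (hψi 0)
  have hu1 : f ⬝ᵥ u = 1 := (hf u).trans (hψi 1)
  refine ⟨slTransv (u - v) f (by rw [dotProduct_sub, hu1, hv1, sub_self]), 1, one_ne_zero, ?_⟩
  rw [slTransv_apply, hv1]
  simp

variable [Fintype F]

theorem degree_of_no_root {d : ℕ} (hn : (n = 2 ∧ d = 2) ∨ (n = 3 ∧ d = 3) ∨ (n = 4 ∧ d = 2))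
    {χ : F[X]} (hχd : χ.natDegree = n) (hroot : ∀ c, ¬ χ.IsRoot c) {f : F[X]}
    (hf : Irreducible f) (hdvd : f ∣ χ) : d ∣ f.natDegree := by
  have hχ0 : χ ≠ 0 := fun h => hroot 0 (by simp [h])
  obtain ⟨g, hg⟩ := hdvd
  have hg0 : g ≠ 0 := fun h => hχ0 (by rw [hg, h, mul_zero])
  have hadd : f.natDegree + g.natDegree = n := by rw [← hχd, hg, natDegree_mul hf.ne_zero hg0]
  have hpos : 0 < f.natDegree := hf.natDegree_pos
  have h1 : ∀ h : F[X], h ∣ χ → h.natDegree ≠ 1 := fun h hh hdeg => by
    obtain ⟨c, hc⟩ := Polynomial.exists_root_of_degree_eq_one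
      ((degree_eq_iff_natDegree_eq_of_pos one_pos).2 hdeg)
    exact hroot c (hc.dvd hh)
  have hf1 := h1 f ⟨g, hg⟩
  have hg1 := h1 g ⟨f, by rw [hg, mul_comm]⟩
  rcases hn with ⟨rfl, rfl⟩ | ⟨rfl, rfl⟩ | ⟨rfl, rfl⟩
  · rw [show f.natDegree = 2 by omega]
  · rw [show f.natDegree = 3 by omega]
  · rcases (show f.natDegree = 2 ∨ f.natDegree = 4 by omega) with h | h <;> rw [h] <;> norm_num

theorem cover_psl {d : ℕ} (hn : (n = 2 ∧ d = 2 ∧ 3 ≤ Fintype.card F) ∨ (n = 3 ∧ d = 3) ∨ (n = 4 ∧ d = 2)) :
    TwoCover (Matrix.ProjectiveSpecialLinearGroup (Fin n) F) := by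
  classical
  have hn2 : 2 ≤ n := by omega
  have hd0 : d ≠ 0 := by omega
  have hdn : (n = 2 ∧ d = 2) ∨ (n = 3 ∧ d = 3) ∨ (n = 4 ∧ d = 2) := by omega
  obtain ⟨K, _, _, _, hK⟩ := exists_ext F d hd0
  haveI : FiniteDimensional F K := Module.Finite.of_finite
  let e0 : Fin n → F := Pi.single ⟨0, by omega⟩ 1
  let e1 : Fin n → F := Pi.single ⟨1, by omega⟩ 1
  have he0 : e0 ≠ 0 := fun h => by
    have := congrFun h ⟨0, by omega⟩
    simp [e0] at this
  have he10 : e0 ⬝ᵥ e1 = 0 := by simp [e0, e1]
  -- a K-structure on F^n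
  obtain ⟨r, hr⟩ : ∃ r, n = d * r := by
    rcases hdn with ⟨rfl, rfl⟩ | ⟨rfl, rfl⟩ | ⟨rfl, rfl⟩
    · exact ⟨1, rfl⟩
    · exact ⟨1, rfl⟩
    · exact ⟨2, rfl⟩
  let Φ : (Fin r → K) ≃ₗ[F] (Fin n → F) := LinearEquiv.ofFinrankEq _ _ (by
    rw [Module.finrank_pi_fintype, Finset.sum_const, hK, Finset.card_univ, Fintype.card_fin,
      Module.finrank_fin_fun, hr, smul_eq_mul, mul_comm])
  let ρ₀ : K →ₐ[F] Module.End F (Fin n → F) :=
    (Φ.conjAlgEquiv F).toAlgHom.comp (Algebra.lsmul F F (Fin r → K))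
  let H := setStab (slAct (n := n) (F := F)) (Submodule.span F {e0})
  let L := (semiStab ρ₀).comap (slAct (n := n) (F := F))
  refine twoCover_quotient _ H L ?_ ?_ ?_ ?_ ?_
  · intro z hz
    obtain ⟨c, hc0, hc⟩ := slAct_center hz
    show Submodule.map _ _ = _
    rw [Submodule.map_span, Set.image_singleton, hc,
      Submodule.span_singleton_smul_eq (isUnit_iff_ne_zero.2 hc0)]
  · intro z hz
    obtain ⟨c, -, hc⟩ := slAct_center hz
    exact mem_semiStab_of_commute ρ₀ _ fun k => LinearMap.ext fun v => by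
      simp [Module.End.mul_apply, hc]
  · intro htop
    have hmem : slTransv e1 e0 he10 ∈ H := htop ▸ Subgroup.mem_top _
    have h1 : Submodule.map _ (Submodule.span F {e0}) = Submodule.span F {e0} := hmem
    rw [Submodule.map_span, Set.image_singleton] at h1
    have h2 := Submodule.mem_span_singleton_self (R := F)
      ((slAct (slTransv e1 e0 he10) : Module.End F (Fin n → F)) e0)
    rw [h1, Submodule.mem_span_singleton] at h2
    obtain ⟨c, hc⟩ := h2
    rw [slAct_apply, slTransv_apply] at hc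
    have := congrFun hc ⟨1, by omega⟩
    simp [e0, e1, Fin.ext_iff] at this
  · intro htop
    have hT : ∀ a : F, slTransv (a • e1) e0 (by rw [dotProduct_smul, he10, smul_zero]) ∈ L :=
      fun a => htop ▸ Subgroup.mem_top _
    have hne : ∀ a : F, a ≠ 0 → (dotLin e0).smulRight (a • e1) ≠ 0 := fun a ha h => by
      have := congrFun (LinearMap.congr_fun h e0) ⟨1, by omega⟩
      simp [dotLin, e0, e1, Fin.ext_iff, ha] at this
    by_cases h2 : n = 2
    · have hd2 : d = 2 := by omega
      have hq : 3 ≤ Fintype.card F := by omega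
      obtain ⟨a, ha⟩ : ∃ a : F, a ≠ 0 ∧ a ≠ 1 := by
        by_contra! hc
        have : Finset.univ ⊆ ({0, 1} : Finset F) := fun x _ => by
          by_cases hx : x = 0
          · simp [hx]
          · simp [hc x hx]
        have := Finset.card_le_card this
        rw [Finset.card_univ] at this
        have := (Finset.card_le_two (a := (0 : F)) (b := 1))
        omega
      -- three non-trivial translations map to the Galois group of order two
      obtain ⟨σ, hσ⟩ := hT a
      obtain ⟨τ, hτ⟩ := hT 1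
      rw [slAct_slTransv] at hσ hτ
      have hd1 : 1 < Module.finrank F K := by omega
      have hσ1 : σ ≠ 1 := fun h => hne a ha.1 (semiStab_transvection_eq_zero hd1 ρ₀ _ _
        fun k => by simpa [h] using hσ k)
      have hτ1 : τ ≠ 1 := fun h => hne 1 one_ne_zero (semiStab_transvection_eq_zero hd1 ρ₀ _ _
        fun k => by simpa [h] using hτ k)
      have hcard : Nat.card (K ≃ₐ[F] K) = 2 := by rw [IsGalois.card_aut_eq_finrank, hK, hd2]
      haveI : Finite (K ≃ₐ[F] K) := Nat.finite_of_card_ne_zero (by omega)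
      obtain ⟨x, -, hx⟩ := Nat.card_eq_two_iff' (1 : K ≃ₐ[F] K) |>.1 hcard
      have hστ : σ = τ := (hx σ hσ1).trans (hx τ hτ1).symm
      refine hne (a - 1) (sub_ne_zero.2 ha.2) (semiStab_transvection_eq_zero hd1 ρ₀ _ _ fun k => ?_)
      have e1' : (dotLin e0).smulRight ((a - 1) • e1) =
          (dotLin e0).smulRight (a • e1) - (dotLin e0).smulRight ((1 : F) • e1) := by
        refine LinearMap.ext fun v => ?_
        simp [sub_smul, smul_sub]
      obtain ⟨k, rfl⟩ := τ.surjective k
      have h := hσ k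
      have h' := hτ k
      rw [hστ] at h
      have hsq : (dotLin e0).smulRight ((1 : F) • e1) * (dotLin e0).smulRight (a • e1) = 0 := by
        refine LinearMap.ext fun v => ?_
        simp [dotLin, he10, dotProduct_smul]
      have hprod : (1 + (dotLin e0).smulRight ((a - 1) • e1)) *
          (1 + (dotLin e0).smulRight ((1 : F) • e1)) = 1 + (dotLin e0).smulRight (a • e1) := by
        refine LinearMap.ext fun v => ?_
        simp [dotLin, he10, dotProduct_smul, dotProduct_add, sub_smul, smul_sub, mul_smul]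
      rw [← hprod, mul_assoc, h'] at h
      -- cancel the unit on the right
      have hu : IsUnit (1 + (dotLin e0).smulRight ((1 : F) • e1)) := by
        refine IsNilpotent.isUnit_one_add ⟨2, LinearMap.ext fun v => ?_⟩
        simp [pow_two, dotLin, he10, dotProduct_smul]
      refine hu.mul_right_cancel ?_
      rw [mul_assoc, mul_assoc]
      simpa [mul_assoc] using h
    · exact transvection_notMem_semiStab (by omega) (by rw [hK]; rcases hdn with h | h | h <;>
        rw [h.2] <;> norm_num) (by rw [Module.finrank_fin_fun]; omega) ρ₀ _ _ (hne 1 one_ne_zero) _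
        (slAct_slTransv _ _ _) (hT 1)
  · intro g
    set T := (slAct g : Module.End F (Fin n → F)) with hT
    by_cases hev : ∃ v : Fin n → F, v ≠ 0 ∧ ∃ c : F, T v = c • v
    · obtain ⟨v, hv, c, hc⟩ := hev
      obtain ⟨x, a, ha, hx⟩ := exists_sl_line hv he0
      refine ⟨x, Or.inl ?_⟩
      have hc0 : c ≠ 0 := fun h0 => hv (by
        have h := congrArg (((slAct g)⁻¹ : (Module.End F (Fin n → F))ˣ) : Module.End F (Fin n → F)) hc
        rw [h0, zero_smul, map_zero, ← Module.End.mul_apply, Units.inv_mul] at h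
        exact h)
      have hve : x⁻¹.1 *ᵥ e0 = a⁻¹ • v := by
        have := congrArg (fun y => a⁻¹ • (x⁻¹.1 *ᵥ y)) hx
        simp only [mulVec_smul, mulVec_mulVec, ← Matrix.SpecialLinearGroup.coe_mul,
          inv_mul_cancel, Matrix.SpecialLinearGroup.coe_one, one_mulVec, smul_smul,
          inv_mul_cancel₀ ha, one_smul] at this
        exact this.symm
      show Submodule.map _ _ = _
      rw [Submodule.map_span, Set.image_singleton]
      have : (slAct (x * g * x⁻¹) : Module.End F (Fin n → F)) e0 = c • e0 := by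
        rw [map_mul, map_mul, Units.val_mul, Units.val_mul, Module.End.mul_apply,
          Module.End.mul_apply, slAct_apply x⁻¹, hve, map_smul, hc, map_smul, map_smul,
          slAct_apply, hx, smul_smul, smul_smul]
        congr 1
        field_simp
      rw [this, Submodule.span_singleton_smul_eq (isUnit_iff_ne_zero.2 hc0)]
    · simp only [not_exists, not_and] at hev
      have hχ : T.charpoly.natDegree = n := by
        rw [LinearMap.charpoly_natDegree, Module.finrank_fin_fun]
      have hroot : ∀ c, ¬ T.charpoly.IsRoot c := fun c hc => by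
        obtain ⟨v, hv⟩ := ((Module.End.hasEigenvalue_iff_isRoot_charpoly T c).2 hc).exists_hasEigenvector
        exact hev v hv.2 c hv.apply_eq_smul
      obtain ⟨ρ, hρ⟩ := exists_commutant_ext K T T.charpoly (LinearMap.charpoly_monic T).ne_zero
        T.aeval_self_charpoly
        (fun f hf hdvd => hK.symm ▸ degree_of_no_root hdn hχ hroot hf hdvd)
      obtain ⟨e, hdet, he⟩ := exists_intertwiner (by rw [Module.finrank_fin_fun]; omega) ρ ρ₀ 1
      let x : Matrix.SpecialLinearGroup (Fin n) F :=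
        ⟨LinearMap.toMatrix' (e : (Fin n → F) →ₗ[F] (Fin n → F)), by
          rw [LinearMap.det_toMatrix', hdet, Units.val_one]⟩
      have hxe : (slAct x : Module.End F (Fin n → F)) = (e : (Fin n → F) →ₗ[F] (Fin n → F)) :=
        LinearMap.ext fun v => LinearMap.toMatrix'_mulVec _ v
      refine ⟨x, Or.inr (mem_semiStab_of_commute ρ₀ _ fun k => LinearMap.ext fun v => ?_)⟩
      obtain ⟨w, rfl⟩ : ∃ w, (slAct x : Module.End F (Fin n → F)) w = v :=
        ⟨e.symm v, by rw [hxe]; exact e.apply_symm_apply v⟩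
      have hinv : ∀ y, (slAct x⁻¹ : Module.End F (Fin n → F)) ((slAct x : Module.End F (Fin n → F)) y) = y :=
        fun y => by rw [← Module.End.mul_apply, ← Units.val_mul, ← map_mul, inv_mul_cancel,
          map_one, Units.val_one, Module.End.one_apply]
      have he' : ∀ k y, ρ₀ k ((slAct x : Module.End F (Fin n → F)) y) =
          (slAct x : Module.End F (Fin n → F)) (ρ k y) := fun k y => by
        rw [hxe]; exact (he k y).symm
      simp only [map_mul, Units.val_mul, Module.End.mul_apply]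
      rw [he', hinv, hinv, he']
      congr 1
      exact LinearMap.congr_fun (hρ k).eq w

theorem cover_psl_two (h : 3 ≤ Fintype.card F) :
    TwoCover (Matrix.ProjectiveSpecialLinearGroup (Fin 2) F) :=
  cover_psl (Or.inl ⟨rfl, rfl, h⟩)

theorem cover_psl_three : TwoCover (Matrix.ProjectiveSpecialLinearGroup (Fin 3) F) :=
  cover_psl (Or.inr (Or.inl ⟨rfl, rfl⟩))

theorem cover_psl_four : TwoCover (Matrix.ProjectiveSpecialLinearGroup (Fin 4) F) :=
  cover_psl (Or.inr (Or.inr ⟨rfl, rfl⟩))

end Cfsg.Agent.TwoCover
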