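import Cfsg.Agent.Lib.TwoCover.SpBase
import Cfsg.Agent.Lib.GLOrder.Symplectic

/-
The two subgroups covering Sp₆(3^a): extension-field group and plane stabiliser.
* `Cubic`, `exists_cubic`, `cubicModel`, `sixL`, `cover_of_model`, `sixL_ne_top`
* `sixP`, `cover_of_pair`, `cover_of_nondeg`, `sixP_ne_top`
-/
set_option autoImplicit false

open Matrix

namespace Cfsg.Agent.TwoCover

variable {F : Type*} [Field F]

local notation "V" => (Fin 3 ⊕ Fin 3 → F)
local notation "B" => Cfsg.Agent.GLOrder.sympB 3 F

theorem spAct_sympB (g : Matrix.symplecticGroup (Fin 3) F) (u v : V) :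
    B ((spAct g : Module.End F V) u) ((spAct g : Module.End F V) v) = B u v :=
  (GLOrder.mem_symplecticGroup_iff_preserves _).1 g.2 u v

theorem exists_sp_of_isom (e : Module.End F V) (h : ∀ u v, B (e u) (e v) = B u v) :
    ∃ g : Matrix.symplecticGroup (Fin 3) F, (spAct g : Module.End F V) = e :=
  exists_sp_of_preserve e fun u v => by
    have := h u v
    rwa [GLOrder.sympB_eq_neg_sympForm, GLOrder.sympB_eq_neg_sympForm, neg_inj] at this

theorem finrank_six : Module.finrank F V = 6 := by
  rw [Module.finrank_fintype_fun_eq_card]; rfl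

theorem sympB_nondegenerate' : (B).Nondegenerate :=
  ⟨GLOrder.sympB_nondeg, fun v hv => GLOrder.sympB_nondeg v fun u => by
    rw [GLOrder.sympB_swap, hv, neg_zero]⟩

theorem finrank_le_three {W : Submodule F V} (h : ∀ x ∈ W, ∀ y ∈ W, B x y = 0) :
    Module.finrank F W ≤ 3 := by
  have h1 := LinearMap.BilinForm.finrank_orthogonal sympB_nondegenerate' W
  have h2 : W ≤ (B).orthogonal W := fun x hx => LinearMap.BilinForm.mem_orthogonal_iff.2
    fun y hy => h y hy x hx
  have := Submodule.finrank_mono h2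
  rw [finrank_six] at h1
  omega

section Plane

/-- The stabiliser of the first hyperbolic plane. -/
noncomputable def sixP (F : Type*) [Field F] : Subgroup (Matrix.symplecticGroup (Fin 3) F) :=
  setStab spAct (Submodule.span F
    {(Pi.single (Sum.inl 0) 1 : Fin 3 ⊕ Fin 3 → F), Pi.single (Sum.inr 0) 1})

theorem center_le_sixP : Subgroup.center (Matrix.symplecticGroup (Fin 3) F) ≤ sixP F := fun z hz => by
  obtain ⟨r, hr, hrv⟩ := spAct_center hz
  set W : Submodule F V := Submodule.span F
    {(Pi.single (Sum.inl 0) 1 : V), Pi.single (Sum.inr 0) 1} with hWd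
  show W.map (spAct z : Module.End F V) = W
  refine le_antisymm (Submodule.map_le_iff_le_comap.2 fun w (hw : w ∈ W) => ?_) fun w (hw : w ∈ W) => ?_
  · show (spAct z : Module.End F V) w ∈ W
    rw [hrv]; exact W.smul_mem r hw
  · exact ⟨r • w, W.smul_mem r hw, by rw [hrv, smul_smul, hr, one_smul]⟩

theorem exists_pair_move {x y x' y' : V} (h : B x y = 1) (h' : B x' y' = 1) :
    ∃ g : Matrix.symplecticGroup (Fin 3) F,
      (spAct g : Module.End F V) x = x' ∧ (spAct g : Module.End F V) y = y' := by
  rw [GLOrder.sympB_swap y x, GLOrder.sympB_eq_neg_sympForm, neg_neg] at h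
  rw [GLOrder.sympB_swap y' x', GLOrder.sympB_eq_neg_sympForm, neg_neg] at h'
  obtain ⟨g, h1, h2⟩ := Linear.exists_spGL_pair h h'
  exact ⟨(Linear.spEquiv 3 F).symm g, h2, h1⟩

theorem single_pair (i : Fin 3) :
    B (Pi.single (Sum.inl i) 1 : V) (Pi.single (Sum.inr i) 1) = 1 := by
  rw [GLOrder.sympB_apply]
  simp [Pi.single_apply]

theorem sixP_ne_top : sixP F ≠ ⊤ := fun htop => by
  obtain ⟨g, h1, h2⟩ := exists_pair_move (F := F) (single_pair 0) (single_pair 1)
  have h : g ∈ sixP F := htop ▸ Subgroup.mem_top g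
  have h' : Submodule.map _ _ = _ := h
  have hm := Submodule.mem_map_of_mem (f := (spAct g : Module.End F V))
    (Submodule.subset_span (Set.mem_insert _ _) :
      (Pi.single (Sum.inl 0) 1 : V) ∈ Submodule.span F
        {(Pi.single (Sum.inl 0) 1 : V), Pi.single (Sum.inr 0) 1})
  rw [h', h1, Submodule.mem_span_pair] at hm
  obtain ⟨a, b, hab⟩ := hm
  simpa using congrFun hab (Sum.inl 1)

theorem cover_of_pair (g : Matrix.symplecticGroup (Fin 3) F) {x y : V} (hxy : B x y ≠ 0)
    (hx : (spAct g : Module.End F V) x ∈ Submodule.span F {x, y})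
    (hy : (spAct g : Module.End F V) y ∈ Submodule.span F {x, y}) :
    ∃ h, h * g * h⁻¹ ∈ sixP F := by
  have hB : B x ((B x y)⁻¹ • y) = 1 := by rw [map_smul, smul_eq_mul, inv_mul_cancel₀ hxy]
  obtain ⟨h, h1, h2⟩ := exists_pair_move hB (single_pair 0)
  refine ⟨h, ?_⟩
  set W := Submodule.span F {x, y}
  set W₀ := Submodule.span F {(Pi.single (Sum.inl 0) 1 : V), Pi.single (Sum.inr 0) 1}
  have hmap : W.map (spAct h : Module.End F V) = W₀ := by
    have h2' : (spAct h : Module.End F V) y = B x y • Pi.single (Sum.inr 0) 1 := by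
      rw [← h2, map_smul, smul_smul, mul_inv_cancel₀ hxy, one_smul]
    rw [Submodule.map_span, Set.image_insert_eq, Set.image_singleton, h1, h2',
      Submodule.span_insert, Submodule.span_singleton_smul_eq (isUnit_iff_ne_zero.2 hxy),
      ← Submodule.span_insert]
  have hinj : ∀ (k : Matrix.symplecticGroup (Fin 3) F) (U : Submodule F V),
      Module.finrank F (U.map (spAct k : Module.End F V)) = Module.finrank F U := fun k U =>
    ((Submodule.equivMapOfInjective _ (fun a b hab => by
      rw [← spAct_inv_apply k a, hab, spAct_inv_apply]) U).finrank_eq).symm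
  show Submodule.map _ W₀ = W₀
  refine Submodule.eq_of_le_of_finrank_eq (Submodule.map_le_iff_le_comap.2 fun w hw => ?_) (hinj _ _)
  show (spAct (h * g * h⁻¹) : Module.End F V) w ∈ W₀
  rw [← hmap] at hw ⊢
  obtain ⟨u, hu, rfl⟩ := hw
  refine ⟨(spAct g : Module.End F V) u, ?_, ?_⟩
  · obtain ⟨a, b, rfl⟩ := Submodule.mem_span_pair.1 hu
    rw [map_add, map_smul, map_smul]
    exact W.add_mem (W.smul_mem a hx) (W.smul_mem b hy)
  · simp only [map_mul, Units.val_mul, Module.End.mul_apply, spAct_inv_apply]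

theorem cover_of_nondeg (g : Matrix.symplecticGroup (Fin 3) F) (W : Submodule F V)
    (hW : ∀ w ∈ W, (spAct g : Module.End F V) w ∈ W)
    (hnd : ∀ x ∈ W, (∀ y ∈ W, B x y = 0) → x = 0)
    (hd : Module.finrank F W = 2 ∨ Module.finrank F W = 4) : ∃ h, h * g * h⁻¹ ∈ sixP F := by
  -- reduce to a plane
  suffices key : ∀ U : Submodule F V, (∀ w ∈ U, (spAct g : Module.End F V) w ∈ U) →
      (∀ x ∈ U, (∀ y ∈ U, B x y = 0) → x = 0) → Module.finrank F U = 2 →
      ∃ h, h * g * h⁻¹ ∈ sixP F by
    rcases hd with hd | hd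
    · exact key W hW hnd hd
    refine key ((B).orthogonal W) (fun w hw => LinearMap.BilinForm.mem_orthogonal_iff.2 fun n hn => ?_)
      (fun x hx hxU => ?_) (by
        rw [LinearMap.BilinForm.finrank_orthogonal sympB_nondegenerate', finrank_six, hd])
    · have hsurj : Function.Surjective ((spAct g : Module.End F V).restrict hW) :=
        LinearMap.injective_iff_surjective.1 (fun a b hab => Subtype.ext (by
          rw [← spAct_inv_apply g a.1, ← spAct_inv_apply g b.1,
            show (spAct g : Module.End F V) a.1 = (spAct g : Module.End F V) b.1 from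
              congrArg Subtype.val hab]))
      obtain ⟨n', hn'⟩ := hsurj ⟨n, hn⟩
      have e : (spAct g : Module.End F V) n'.1 = n := congrArg Subtype.val hn'
      show B n ((spAct g : Module.End F V) w) = 0
      rw [← e, spAct_sympB]
      exact LinearMap.BilinForm.mem_orthogonal_iff.1 hw n'.1 n'.2
    · have hrefl : LinearMap.BilinForm.IsRefl (GLOrder.sympB 3 F) := fun a b hab => by
        rw [GLOrder.sympB_swap, hab, neg_zero]
      have hc := (LinearMap.BilinForm.isCompl_orthogonal_iff_disjoint (W := W) hrefl).2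
        (Submodule.disjoint_def.2 fun z hz hz' => hnd z hz fun y hy => by
          rw [GLOrder.sympB_swap, show B y z = 0 from
            LinearMap.BilinForm.mem_orthogonal_iff.1 hz' y hy, neg_zero])
      refine GLOrder.sympB_nondeg x fun y => ?_
      obtain ⟨a, ha, b, hb, rfl⟩ := Submodule.mem_sup.1
        (hc.sup_eq_top ▸ Submodule.mem_top : y ∈ W ⊔ (B).orthogonal W)
      rw [map_add, hxU b hb, add_zero, GLOrder.sympB_swap,
        show B a x = 0 from LinearMap.BilinForm.mem_orthogonal_iff.1 hx a ha, neg_zero]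
  intro U hU hUnd hU2
  obtain ⟨x, hx, hx0⟩ := Submodule.exists_mem_ne_zero_of_ne_bot
    (fun h : U = ⊥ => by rw [h, finrank_bot] at hU2; omega)
  obtain ⟨y, hy, hxy⟩ : ∃ y ∈ U, B x y ≠ 0 := by
    by_contra! h; exact hx0 (hUnd x hx h)
  have hli : LinearIndependent F ![x, y] := by
    rw [LinearIndependent.pair_iff]
    intro a b hab
    have h1 := congrArg (fun z => B x z) hab
    have h2 := congrArg (fun z => B z y) hab
    simp [GLOrder.sympB_self, hxy] at h1 h2
    exact ⟨h2, h1⟩
  have hspan : Submodule.span F {x, y} = U := by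
    refine Submodule.eq_of_le_of_finrank_eq (Submodule.span_le.2 (by simp [Set.insert_subset_iff, hx, hy])) ?_
    have := finrank_span_eq_card hli
    rw [Fintype.card_fin, Matrix.range_cons, Matrix.range_cons, Matrix.range_empty,
      Set.union_empty, Set.singleton_union] at this
    omega
  exact cover_of_pair g hxy (hspan ▸ hU x hx) (hspan ▸ hU y hy)

end Plane

section Model

variable [Finite F] {K : Type*} [Field K] [Algebra F K] [FiniteDimensional F K]

local notation "tr" => Algebra.trace F K

/-- A generator of the Galois group with a self-dual normal basis. -/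
structure Cubic (F K : Type*) [Field F] [Field K] [Algebra F K] where
  dim : Module.finrank F K = 3
  sig : K ≃ₐ[F] K
  cube : ∀ x, sig (sig (sig x)) = x
  th : K
  trth : Algebra.trace F K th = 1
  tr0 : Algebra.trace F K (th * th) = 1
  tr1 : Algebra.trace F K (th * sig th) = 0
  tr2 : Algebra.trace F K (th * sig (sig th)) = 0

theorem exists_cubic [CharP F 3] [Finite K] (hK : Module.finrank F K = 3) : Nonempty (Cubic F K) := by
  letI := Fintype.ofFinite F
  let σ := FiniteField.frobeniusAlgEquivOfAlgebraic F K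
  have hσ : ∀ x, σ x = x ^ Nat.card F := fun x => by
    rw [Nat.card_eq_fintype_card]; exact congrFun (FiniteField.coe_frobeniusAlgEquivOfAlgebraic F K) x
  have hcube : ∀ x, σ (σ (σ x)) = x := fun x => by
    have h : σ ^ 3 = 1 := by
      rw [← hK, ← FiniteField.orderOf_frobeniusAlgEquivOfAlgebraic F K, pow_orderOf_eq_one]
    have := AlgEquiv.ext_iff.1 h x
    simpa [pow_succ, AlgEquiv.mul_apply] using this
  have hsum : ∀ x, algebraMap F K (tr x) = x + σ x + σ (σ x) := fun x => by
    rw [FiniteField.algebraMap_trace_eq_sum_pow, hK]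
    simp [Finset.sum_range_succ, hσ, ← pow_mul, pow_two]
  have hinv : ∀ x, tr (σ x) = tr x := fun x => Algebra.trace_eq_of_algEquiv σ x
  obtain ⟨θ₁, hθ₁⟩ := Algebra.trace_surjective F K (1 : F)
  have h30 : (3 : F) = 0 := by exact_mod_cast CharP.cast_eq_zero F 3
  set δ := tr (θ₁ * σ θ₁) with hδ
  set θ := θ₁ + algebraMap F K δ with hθ
  have hc : ∀ c : F, tr (algebraMap F K c) = 0 := fun c => by
    rw [Algebra.trace_algebraMap, hK, nsmul_eq_mul]
    push_cast
    linear_combination c * h30
  have htθ : tr θ = 1 := by rw [hθ, map_add, hc, add_zero, hθ₁]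
  have h1 : tr (θ * σ θ) = 0 := by
    have e : θ * σ θ = θ₁ * σ θ₁ + δ • θ₁ + δ • σ θ₁ + algebraMap F K (δ * δ) := by
      rw [hθ, map_add, AlgEquiv.commutes, map_mul, Algebra.smul_def, Algebra.smul_def]; ring
    rw [e, map_add, map_add, map_add, map_smul, map_smul, hinv, hθ₁, hc, smul_eq_mul, mul_one,
      ← hδ]
    linear_combination δ * h30
  have h2 : tr (θ * σ (σ θ)) = 0 := by
    rw [← hinv, map_mul, hcube, mul_comm]; exact h1
  refine ⟨⟨hK, σ, hcube, θ, htθ, ?_, h1, h2⟩⟩
  have e : θ * (θ + σ θ + σ (σ θ)) = θ * θ + θ * σ θ + θ * σ (σ θ) := by ring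
  have := congrArg tr e
  rw [← hsum, htθ, map_one, mul_one, htθ, map_add, map_add, h1, h2, add_zero, add_zero] at this
  exact this.symm

variable (C : Cubic F K)

/-- The orbit of the normal element. -/
def Cubic.orb : Fin 3 → K := ![C.th, C.sig C.th, C.sig (C.sig C.th)]

theorem Cubic.tr_inv (x : K) : tr (C.sig x) = tr x := Algebra.trace_eq_of_algEquiv C.sig x

theorem Cubic.orb_succ (i : Fin 3) : C.sig (C.orb i) = C.orb (i + 1) := by
  fin_cases i <;> simp [Cubic.orb, C.cube]

theorem Cubic.tr_orb (i j : Fin 3) : tr (C.orb i * C.orb j) = if i = j then 1 else 0 := by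
  have hss : ∀ x y, tr (C.sig x * C.sig y) = tr (x * y) := fun x y => by rw [← map_mul, C.tr_inv]
  have h12 : tr (C.sig C.th * C.th) = 0 := by rw [mul_comm]; exact C.tr1
  have h22 : tr (C.sig (C.sig C.th) * C.th) = 0 := by rw [mul_comm]; exact C.tr2
  fin_cases i <;> fin_cases j <;> simp [Cubic.orb, hss, C.tr0, C.tr1, C.tr2, h12, h22]

/-- Coordinates for the self-dual normal basis. -/
noncomputable def Cubic.coord : K ≃ₗ[F] (Fin 3 → F) :=
  LinearEquiv.ofBijective
    { toFun := fun x i => tr (x * C.orb i)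
      map_add' := fun x y => funext fun i => by simp [add_mul]
      map_smul' := fun c x => funext fun i => by simp }
    (by
      have hs : Function.Surjective (fun x : K => fun i => tr (x * C.orb i)) := fun c => by
        refine ⟨∑ j, c j • C.orb j, funext fun i => ?_⟩
        simp [Finset.sum_mul, map_sum, smul_mul_assoc, C.tr_orb]
      exact ⟨(LinearMap.injective_iff_surjective_of_finrank_eq_finrank
        (by rw [C.dim, Module.finrank_fin_fun])).2 hs, hs⟩)

theorem Cubic.coord_apply (x : K) (i : Fin 3) : C.coord x i = tr (x * C.orb i) := rfl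

theorem Cubic.coord_orb (i : Fin 3) : C.coord (C.orb i) = Pi.single i 1 := funext fun j => by
  rw [C.coord_apply, C.tr_orb, Pi.single_apply]
  simp [eq_comm]

theorem Cubic.sum_coord (x : K) : ∑ i, C.coord x i • C.orb i = x :=
  C.coord.injective (funext fun j => by simp [map_sum, C.coord_orb, Pi.single_apply])

theorem Cubic.tr_mul (x y : K) : tr (x * y) = ∑ i, C.coord x i * C.coord y i := by
  conv_lhs => rw [← C.sum_coord y, Finset.mul_sum, map_sum]
  exact Finset.sum_congr rfl fun i _ => by
    rw [mul_smul_comm, map_smul, smul_eq_mul, mul_comm]; rfl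

/-- The form of the model. -/
noncomputable def modelB (x y : Fin 2 → K) : F := tr (x 0 * y 1 - x 1 * y 0)

/-- The model of the symplectic space. -/
noncomputable def Cubic.model : (Fin 2 → K) ≃ₗ[F] V :=
  ((LinearEquiv.piFinTwo F (fun _ => K)).trans
    (LinearEquiv.prodCongr C.coord C.coord)).trans (LinearEquiv.sumArrowLequivProdArrow _ _ F F).symm

theorem Cubic.model_inl (x : Fin 2 → K) (i : Fin 3) : C.model x (Sum.inl i) = C.coord (x 0) i := rfl

theorem Cubic.model_inr (x : Fin 2 → K) (i : Fin 3) : C.model x (Sum.inr i) = C.coord (x 1) i := rfl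

theorem Cubic.model_form (x y : Fin 2 → K) : B (C.model x) (C.model y) = modelB x y := by
  rw [GLOrder.sympB_apply, modelB, map_sub, C.tr_mul, C.tr_mul, ← Finset.sum_sub_distrib]
  rfl

/-- The structure of the model. -/
noncomputable def Cubic.rho : K →ₐ[F] Module.End F V :=
  (C.model.conjAlgEquiv F).toAlgHom.comp (Algebra.lsmul F F (Fin 2 → K))

theorem Cubic.rho_apply (k : K) (x : Fin 2 → K) : C.rho k (C.model x) = C.model (k • x) := by
  show C.model (k • C.model.symm (C.model x)) = _
  rw [LinearEquiv.symm_apply_apply]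

/-- The extension field subgroup. -/
noncomputable def sixL : Subgroup (Matrix.symplecticGroup (Fin 3) F) :=
  (semiStab C.rho).comap spAct

theorem center_le_sixL : Subgroup.center (Matrix.symplecticGroup (Fin 3) F) ≤ sixL C := fun z hz => by
  obtain ⟨r, -, hrv⟩ := spAct_center hz
  exact mem_semiStab_of_commute C.rho _ fun k => LinearMap.ext fun v => by
    simp [Module.End.mul_apply, hrv]

theorem sixL_ne_top : sixL C ≠ ⊤ := fun htop => by
  let v : V := Pi.single (Sum.inl 0) 1
  let φ : V →ₗ[F] F :=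
    { toFun := fun x => Cfsg.sympForm 3 F x v
      map_add' := fun x y => Linear.sympForm_add_left x y v
      map_smul' := fun c x => Linear.sympForm_smul_left c x v }
  refine transvection_notMem_semiStab (by rw [C.dim]; norm_num) (C.dim ▸ Nat.prime_three)
    (by rw [finrank_six]; norm_num) C.rho φ v (fun h => ?_) (spAct (spTransv v 1))
    (LinearMap.ext fun x => by rw [spTransv_apply]; simp [φ])
    (htop ▸ Subgroup.mem_top (spTransv v 1) : spTransv v 1 ∈ sixL C)
  have hv : v ≠ 0 := fun h0 => by simpa [v] using congrFun h0 (Sum.inl 0)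
  obtain ⟨w, hw⟩ := Linear.exists_sympForm_ne_zero hv
  have h1 := LinearMap.congr_fun h w
  simp only [LinearMap.smulRight_apply, LinearMap.zero_apply, smul_eq_zero, hv, or_false] at h1
  exact hw (by rw [Linear.sympForm_swap]; exact neg_eq_zero.2 h1)

/-- An element semilinear for some model lies in a conjugate of `sixL`. -/
theorem cover_of_model (g : Matrix.symplecticGroup (Fin 3) F) (Φ : (Fin 2 → K) ≃ₗ[F] V)
    (hΦ : ∀ x y, B (Φ x) (Φ y) = modelB x y) (τ : K ≃ₐ[F] K)
    (hg : ∀ (k : K) (x : Fin 2 → K), (spAct g : Module.End F V) (Φ (k • x)) =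
      Φ (τ k • Φ.symm ((spAct g : Module.End F V) (Φ x)))) :
    ∃ h, h * g * h⁻¹ ∈ sixL C := by
  obtain ⟨h, hh⟩ := exists_sp_of_isom ((Φ.symm.trans C.model : V ≃ₗ[F] V) : V →ₗ[F] V) fun u v => by
    show B (C.model (Φ.symm u)) (C.model (Φ.symm v)) = _
    rw [C.model_form, ← hΦ, LinearEquiv.apply_symm_apply, LinearEquiv.apply_symm_apply]
  refine ⟨h, τ, fun k => LinearMap.ext fun v => ?_⟩
  obtain ⟨x, rfl⟩ : ∃ x, (spAct h : Module.End F V) (Φ x) = v :=
    ⟨C.model.symm v, by rw [hh]; simp⟩
  have hhΦ : ∀ y, (spAct h : Module.End F V) (Φ y) = C.model y := fun y => by rw [hh]; simp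
  simp only [map_mul, Units.val_mul, Module.End.mul_apply, spAct_inv_apply]
  rw [hhΦ, C.rho_apply, ← hhΦ (k • x), spAct_inv_apply, hg, hhΦ, ← C.rho_apply]
  congr 1
  rw [← hhΦ, LinearEquiv.apply_symm_apply]

end Model

end Cfsg.Agent.TwoCover
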