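import Cfsg.Agent.Lib.TwoCover.SixBase

/-
Elements of Sp₆(3^a) whose unipotent part has two Jordan blocks of size three.
* `tsum`, `exists_fix`, `exists_dual`, `cover_of_frame`, `cover_free`, `cover_split`, `cover_inert`
-/
set_option autoImplicit false

open Matrix

namespace Cfsg.Agent.TwoCover

variable {F : Type*} [Field F]

local notation "V" => (Fin 3 ⊕ Fin 3 → F)
local notation "B" => Cfsg.Agent.GLOrder.sympB 3 F

/-- `U` is an isometry of order dividing three. -/
structure IsCube (U : Module.End F V) : Prop where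
  iso : ∀ a b, B (U a) (U b) = B a b
  cube : ∀ a, U (U (U a)) = a

/-- The pairing with the orbit sum. -/
noncomputable def tsum (U : Module.End F V) (a b : V) : F := B a b + B a (U b) + B a (U (U b))

theorem IsCube.left {U : Module.End F V} (hU : IsCube U) (a b : V) : B (U a) b = B a (U (U b)) := by
  conv_lhs => rw [← hU.cube b, hU.iso]

theorem IsCube.left2 {U : Module.End F V} (hU : IsCube U) (a b : V) : B (U (U a)) b = B a (U b) := by
  rw [hU.left, hU.left, hU.cube]

theorem IsCube.tsum_left {U : Module.End F V} (hU : IsCube U) (a b : V) : tsum U (U a) b = tsum U a b := by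
  simp only [tsum, hU.left, hU.cube]; ring

theorem IsCube.tsum_right {U : Module.End F V} (hU : IsCube U) (a b : V) : tsum U a (U b) = tsum U a b := by
  simp only [tsum, hU.cube]; ring

theorem three_eq_zero' [CharP F 3] : (3 : F) = 0 := by exact_mod_cast CharP.cast_eq_zero F 3

theorem exists_fix [CharP F 3] {U : Module.End F V} (hU : IsCube U) (e x : V) (ht : tsum U e x ≠ 0) :
    ∃ ε : F, B (e + ε • (U x - x)) (U (e + ε • (U x - x))) = 0 := by
  refine ⟨B e (U e) / tsum U e x, ?_⟩
  set ε := B e (U e) / tsum U e x with hε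
  have hmul : ε * tsum U e x = B e (U e) := div_mul_cancel₀ _ ht
  have h1 : B (U x) (U e) = -B e x := by rw [hU.iso, GLOrder.sympB_swap]
  have h2 : B x (U e) = -B e (U (U x)) := by rw [GLOrder.sympB_swap, hU.left]
  have h3 : B (U x) (U (U x)) = B x (U x) := hU.iso x (U x)
  have h4 : B x (U (U x)) = -B x (U x) := by rw [← hU.left, GLOrder.sympB_swap]
  simp only [map_add, map_sub, map_smul, LinearMap.add_apply, LinearMap.sub_apply,
    LinearMap.smul_apply, smul_eq_mul, h1, h2, h3, h4, GLOrder.sympB_self]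
  simp only [tsum] at hmul
  linear_combination -hmul + (ε * B e (U (U x)) + ε * ε * B x (U x)) * three_eq_zero' (F := F)

theorem exists_dual [CharP F 3] {U : Module.End F V} (e x : V) (hU : IsCube U) (ht : tsum U e x ≠ 0) :
    ∃ c0 c1 c2 : F, B e (c0 • x + c1 • U x + c2 • U (U x)) = 1 ∧
      B e (U (c0 • x + c1 • U x + c2 • U (U x))) = 0 ∧
      B e (U (U (c0 • x + c1 • U x + c2 • U (U x)))) = 0 := by
  set b0 := B e x
  set b1 := B e (U x)
  set b2 := B e (U (U x))
  set t := tsum U e x with htd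
  have ht' : t = b0 + b1 + b2 := rfl
  refine ⟨(b0 ^ 2 + 2 * b1 * b2) / t ^ 3, (2 * b0 * b2 + b1 ^ 2) / t ^ 3,
    (2 * b0 * b1 + b2 ^ 2) / t ^ 3, ?_, ?_, ?_⟩
  all_goals simp only [map_add, map_smul, smul_eq_mul, hU.cube]
  all_goals field_simp
  · rw [ht']
    linear_combination (2 * b0 * b1 * b2 - b0 ^ 2 * b1 - b0 ^ 2 * b2 - b1 ^ 2 * b0 - b1 ^ 2 * b2
      - b2 ^ 2 * b0 - b2 ^ 2 * b1 - 2 * b0 * b1 * b2) * three_eq_zero' (F := F)
  · linear_combination (b0 ^ 2 * b1 + b1 ^ 2 * b2 + b0 * b2 ^ 2) * three_eq_zero' (F := F)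
  · linear_combination (b0 ^ 2 * b2 + b1 * b2 ^ 2 + b0 * b1 ^ 2) * three_eq_zero' (F := F)

section Frame

variable [Finite F] {K : Type*} [Field K] [Algebra F K] [FiniteDimensional F K]

theorem cover_of_frame (C : Cubic F K) {U : Module.End F V} (hU : IsCube U) (g : Matrix.symplecticGroup (Fin 3) F)
    (S : Module.End F V) (hgS : ∀ v, (spAct g : Module.End F V) v = S (U v))
    (hSU : ∀ v, S (U v) = U (S v))
    {e f : V} (he : B e (U e) = 0) (hf : B f (U f) = 0)
    (h0 : B e f = 1) (h1 : B e (U f) = 0) (h2 : B e (U (U f)) = 0)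
    (a b c d : F) (hSe : S e = a • e + c • f) (hSf : S f = b • e + d • f) :
    ∃ h, h * g * h⁻¹ ∈ sixL C := by
  let orbU : V → Fin 3 → V := fun v => ![v, U v, U (U v)]
  let Ψ : (Fin 2 → K) →ₗ[F] V :=
    { toFun := fun x => ∑ i, C.coord (x 0) i • orbU e i + ∑ i, C.coord (x 1) i • orbU f i
      map_add' := fun x y => by simp [add_smul, Finset.sum_add_distrib]; abel
      map_smul' := fun r x => by simp [Finset.smul_sum, mul_smul] }
  have iso : ∀ v, B v (U v) = 0 → ∀ i j, B (orbU v i) (orbU v j) = 0 := fun v hv i j => by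
    have hv' : B v (U (U v)) = 0 := by rw [← hU.left, GLOrder.sympB_swap, hv, neg_zero]
    fin_cases i <;> fin_cases j <;>
      simp [orbU, hU.left, hU.left2, hU.cube, hv, hv', GLOrder.sympB_self]
  have dual : ∀ i j, B (orbU e i) (orbU f j) = if i = j then 1 else 0 := fun i j => by
    fin_cases i <;> fin_cases j <;> simp [orbU, hU.left, hU.left2, hU.cube, h0, h1, h2]
  have dual' : ∀ i j, B (orbU f i) (orbU e j) = if i = j then -1 else 0 := fun i j => by
    rw [GLOrder.sympB_swap, dual]
    rcases eq_or_ne i j with h | h <;> simp [h, Ne.symm]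
  have hform : ∀ x y, B (Ψ x) (Ψ y) = modelB x y := fun x y => by
    show B (∑ i, _ + ∑ i, _) (∑ i, _ + ∑ i, _) = _
    simp only [map_add, LinearMap.add_apply, map_sum, LinearMap.coe_sum, Finset.sum_apply,
      map_smul, LinearMap.smul_apply, smul_eq_mul, iso e he, iso f hf, dual, dual', mul_zero,
      Finset.sum_const_zero, mul_ite, mul_one, mul_neg, Finset.sum_ite_eq, Finset.sum_ite_eq',
      Finset.mem_univ, if_true, add_zero, zero_add]
    rw [modelB, map_sub, C.tr_mul, C.tr_mul]
    simp only [Finset.sum_neg_distrib]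
    rw [← sub_eq_neg_add]
    congr 1 <;> exact Finset.sum_congr rfl fun i _ => mul_comm _ _
  have hinj : Function.Injective Ψ := fun x y hxy => by
    refine C.model.injective (sub_eq_zero.1 (GLOrder.sympB_nondeg _ fun w => ?_))
    obtain ⟨z, rfl⟩ := C.model.surjective w
    rw [map_sub, LinearMap.sub_apply, C.model_form, C.model_form, ← hform, ← hform, hxy, sub_self]
  let Φ : (Fin 2 → K) ≃ₗ[F] V := LinearEquiv.ofBijective Ψ ⟨hinj,
    (LinearMap.injective_iff_surjective_of_finrank_eq_finrank (by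
      rw [finrank_six, Module.finrank_pi_fintype]; simp [C.dim])).1 hinj⟩
  -- `U` is the Galois generator
  have hcoord : ∀ y i, C.coord (C.sig y) (i + 1) = C.coord y i := fun y i => by
    rw [C.coord_apply, C.coord_apply, ← C.orb_succ, ← map_mul, C.tr_inv]
  have hσ : ∀ x, U (Ψ x) = Ψ (fun j => C.sig (x j)) := fun x => by
    show U (∑ i, _ + ∑ i, _) = ∑ i, _ + ∑ i, _
    have e1 := hcoord (x 0) 0
    have e2 := hcoord (x 0) 1
    have e3 := hcoord (x 0) 2
    have e4 := hcoord (x 1) 0
    have e5 := hcoord (x 1) 1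
    have e6 := hcoord (x 1) 2
    simp only [show (0 : Fin 3) + 1 = 1 from rfl, show (1 : Fin 3) + 1 = 2 from rfl,
      show (2 : Fin 3) + 1 = 0 from rfl] at e1 e2 e3 e4 e5 e6
    simp only [Fin.sum_univ_three, e1, e2, e3, e4, e5, e6, map_add, map_smul]
    simp [orbU, hU.cube]
    abel
  have hS : ∀ x, S (Ψ x) = Ψ ![a • x 0 + b • x 1, c • x 0 + d • x 1] := fun x => by
    show S (∑ i, _ + ∑ i, _) = ∑ i, _ + ∑ i, _
    simp only [Fin.sum_univ_three, map_add, map_smul, Matrix.cons_val_zero, Matrix.cons_val_one,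
      Matrix.cons_val_fin_one, orbU, Matrix.cons_val_two, Matrix.head_cons, Matrix.tail_cons,
      hSU, hSe, hSf, Pi.add_apply, Pi.smul_apply, smul_eq_mul]
    module
  have hg' : ∀ x, (spAct g : Module.End F V) (Φ x) =
      Φ ![a • C.sig (x 0) + b • C.sig (x 1), c • C.sig (x 0) + d • C.sig (x 1)] := fun x => by
    show (spAct g : Module.End F V) (Ψ x) = Ψ _
    rw [hgS, hσ, hS]
  refine cover_of_model C g Φ (fun x y => hform x y) C.sig fun k x => ?_
  rw [hg', hg', LinearEquiv.symm_apply_apply]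
  congr 1
  funext j
  fin_cases j <;> simp [smul_add, mul_smul_comm, mul_add, smul_eq_mul]

theorem cover_free [CharP F 3] (C : Cubic F K) {U : Module.End F V} (hU : IsCube U)
    (g : Matrix.symplecticGroup (Fin 3) F) (r : F)
    (hgU : ∀ v, (spAct g : Module.End F V) v = r • U v) (e x : V) (ht : tsum U e x ≠ 0) :
    ∃ h, h * g * h⁻¹ ∈ sixL C := by
  obtain ⟨ε, hε⟩ := exists_fix hU e x ht
  set e' := e + ε • (U x - x) with he'
  have ht' : tsum U e' x ≠ 0 := by
    have e1 : tsum U e' x = tsum U e x + ε * (tsum U (U x) x - tsum U x x) := by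
      simp only [tsum, he', map_add, map_sub, map_smul, LinearMap.add_apply, LinearMap.sub_apply,
        LinearMap.smul_apply, smul_eq_mul]
      ring
    rwa [e1, hU.tsum_left, sub_self, mul_zero, add_zero]
  obtain ⟨c0, c1, c2, h0, h1, h2⟩ := exists_dual e' x hU ht'
  set f := c0 • x + c1 • U x + c2 • U (U x)
  have hft : tsum U f e' = -1 := by
    simp only [tsum]
    rw [GLOrder.sympB_swap e', h0, GLOrder.sympB_swap (U e'), GLOrder.sympB_swap (U (U e')),
      hU.left, hU.left2, h1, h2]
    ring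
  obtain ⟨ε', hε'⟩ := exists_fix hU f e' (by rw [hft]; simp)
  have he2 : B e' (U (U e')) = 0 := by rw [← hU.left, GLOrder.sympB_swap, hε, neg_zero]
  refine cover_of_frame C hU g (r • 1) (fun v => hgU v) (fun v => by simp) hε hε' ?_ ?_ ?_
    r 0 0 r (by simp) (by simp)
  · simp [h0, hε, GLOrder.sympB_self]
  · simp [h1, hε, he2, hU.cube]
  · simp [h2, he2, hU.cube, GLOrder.sympB_self]

theorem cover_split [CharP F 3] (C : Cubic F K) {U : Module.End F V} (hU : IsCube U)
    (g : Matrix.symplecticGroup (Fin 3) F) (S : Module.End F V)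
    (hgS : ∀ v, (spAct g : Module.End F V) v = S (U v)) (hSU : ∀ v, S (U v) = U (S v))
    (hS : ∀ a b, B (S a) (S b) = B a b) {l m : F} (hl : l * l ≠ 1) (hm : m * m ≠ 1)
    (e x : V) (hSe : S e = l • e) (hSx : S x = m • x) (ht : tsum U e x ≠ 0) :
    ∃ h, h * g * h⁻¹ ∈ sixL C := by
  obtain ⟨c0, c1, c2, h0, h1, h2⟩ := exists_dual e x hU ht
  set f := c0 • x + c1 • U x + c2 • U (U x) with hfd
  have hSf : S f = m • f := by
    simp only [hfd, map_add, map_smul, hSU, hSx]
    module
  have eig : ∀ (k : F) (v : V), k * k ≠ 1 → S v = k • v → B v (U v) = 0 := fun k v hk hv => by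
    have := hS v (U v)
    rw [hv, hSU, hv, map_smul, map_smul, map_smul, LinearMap.smul_apply, smul_eq_mul, smul_eq_mul,
      ← mul_assoc] at this
    by_contra hne
    exact hk ((mul_eq_right₀ hne).1 this)
  exact cover_of_frame C hU g S hgS hSU (eig l e hl hSe) (eig m f hm hSf) h0 h1 h2
    l 0 0 m (by simp [hSe]) (by simp [hSf])

theorem cover_inert [CharP F 3] (C : Cubic F K) {U : Module.End F V} (hU : IsCube U)
    (g : Matrix.symplecticGroup (Fin 3) F) (S : Module.End F V)
    (hgS : ∀ v, (spAct g : Module.End F V) v = S (U v)) (hSU : ∀ v, S (U v) = U (S v))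
    (c : F) (hS : ∀ a b, B (S a) (S b) = B a b) (hquad : ∀ v, S (S v) = c • S v - v)
    (e : V) (ht : tsum U e (S e) ≠ 0) :
    ∃ h, h * g * h⁻¹ ∈ sixL C := by
  have h30 := three_eq_zero' (F := F)
  have hadj : ∀ a b, B (S a) b = B a (c • b - S b) := fun a b => by
    conv_lhs => rw [show b = S (c • b - S b) by rw [map_sub, map_smul, hquad]; abel, hS]
  obtain ⟨ε, hε⟩ := exists_fix hU e (S e) ht
  set e1 := e + ε • (U (S e) - S e) with he1
  have ht1 : tsum U e1 (S e1) = tsum U e (S e) := by
    have hd : ∀ a b, tsum U (U a - a) b = 0 := fun a b => by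
      have : tsum U (U a - a) b = tsum U (U a) b - tsum U a b := by
        simp only [tsum, map_sub, LinearMap.sub_apply]; ring
      rw [this, hU.tsum_left, sub_self]
    have hd' : ∀ a b, tsum U a (U b - b) = 0 := fun a b => by
      have : tsum U a (U b - b) = tsum U a (U b) - tsum U a b := by
        simp only [tsum, map_sub]; ring
      rw [this, hU.tsum_right, sub_self]
    have : tsum U e1 (S e1) = tsum U e (S e) + ε * tsum U e (U (S (S e)) - S (S e)) +
        ε * tsum U (U (S e) - S e) (S e1) := by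
      simp only [tsum, he1, map_add, map_sub, map_smul, hSU, LinearMap.add_apply,
        LinearMap.sub_apply, LinearMap.smul_apply, smul_eq_mul]
      ring
    rw [this, hd, hd', mul_zero, add_zero, add_zero]
  set t := tsum U e (S e)
  have hi2 : B e1 (U (U e1)) = 0 := by rw [← hU.left, GLOrder.sympB_swap, hε, neg_zero]
  have hb : B e1 (U (S e1)) = B e1 (U (U (S e1))) := by
    rw [← hU.left2, GLOrder.sympB_swap, hadj, map_sub, map_smul, hi2, hSU, hSU]
    simp
  set δ := B e1 (U (S e1)) / t with hδ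
  have hδt : δ * t = B e1 (U (S e1)) := div_mul_cancel₀ _ ht
  set e2 := e1 + δ • (e1 + U e1 + U (U e1)) with he2
  have hiso2 : B e2 (U e2) = 0 := by
    simp [he2, hU.left, hU.left2, hU.cube, hε, hi2, GLOrder.sympB_self]
  have hSe2 : S e2 = S e1 + δ • (S e1 + U (S e1) + U (U (S e1))) := by
    simp [he2, map_add, map_smul, hSU]
  simp only [tsum] at ht1
  have e0 : B e2 (S e2) = t := by
    rw [hSe2, he2]
    simp only [map_add, map_smul, LinearMap.add_apply, LinearMap.smul_apply, smul_eq_mul, hU.left,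
      hU.left2, hU.cube]
    linear_combination (1 + 2 * δ + 3 * δ * δ) * ht1 + 2 * hδt + hb + δ * δ * t * h30
  have e1' : B e2 (U (S e2)) = 0 := by
    rw [hSe2, he2]
    simp only [map_add, map_smul, LinearMap.add_apply, LinearMap.smul_apply, smul_eq_mul, hU.left,
      hU.left2, hU.cube]
    linear_combination (2 * δ + 3 * δ * δ) * ht1 + 2 * hδt + (B e1 (U (S e1)) + δ * δ * t) * h30
  have hb2 : B e2 (U (U (S e2))) = 0 := by
    have hi : B e2 (U (U e2)) = 0 := by rw [← hU.left, GLOrder.sympB_swap, hiso2, neg_zero]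
    have : B e2 (U (S e2)) = B e2 (U (U (S e2))) := by
      rw [← hU.left2, GLOrder.sympB_swap, hadj, map_sub, map_smul, hi, hSU, hSU]
      simp
    rw [← this, e1']
  have hSS : S (S e2) = c • S e2 - e2 := hquad e2
  refine cover_of_frame C hU g S hgS hSU (e := e2) (f := t⁻¹ • S e2) hiso2 ?_ ?_ ?_ ?_
    0 (-t⁻¹) t c ?_ ?_
  · rw [map_smul, map_smul, map_smul, LinearMap.smul_apply, ← hSU, hS, hiso2]; simp
  · rw [map_smul, e0, smul_eq_mul, inv_mul_cancel₀ ht]
  · rw [map_smul, map_smul, e1', smul_zero]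
  · rw [map_smul, map_smul, map_smul, hb2, smul_zero]
  · rw [zero_smul, zero_add, smul_smul, mul_inv_cancel₀ ht, one_smul]
  · rw [map_smul, hSS]
    module

end Frame

end Cfsg.Agent.TwoCover
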