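import Cfsg.Agent.Lib.TwoCover.SixUnip

/-
PSp₆(3^a) is covered by the conjugates of the plane stabiliser and the extension field group.
* `even_of_nondeg`, `exists_skew_coords`, `cover_cubic`, `quad_gap`, `cover_split_case`,
  `cover_inert_case`, `cover_deg_one`, `cover_psp_six`
-/
set_option autoImplicit false

open Matrix Polynomial

namespace Cfsg.Agent.TwoCover

variable {F : Type*} [Field F]

local notation "V" => (Fin 3 ⊕ Fin 3 → F)
local notation "B" => Cfsg.Agent.GLOrder.sympB 3 F

theorem two_ne_zero_three [CharP F 3] : (2 : F) ≠ 0 := fun h => by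
  have : ((2 : ℕ) : F) = 0 := h
  rw [CharP.cast_eq_zero_iff F 3] at this
  omega

theorem even_of_skew {K : Type*} [Field K] (h2 : (2 : K) ≠ 0) {r : ℕ}
    {M : Matrix (Fin r) (Fin r) K} (hM : Matrix.transpose M = -M) (hd : M.det ≠ 0) : Even r := by
  by_contra h
  rw [Nat.not_even_iff_odd] at h
  have h1 := congrArg Matrix.det hM
  rw [Matrix.det_transpose, Matrix.det_neg, Fintype.card_fin, h.neg_one_pow] at h1
  exact hd ((mul_eq_zero.1 (by linear_combination h1 : (2 : K) * M.det = 0)).resolve_left h2)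

theorem even_of_nondeg (h2 : (2 : F) ≠ 0) (W : Submodule F V)
    (hnd : ∀ x ∈ W, (∀ y ∈ W, B x y = 0) → x = 0) : Even (Module.finrank F W) := by
  let b := Module.finBasis F W
  refine even_of_skew h2 (M := Matrix.of fun i j => B (b i : V) (b j : V)) ?_ fun hd => ?_
  · ext i j
    simp [GLOrder.sympB_swap (b i : V) (b j : V)]
  · obtain ⟨v, hv, hvM⟩ := Matrix.exists_vecMul_eq_zero_iff.2 hd
    apply hv
    have hφ : (B ((∑ i, v i • b i : W) : V)).comp W.subtype = 0 := b.ext fun j => by
      have := congrFun hvM j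
      simp only [Matrix.vecMul, dotProduct, Matrix.of_apply, Pi.zero_apply] at this
      simpa [map_sum] using this
    have h0 : (∑ i, v i • b i : W) = 0 := Subtype.ext (hnd _ (Submodule.coe_mem _) fun y hy => by
      have := LinearMap.congr_fun hφ ⟨y, hy⟩
      simpa using this)
    exact funext fun i => Fintype.linearIndependent_iff.1 b.linearIndependent v h0 i

theorem adj_spAct (g : Matrix.symplecticGroup (Fin 3) F) (a b : V) :
    B ((spAct g : Module.End F V) a) b = B a ((spAct g⁻¹ : Module.End F V) b) := by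
  conv_lhs => rw [← spAct_apply_inv g b, spAct_sympB]

theorem adj_aeval {y : Module.End F V} (hy : ∀ a b, B (y a) b = B a (y b)) (R : F[X]) (a b : V) :
    B (aeval y R a) b = B a (aeval y R b) := by
  have hpow : ∀ (n : ℕ) (a b : V), B ((y ^ n : Module.End F V) a) b = B a ((y ^ n : Module.End F V) b) := by
    intro n
    induction n with
    | zero => simp
    | succ n ih =>
      intro a b
      conv_lhs => rw [pow_succ, Module.End.mul_apply, ih, hy, ← Module.End.mul_apply, ← pow_succ']
  rw [aeval_eq_sum_range]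
  simp [map_sum, hpow]

section Coords

variable [Finite F] {K : Type*} [Field K] [Algebra F K] [FiniteDimensional F K]

local notation "tr" => Algebra.trace F K

theorem exists_skew_coords (ρ : K →ₐ[F] Module.End F V)
    (hρ : ∀ k a b, B (ρ k a) b = B a (ρ k b)) :
    ∃ (r : ℕ) (Φ : (Fin r → K) ≃ₗ[F] V) (M : Matrix (Fin r) (Fin r) K),
      Module.finrank F K * r = 6 ∧ Matrix.transpose M = -M ∧ M.det ≠ 0 ∧
      (∀ k x, Φ (k • x) = ρ k (Φ x)) ∧
      ∀ x y, B (Φ x) (Φ y) = tr (∑ i, ∑ j, x i * M i j * y j) := by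
  obtain ⟨r, Φ, hr, hΦ⟩ := exists_coords ρ
  rw [finrank_six] at hr
  let w : Fin r → V := fun i => Φ (Pi.single i 1)
  let φ : Fin r → Fin r → Module.Dual F K := fun i j =>
    ((B).flip (w j)) ∘ₗ (LinearMap.applyₗ (w i)) ∘ₗ ρ.toLinearMap
  have hnd := traceForm_nondegenerate F K
  let M : Matrix (Fin r) (Fin r) K :=
    Matrix.of fun i j => ((Algebra.traceForm F K).toDual hnd).symm (φ i j)
  have hM : ∀ i j k, tr (M i j * k) = B (ρ k (w i)) (w j) := fun i j k =>
    LinearMap.BilinForm.apply_toDual_symm_apply (hB := hnd) (φ i j) k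
  have hform : ∀ x y, B (Φ x) (Φ y) = tr (∑ i, ∑ j, x i * M i j * y j) := fun x y => by
    have hexp : ∀ z : Fin r → K, Φ z = ∑ i, ρ (z i) (w i) := fun z => by
      conv_lhs => rw [← Finset.univ_sum_single z, map_sum]
      refine Finset.sum_congr rfl fun i _ => ?_
      rw [← hΦ, ← Pi.single_smul, smul_eq_mul, mul_one]
    rw [hexp x, hexp y]
    simp only [map_sum, LinearMap.coe_sum, Finset.sum_apply]
    rw [Finset.sum_comm]
    refine Finset.sum_congr rfl fun i _ => Finset.sum_congr rfl fun j _ => ?_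
    rw [← hρ, ← Module.End.mul_apply, ← map_mul, ← hM]
    congr 1; ring
  refine ⟨r, Φ, M, hr.symm, ?_, fun hd => ?_, hΦ, hform⟩
  · ext i j
    refine hnd.1 _ |> fun hz => sub_eq_zero.1 (hz (fun k => ?_))
    show tr ((Matrix.transpose M i j - (-M) i j) * k) = 0
    rw [Matrix.transpose_apply, Matrix.neg_apply, sub_neg_eq_add, add_mul, map_add, hM, hM, hρ,
      GLOrder.sympB_swap (ρ k (w i)) (w j), neg_add_cancel]
  · obtain ⟨v, hv, hvM⟩ := Matrix.exists_vecMul_eq_zero_iff.2 hd
    refine hv (Φ.injective (by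
      rw [map_zero]
      refine GLOrder.sympB_nondeg _ fun u => ?_
      obtain ⟨y, rfl⟩ := Φ.surjective u
      rw [hform, Finset.sum_comm]
      have : ∀ j, ∑ i, v i * M i j * y j = 0 := fun j => by
        rw [← Finset.sum_mul]
        have := congrFun hvM j
        simp only [Matrix.vecMul, dotProduct, Pi.zero_apply] at this
        rw [this, zero_mul]
      simp [this]))

theorem cover_cubic [CharP F 3] (C : Cubic F K) (g : Matrix.symplecticGroup (Fin 3) F)
    (ρ : K →ₐ[F] Module.End F V) (hρ : ∀ k a b, B (ρ k a) b = B a (ρ k b))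
    (hgρ : ∀ k v, (spAct g : Module.End F V) (ρ k v) = ρ k ((spAct g : Module.End F V) v)) :
    ∃ h, h * g * h⁻¹ ∈ sixL C := by
  have h2 : (2 : K) ≠ 0 := fun h => two_ne_zero_three (F := F)
    ((algebraMap F K).injective (by rw [map_ofNat, map_zero]; exact h))
  obtain ⟨r, Φ, M, hr, hM, hd, hΦ, hform⟩ := exists_skew_coords ρ hρ
  rw [C.dim] at hr
  obtain rfl : r = 2 := by omega
  have hdiag : ∀ i, M i i = 0 := fun i => by
    have := congrFun (congrFun hM i) i
    rw [Matrix.transpose_apply, Matrix.neg_apply] at this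
    exact (mul_eq_zero.1 (by linear_combination this : (2 : K) * M i i = 0)).resolve_left h2
  have h10 : M 1 0 = -M 0 1 := by
    have := congrFun (congrFun hM 0) 1
    rwa [Matrix.transpose_apply, Matrix.neg_apply] at this
  have hd0 : M 0 1 ≠ 0 := fun h0 => hd (by rw [Matrix.det_fin_two, hdiag, hdiag, h0, h10, h0]; simp)
  set d := M 0 1 with hdd
  let Ψ : (Fin 2 → K) →ₗ[F] V :=
    { toFun := fun x => Φ ![d⁻¹ * x 0, x 1]
      map_add' := fun x y => by
        rw [← map_add]; congr 1; funext j; fin_cases j <;> simp [mul_add]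
      map_smul' := fun a x => by
        rw [RingHom.id_apply, ← map_smul]; congr 1; funext j; fin_cases j <;> simp }
  have hinj : Function.Injective Ψ := fun x y hxy => by
    have h := Φ.injective hxy
    funext j
    fin_cases j
    · exact mul_left_cancel₀ (inv_ne_zero hd0) (by simpa using congrFun h 0)
    · simpa using congrFun h 1
  let Φ' : (Fin 2 → K) ≃ₗ[F] V := LinearEquiv.ofBijective Ψ ⟨hinj,
    (LinearMap.injective_iff_surjective_of_finrank_eq_finrank (by
      rw [finrank_six, Module.finrank_pi_fintype]; simp [C.dim])).1 hinj⟩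
  have hk : ∀ (k : K) (x : Fin 2 → K), Φ' (k • x) = ρ k (Φ' x) := fun k x => by
    show Φ _ = ρ k (Φ _)
    rw [← hΦ]; congr 1; funext j; fin_cases j <;> simp [mul_left_comm]
  refine cover_of_model C g Φ' (fun x y => ?_) AlgEquiv.refl fun k x => ?_
  · show B (Φ _) (Φ _) = _
    rw [hform, modelB]
    congr 1
    simp only [Fin.sum_univ_two, hdiag, h10, ← hdd, Matrix.cons_val_zero, Matrix.cons_val_one,
      Matrix.cons_val_fin_one]
    field_simp
    ring
  · rw [hk, hgρ, AlgEquiv.coe_refl, id, hk, LinearEquiv.apply_symm_apply]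

end Coords

section Quad

theorem quad_adj {S : Module.End F (Fin 3 ⊕ Fin 3 → F)} {c : F} (hS : ∀ a b, B (S a) (S b) = B a b) (hquad : ∀ v, S (S v) = c • S v - v) (a b : V) :
    B (S a) b = B a (c • b - S b) := by
  conv_lhs => rw [show b = S (c • b - S b) by rw [map_sub, map_smul, hquad]; abel, hS]

theorem quad_gap {S : Module.End F (Fin 3 ⊕ Fin 3 → F)} {c : F} (hquad : ∀ v, S (S v) = c • S v - v) (hroot : ∀ l : F, l * l - c * l + 1 ≠ 0)
    {W' W : Submodule F V} (hlt : W' < W) (h' : ∀ w ∈ W', S w ∈ W') (h : ∀ w ∈ W, S w ∈ W) :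
    Module.finrank F W' + 2 ≤ Module.finrank F W := by
  have h1 := Submodule.finrank_lt_finrank_of_lt hlt
  by_contra hc
  obtain ⟨x, hxW, hxW'⟩ := SetLike.exists_of_lt hlt
  have hsup : W' ⊔ (F ∙ x) = W := by
    refine Submodule.eq_of_le_of_finrank_le
      (sup_le hlt.le ((Submodule.span_singleton_le_iff_mem _ _).2 hxW)) ?_
    have : W' < W' ⊔ (F ∙ x) := lt_of_le_of_ne le_sup_left fun e =>
      hxW' (e ▸ Submodule.mem_sup_right (Submodule.mem_span_singleton_self x))
    have := Submodule.finrank_lt_finrank_of_lt this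
    omega
  have hmem : S x ∈ W' ⊔ (F ∙ x) := hsup ▸ h x hxW
  obtain ⟨w, hw, z, hz, hwz⟩ := Submodule.mem_sup.1 hmem
  obtain ⟨l, rfl⟩ := Submodule.mem_span_singleton.1 hz
  have e : (l * l - c * l + 1) • x = c • w - S w - l • w := by
    have h2 := hquad x
    rw [← hwz, map_add, map_smul, ← hwz] at h2
    linear_combination (norm := module) h2
  apply hxW'
  have : (l * l - c * l + 1) • x ∈ W' :=
    e ▸ W'.sub_mem (W'.sub_mem (W'.smul_mem c hw) (h' w hw)) (W'.smul_mem l hw)
  exact (Submodule.smul_mem_iff _ (hroot l)).1 this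

theorem zero_of_diag {S : Module.End F (Fin 3 ⊕ Fin 3 → F)} {c : F} (hc : c * c ≠ 4) (W : Submodule F V) (hW : ∀ w ∈ W, S w ∈ W)
    (hquad : ∀ v, S (S v) = c • S v - v) (β : LinearMap.BilinForm F V)
    (hskew : ∀ a b, β b a = -β a b) (hadj : ∀ a b, β (S a) b = β a (c • b - S b))
    (hdiag : ∀ x ∈ W, β x (S x) = 0) : ∀ x ∈ W, ∀ y ∈ W, β x y = 0 := by
  intro x hx y hy
  have key : ∀ z ∈ W, 2 * β x (S z) = c * β x z := fun z hz => by
    have h1 := hdiag (x + z) (W.add_mem hx hz)
    simp only [map_add, LinearMap.add_apply, hdiag x hx, hdiag z hz] at h1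
    have h2 : β z (S x) = -(c * β x z - β x (S z)) := by
      rw [hskew, hadj, map_sub, map_smul, smul_eq_mul]
    rw [h2] at h1
    linear_combination h1
  have h3 := key y hy
  have h4 := key (S y) (hW y hy)
  rw [hquad, map_sub, map_smul, smul_eq_mul] at h4
  have : (c * c - 4) * β x y = 0 := by linear_combination 2 * h4 - c * h3
  exact (mul_eq_zero.1 this).resolve_left (sub_ne_zero.2 hc)

end Quad

section DegOne

variable [Finite F] [CharP F 3] {K : Type*} [Field K] [Algebra F K] [FiniteDimensional F K]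

omit [Finite F] in
theorem four_eq_one : (4 : F) = 1 := by linear_combination three_eq_zero' (F := F)

theorem cover_inert_case (C : Cubic F K) (g : Matrix.symplecticGroup (Fin 3) F)
    {S U : Module.End F V} (hgS : ∀ v, (spAct g : Module.End F V) v = S (U v))
    (hSU : ∀ v, S (U v) = U (S v)) (hS : ∀ a b, B (S a) (S b) = B a b)
    (hU : ∀ a b, B (U a) (U b) = B a b) (hnil : IsNilpotent (U - 1)) {c : F} (hc : c * c ≠ 1)
    (hquad : ∀ v, S (S v) = c • S v - v) (hroot : ∀ l : F, l * l - c * l + 1 ≠ 0) :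
    ∃ h, h * g * h⁻¹ ∈ sixP F ∨ h * g * h⁻¹ ∈ sixL C := by
  have hc4 : c * c ≠ 4 := by rwa [four_eq_one]
  set N := U - 1 with hN
  have hSN : ∀ v, S (N v) = N (S v) := fun v => by
    simp only [hN, LinearMap.sub_apply, Module.End.one_apply, map_sub, hSU]
  have hSNi : ∀ (i : ℕ) (v : V), S ((N ^ i : Module.End F V) v) = (N ^ i : Module.End F V) (S v) := by
    intro i
    induction i with
    | zero => simp
    | succ i ih => intro v; rw [pow_succ', Module.End.mul_apply, Module.End.mul_apply, hSN, ih]
  have hstep : ∀ i, N ^ i = 0 ∨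
      Module.finrank F (LinearMap.range (N ^ (i + 1))) + 2 ≤
        Module.finrank F (LinearMap.range (N ^ i)) := by
    intro i
    refine or_iff_not_imp_left.2 fun hi => quad_gap hquad hroot (lt_of_le_of_ne ?_ ?_) ?_ ?_
    · rw [pow_succ, Module.End.mul_eq_comp]; exact LinearMap.range_comp_le_range _ _
    · intro e
      obtain ⟨k, hk⟩ := hnil
      have : ∀ j, LinearMap.range (N ^ (i + j)) = LinearMap.range (N ^ i) := by
        intro j
        induction j with
        | zero => rfl
        | succ j ih =>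
          rw [← add_assoc, pow_succ', Module.End.mul_eq_comp, LinearMap.range_comp, ih,
            ← LinearMap.range_comp, ← Module.End.mul_eq_comp, ← pow_succ', e]
      have h := this k
      rw [pow_add, hk, mul_zero, LinearMap.range_zero] at h
      exact hi (LinearMap.range_eq_bot.1 h.symm)
    · rintro _ ⟨v, rfl⟩; exact ⟨S v, (hSNi _ v).symm⟩
    · rintro _ ⟨v, rfl⟩; exact ⟨S v, (hSNi _ v).symm⟩
  have h3 : N ^ 3 = 0 := by
    by_contra h3
    have hne : ∀ i, i ≤ 3 → N ^ i ≠ 0 := fun i hi h => h3 (pow_eq_zero_of_le hi h)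
    have s0 := (hstep 0).resolve_left (hne 0 (by omega))
    have s1 := (hstep 1).resolve_left (hne 1 (by omega))
    have s2 := (hstep 2).resolve_left (hne 2 (by omega))
    have := Submodule.finrank_le (LinearMap.range (N ^ 0))
    rw [finrank_six] at this
    simp only [Nat.reduceAdd] at s0 s1 s2
    have h0 : Module.finrank F (LinearMap.range (N ^ 3)) = 0 := by omega
    exact h3 (LinearMap.range_eq_bot.1 (Submodule.finrank_eq_zero.1 h0))
  by_cases h2 : N ^ 2 = 0
  · have hker : 3 ≤ Module.finrank F (LinearMap.ker N) := by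
      have h := LinearMap.finrank_range_add_finrank_ker N
      have hle := Submodule.finrank_mono (R := F) (s := LinearMap.range N) (t := LinearMap.ker N)
        (by
          rintro _ ⟨v, rfl⟩
          rw [LinearMap.mem_ker, ← Module.End.mul_apply, ← pow_two, h2, LinearMap.zero_apply])
      rw [finrank_six] at h
      omega
    have hkS : ∀ w ∈ LinearMap.ker N, S w ∈ LinearMap.ker N := fun w hw => by
      rw [LinearMap.mem_ker, ← hSN, LinearMap.mem_ker.1 hw, map_zero]
    have hT : ∀ w ∈ LinearMap.ker N, (spAct g : Module.End F V) w = S w := fun w hw => by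
      have : U w = w := sub_eq_zero.1 (by simpa [hN] using LinearMap.mem_ker.1 hw)
      rw [hgS, this]
    obtain ⟨x, hx, hxS⟩ : ∃ x ∈ LinearMap.ker N, B x (S x) ≠ 0 := by
      by_contra! hd
      have hzero := zero_of_diag hc4 (LinearMap.ker N) hkS hquad B
        (fun a b => GLOrder.sympB_swap a b) (fun a b => quad_adj hS hquad a b) hd
      have h4 := finrank_le_three hzero
      obtain ⟨x, hx, hx0⟩ := Submodule.exists_mem_ne_zero_of_ne_bot (p := LinearMap.ker N)
        (fun h : LinearMap.ker N = ⊥ => by rw [h, finrank_bot] at hker; omega)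
      have hplane : ∀ w ∈ Submodule.span F {x, S x}, S w ∈ Submodule.span F {x, S x} := by
        intro w hw
        obtain ⟨a, b, rfl⟩ := Submodule.mem_span_pair.1 hw
        exact Submodule.mem_span_pair.2 ⟨-b, a + b * c, by
          rw [map_add, map_smul, map_smul, hquad]; module⟩
      have hli : LinearIndependent F ![x, S x] := by
        rw [linearIndependent_fin2]
        refine ⟨fun h0 => hx0 ?_, fun a ha => ?_⟩
        · have := hquad x
          simp only [Matrix.cons_val_one, Matrix.cons_val_fin_one] at h0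
          rw [h0, map_zero, smul_zero, zero_sub, eq_comm, neg_eq_zero] at this
          exact this
        · simp only [Matrix.cons_val_one, Matrix.cons_val_fin_one, Matrix.cons_val_zero] at ha
          have h1 : a • S x = x := ha
          have h2' := congrArg S h1
          rw [map_smul, hquad] at h2'
          have hz : (a * a - c * a + 1) • x = 0 := by
            linear_combination (norm := module) (-a) • h2' + (c * a - 1) • h1
          exact hx0 ((smul_eq_zero.1 hz).resolve_left (hroot a))
      have hfr : Module.finrank F (Submodule.span F {x, S x}) = 2 := by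
        have := finrank_span_eq_card hli
        rwa [Fintype.card_fin, Matrix.range_cons, Matrix.range_cons, Matrix.range_empty,
          Set.union_empty, Set.singleton_union] at this
      have hle : Submodule.span F {x, S x} ≤ LinearMap.ker N :=
        Submodule.span_le.2 (Set.insert_subset_iff.2 ⟨hx, Set.singleton_subset_iff.2 (hkS x hx)⟩)
      have := quad_gap hquad hroot (lt_of_le_of_ne hle fun e => by rw [← e, hfr] at hker; omega)
        hplane hkS
      omega
    obtain ⟨h, hh⟩ := cover_of_pair g hxS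
      (by rw [hT x hx]; exact Submodule.subset_span (Set.mem_insert_of_mem _ rfl))
      (by rw [hT _ (hkS x hx), hquad]
          exact Submodule.mem_span_pair.2 ⟨-1, c, by module⟩)
    exact ⟨h, Or.inl hh⟩
  · have hcube : IsCube U := ⟨hU, cube_of_nilpotent h3⟩
    obtain ⟨a, b, hab⟩ := exists_tsum_ne h2
    obtain ⟨e, he⟩ : ∃ e, tsum U e (S e) ≠ 0 := by
      by_contra! hd
      refine hab ?_
      rw [tsum_eq]
      refine zero_of_diag hc4 ⊤ (fun _ _ => trivial) hquad ((B).compl₂ (N ^ 2)) (fun a b => ?_)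
        (fun a b => ?_) (fun x _ => ?_) a trivial b trivial
      · show B b _ = -B a _
        rw [← tsum_eq, ← tsum_eq]
        simp only [tsum]
        rw [GLOrder.sympB_swap a b, GLOrder.sympB_swap (U a) b, GLOrder.sympB_swap (U (U a)) b,
          hcube.left, hcube.left2]
        ring
      · show B (S a) ((N ^ 2 : Module.End F V) b) = B a ((N ^ 2 : Module.End F V) (c • b - S b))
        rw [quad_adj hS hquad]
        congr 1
        rw [map_sub, map_smul, hSNi]
      · show B x _ = 0
        rw [← tsum_eq]; exact hd x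
    obtain ⟨h, hh⟩ := cover_inert C hcube g S hgS hSU c hS hquad e he
    exact ⟨h, Or.inr hh⟩

theorem cover_split_case (C : Cubic F K) (g : Matrix.symplecticGroup (Fin 3) F)
    {S U : Module.End F V} (hgS : ∀ v, (spAct g : Module.End F V) v = S (U v))
    (hSU : ∀ v, S (U v) = U (S v)) (hS : ∀ a b, B (S a) (S b) = B a b)
    (hU : ∀ a b, B (U a) (U b) = B a b) (hnil : IsNilpotent (U - 1)) {l m : F}
    (hl : l * l ≠ 1) (hm : m * m ≠ 1) (hlm : l ≠ m)
    (hquad : ∀ v, S (S v) = (l + m) • S v - (l * m) • v) :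
    ∃ h, h * g * h⁻¹ ∈ sixP F ∨ h * g * h⁻¹ ∈ sixL C := by
  set N := U - 1 with hN
  let E : F → Submodule F V := fun k => LinearMap.ker (S - k • (1 : Module.End F V))
  have hE : ∀ k v, v ∈ E k ↔ S v = k • v := fun k v => by
    simp [E, sub_eq_zero]
  have hiso : ∀ k, k * k ≠ 1 → ∀ a ∈ E k, ∀ b ∈ E k, B a b = 0 := fun k hk a ha b hb => by
    have := hS a b
    rw [(hE k a).1 ha, (hE k b).1 hb, map_smul, map_smul, LinearMap.smul_apply, smul_eq_mul,
      smul_eq_mul, ← mul_assoc] at this
    by_contra hne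
    exact hk ((mul_eq_right₀ hne).1 this)
  have hdec : ∀ z : V, ∃ x ∈ E l, ∃ y ∈ E m, x + y = z := fun z => by
    refine ⟨(l - m)⁻¹ • (S z - m • z), (hE l _).2 ?_, (m - l)⁻¹ • (S z - l • z), (hE m _).2 ?_, ?_⟩
    · rw [map_smul, map_sub, map_smul, hquad, smul_comm l]
      congr 1
      module
    · rw [map_smul, map_sub, map_smul, hquad, smul_comm m]
      congr 1
      module
    · rw [show (m - l)⁻¹ = -(l - m)⁻¹ by rw [← inv_neg, neg_sub], neg_smul, ← sub_eq_add_neg,
        ← smul_sub, show S z - m • z - (S z - l • z) = (l - m) • z by module, smul_smul,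
        inv_mul_cancel₀ (sub_ne_zero.2 hlm), one_smul]
  have hdisj : E l ⊓ E m = ⊥ := eq_bot_iff.2 fun v ⟨h1, h2⟩ => by
    have h : (l - m) • v = 0 := by rw [sub_smul, ← (hE l v).1 h1, ← (hE m v).1 h2, sub_self]
    exact (smul_eq_zero.1 h).resolve_left (sub_ne_zero.2 hlm)
  have htop : E l ⊔ E m = ⊤ := eq_top_iff.2 fun z _ => by
    obtain ⟨x, hx, y, hy, rfl⟩ := hdec z
    exact Submodule.add_mem_sup hx hy
  have hdim : Module.finrank F (E l) = 3 ∧ Module.finrank F (E m) = 3 := by
    have h := Submodule.finrank_sup_add_finrank_inf_eq (E l) (E m)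
    rw [htop, hdisj, finrank_top, finrank_bot, finrank_six] at h
    have h1 := finrank_le_three (hiso l hl)
    have h2 := finrank_le_three (hiso m hm)
    omega
  have hNE : ∀ k, ∀ w ∈ E k, N w ∈ E k := fun k w hw => (hE k _).2 (by
    simp only [hN, LinearMap.sub_apply, Module.End.one_apply, map_sub, hSU, (hE k w).1 hw,
      map_smul, smul_sub])
  have hUE : ∀ k, ∀ w ∈ E k, U w ∈ E k := fun k w hw => by
    have : U w = N w + w := by simp [hN]
    rw [this]; exact Submodule.add_mem _ (hNE k w hw) hw
  have h3E : ∀ k, Module.finrank F (E k) = 3 → ∀ w ∈ E k, (N ^ 3 : Module.End F V) w = 0 := by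
    intro k hk w hw
    have hn : IsNilpotent (N.restrict (hNE k)) := by
      obtain ⟨j, hj⟩ := hnil
      refine ⟨j, LinearMap.ext fun z => Subtype.ext ?_⟩
      rw [Module.End.pow_restrict j, LinearMap.restrict_apply]
      show (N ^ j : Module.End F V) z.1 = 0
      rw [hj, LinearMap.zero_apply]
    have h := LinearMap.congr_fun (pow_finrank_eq_zero hn) ⟨w, hw⟩
    rw [hk, Module.End.pow_restrict 3] at h
    exact congrArg Subtype.val h
  have h3 : N ^ 3 = 0 := LinearMap.ext fun z => by
    obtain ⟨x, hx, y, hy, rfl⟩ := hdec z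
    rw [map_add, h3E l hdim.1 x hx, h3E m hdim.2 y hy, add_zero, LinearMap.zero_apply]
  by_cases h2 : N ^ 2 = 0
  · have hk2 : ∀ k, Module.finrank F (E k) = 3 →
        2 ≤ Module.finrank F (LinearMap.ker N ⊓ E k : Submodule F V) := by
      intro k hk
      have h := LinearMap.finrank_range_add_finrank_ker (N.restrict (hNE k))
      have hle := Submodule.finrank_mono (R := F) (s := LinearMap.range (N.restrict (hNE k)))
        (t := LinearMap.ker (N.restrict (hNE k))) (by
          rintro _ ⟨v, rfl⟩
          rw [LinearMap.mem_ker]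
          refine Subtype.ext ?_
          show N (N v.1) = 0
          rw [← Module.End.mul_apply, ← pow_two, h2, LinearMap.zero_apply])
      let φ : LinearMap.ker (N.restrict (hNE k)) →ₗ[F] (LinearMap.ker N ⊓ E k : Submodule F V) :=
        { toFun := fun z => ⟨z.1.1, LinearMap.mem_ker.2 (congrArg Subtype.val
            (LinearMap.mem_ker.1 z.2)), z.1.2⟩
          map_add' := fun _ _ => rfl
          map_smul' := fun _ _ => rfl }
      have := φ.finrank_le_finrank_of_injective fun a b hab =>
        Subtype.ext (Subtype.ext (congrArg (fun z => z.1) hab))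
      rw [hk] at h
      omega
    obtain ⟨x, hx, y, hy, hxy⟩ : ∃ x ∈ LinearMap.ker N ⊓ E l, ∃ y ∈ LinearMap.ker N ⊓ E m,
        B x y ≠ 0 := by
      by_contra! hz
      have h := Submodule.finrank_sup_add_finrank_inf_eq (LinearMap.ker N ⊓ E l) (LinearMap.ker N ⊓ E m)
      have hb : (LinearMap.ker N ⊓ E l) ⊓ (LinearMap.ker N ⊓ E m) = ⊥ :=
        eq_bot_iff.2 ((inf_le_inf inf_le_right inf_le_right).trans hdisj.le)
      rw [hb, finrank_bot] at h
      have ha := hk2 l hdim.1
      have hb' := hk2 m hdim.2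
      have h4 : Module.finrank F
          ((LinearMap.ker N ⊓ E l) ⊔ (LinearMap.ker N ⊓ E m) : Submodule F V) ≤ 3 := by
        refine finrank_le_three fun a ha b hb => ?_
        obtain ⟨a1, ha1, a2, ha2, rfl⟩ := Submodule.mem_sup.1 ha
        obtain ⟨b1, hb1, b2, hb2, rfl⟩ := Submodule.mem_sup.1 hb
        simp only [map_add, LinearMap.add_apply, hiso l hl a1 ha1.2 b1 hb1.2,
          hiso m hm a2 ha2.2 b2 hb2.2, hz a1 ha1 b2 hb2, GLOrder.sympB_swap b1 a2,
          hz b1 hb1 a2 ha2, neg_zero, add_zero]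
      omega
    have hT : ∀ k w, w ∈ LinearMap.ker N ⊓ E k → (spAct g : Module.End F V) w = k • w := by
      intro k w hw
      have : U w = w := sub_eq_zero.1 (by simpa [hN] using LinearMap.mem_ker.1 hw.1)
      rw [hgS, this, (hE k w).1 hw.2]
    obtain ⟨h, hh⟩ := cover_of_pair g hxy
      (by rw [hT l x hx]; exact Submodule.smul_mem _ _ (Submodule.subset_span (Set.mem_insert _ _)))
      (by rw [hT m y hy]
          exact Submodule.smul_mem _ _ (Submodule.subset_span (Set.mem_insert_of_mem _ rfl)))
    exact ⟨h, Or.inl hh⟩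
  · have hcube : IsCube U := ⟨hU, cube_of_nilpotent h3⟩
    obtain ⟨a, b, hab⟩ := exists_tsum_ne h2
    obtain ⟨a1, ha1, a2, ha2, rfl⟩ := hdec a
    obtain ⟨b1, hb1, b2, hb2, rfl⟩ := hdec b
    have hz : ∀ k, k * k ≠ 1 → ∀ u ∈ E k, ∀ v ∈ E k, tsum U u v = 0 := fun k hk u hu v hv => by
      simp only [tsum, hiso k hk u hu v hv, hiso k hk u hu _ (hUE k v hv),
        hiso k hk u hu _ (hUE k _ (hUE k v hv)), add_zero]
    have he : tsum U (a1 + a2) (b1 + b2) = tsum U a1 b2 + tsum U a2 b1 := by
      have : tsum U (a1 + a2) (b1 + b2) =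
          tsum U a1 b1 + tsum U a1 b2 + (tsum U a2 b1 + tsum U a2 b2) := by
        simp only [tsum, map_add, LinearMap.add_apply]; ring
      rw [this, hz l hl a1 ha1 b1 hb1, hz m hm a2 ha2 b2 hb2, zero_add, add_zero]
    rw [he] at hab
    by_cases h12 : tsum U a1 b2 = 0
    · rw [h12, zero_add] at hab
      obtain ⟨h, hh⟩ := cover_split C hcube g S hgS hSU hS hm hl a2 b1 ((hE m _).1 ha2)
        ((hE l _).1 hb1) hab
      exact ⟨h, Or.inr hh⟩
    · obtain ⟨h, hh⟩ := cover_split C hcube g S hgS hSU hS hl hm a1 b2 ((hE l _).1 ha1)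
        ((hE m _).1 hb2) h12
      exact ⟨h, Or.inr hh⟩

theorem cover_deg_one (C : Cubic F K) (g : Matrix.symplecticGroup (Fin 3) F) (c : F)
    (hP : ((spAct g : Module.End F V) * (spAct g : Module.End F V) -
      c • (spAct g : Module.End F V) + 1) ^ 6 = 0) :
    ∃ h, h * g * h⁻¹ ∈ sixP F ∨ h * g * h⁻¹ ∈ sixL C := by
  classical
  letI := Fintype.ofFinite F
  haveI := charP_endSix (F := F)
  set T := (spAct g : Module.End F V) with hTd
  by_cases hc : c * c = 1
  · obtain ⟨z, hz⟩ := exists_sp_of_isom ((-c) • (1 : Module.End F V)) fun u v => by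
      simp only [LinearMap.smul_apply, Module.End.one_apply, map_smul, smul_eq_mul,
        ← mul_assoc, neg_mul_neg, hc, one_mul]
    have hzc : z ∈ Subgroup.center (Matrix.symplecticGroup (Fin 3) F) :=
      Subgroup.mem_center_iff.2 fun k => spAct_injective (Units.ext (by
        simp only [map_mul, Units.val_mul, hz, Algebra.smul_mul_assoc, one_mul,
          Algebra.mul_smul_comm, mul_one]))
    have hnil : IsNilpotent ((spAct (z * g) : Module.End F V) - 1) := by
      rw [map_mul, Units.val_mul, hz, Algebra.smul_mul_assoc, one_mul, ← hTd,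
        show (-c) • T - 1 = (-c) • (T + c • (1 : Module.End F V)) by
          rw [smul_add, smul_smul, neg_mul, hc, neg_one_smul, sub_eq_add_neg]]
      refine IsNilpotent.smul ⟨12, ?_⟩ _
      have hsq : (T + c • (1 : Module.End F V)) ^ 2 = T * T - c • T + 1 := by
        rw [pow_two, add_mul, mul_add, mul_add]
        simp only [Algebra.mul_smul_comm, Algebra.smul_mul_assoc, mul_one, one_mul, smul_smul, hc]
        have h3 : (3 : F) • (c • T) = 0 := by rw [three_eq_zero', zero_smul]
        linear_combination (norm := module) h3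
      rw [show (12 : ℕ) = 2 * 6 from rfl, pow_mul, hsq, hP]
    obtain ⟨h, hh⟩ := cover_unipotent C (z * g) hnil
    have e : h * (z * g) * h⁻¹ = z * (h * g * h⁻¹) := by
      rw [← mul_assoc h z g, Subgroup.mem_center_iff.1 hzc h]; group
    refine ⟨h, hh.imp (fun hh => ?_) fun hh => ?_⟩
    · rw [e] at hh
      exact ((sixP F).mul_mem_cancel_left (center_le_sixP hzc)).1 hh
    · rw [e] at hh
      exact ((sixL C).mul_mem_cancel_left (center_le_sixL C hzc)).1 hh
  set q := Fintype.card F with hq
  obtain ⟨a, -, ha⟩ := FiniteField.card F 3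
  have hq3 : 3 ≤ q := by
    rw [hq, ha]; exact Nat.le_self_pow a.pos.ne' 3
  set n := q ^ 2 with hn
  have hn6 : 6 ≤ n := by rw [hn]; nlinarith
  set P : F[X] := X ^ 2 - Polynomial.C c * X + 1 with hPd
  have haev : ∀ A : Module.End F V, aeval A P = A * A - c • A + 1 := fun A => by
    simp [hPd, pow_two, Algebra.smul_def]
  have hroot' : ∀ k : F, P.IsRoot k ↔ k * k - c * k + 1 = 0 := fun k => by
    simp [hPd, pow_two]
  have hdvd : P ∣ X ^ n - X := by
    by_cases hr : ∃ l : F, l * l - c * l + 1 = 0
    · obtain ⟨l, hl⟩ := hr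
      have hf : P = (X - Polynomial.C l) * (X - Polynomial.C (c - l)) := by
        have h1 : Polynomial.C (l * (c - l)) = 1 := by
          rw [show l * (c - l) = 1 by linear_combination -hl, map_one]
        simp only [map_mul, map_sub] at h1
        simp only [hPd, map_sub]
        linear_combination -h1
      have hlin : ∀ k : F, X - Polynomial.C k ∣ X ^ n - X := fun k => by
        rw [dvd_iff_isRoot, IsRoot, eval_sub, eval_pow, eval_X, hn, hq, FiniteField.pow_card_pow,
          sub_self]
      have hne : l - (c - l) ≠ 0 := fun h => hc (by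
        linear_combination (-(c + 2 * l) + 4 * l) * h + (-4 : F) * hl + (1 : F) * three_eq_zero' (F := F))
      rw [hf]
      exact (isCoprime_X_sub_C_of_isUnit_sub (isUnit_iff_ne_zero.2 hne)).mul_dvd (hlin _) (hlin _)
    · push Not at hr
      have hdeg : P.natDegree = 2 := by rw [hPd]; compute_degree!
      have hirr : Irreducible P :=
        (Polynomial.irreducible_iff_roots_eq_zero_of_degree_le_three (by omega) (by omega)).2
          (Multiset.eq_zero_of_forall_notMem fun k hk =>
            hr k ((hroot' k).1 (isRoot_of_mem_roots hk)))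
      have := (hirr.natDegree_dvd_iff_dvd_X_pow_card_pow_sub_X (n := 2)).1 (by rw [hdeg])
      rwa [Nat.card_eq_fintype_card, ← hq, ← hn] at this
  set gS := g ^ n with hgS
  set S := (spAct gS : Module.End F V) with hSd
  have hSP : aeval S P = 0 := by
    rw [hSd, hgS, map_pow, Units.val_pow_eq_pow_val, ← hTd, hn, hq, aeval_pow_card_pow, ← hq,
      ← hn, haev]
    exact pow_eq_zero_of_le hn6 hP
  have hSn : S ^ n = S := by
    obtain ⟨R, hR⟩ := hdvd
    have := congrArg (aeval S) hR
    rw [map_sub, map_pow, aeval_X, map_mul, hSP, zero_mul] at this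
    exact sub_eq_zero.1 this
  have hquad : ∀ v, S (S v) = c • S v - v := fun v => by
    have := LinearMap.congr_fun ((haev S).symm.trans hSP) v
    simp only [LinearMap.add_apply, LinearMap.sub_apply, LinearMap.smul_apply,
      Module.End.mul_apply, Module.End.one_apply, LinearMap.zero_apply] at this
    linear_combination (norm := module) this
  have hgSn : gS ^ n = gS := spAct_injective (Units.ext (by
    rw [map_pow, Units.val_pow_eq_pow_val]; exact hSn))
  set gU := g * gS⁻¹ with hgU
  set U := (spAct gU : Module.End F V) with hUd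
  have hcm : Commute g gS := (Commute.refl g).pow_right n
  have hUn : gU ^ n = 1 := by
    rw [hgU, hcm.inv_right.mul_pow, inv_pow, hgSn, ← hgS, mul_inv_cancel]
  have hcm2 : Commute gS gU := hcm.symm.mul_right (Commute.refl gS).inv_right
  have hg : gS * gU = g := by rw [hcm2.eq, hgU, inv_mul_cancel_right]
  have hgSU : ∀ v, (spAct g : Module.End F V) v = S (U v) := fun v => by
    rw [hSd, hUd, ← Module.End.mul_apply, ← Units.val_mul, ← map_mul, hg]
  have hSU : ∀ v, S (U v) = U (S v) := fun v => by
    rw [hSd, hUd, ← Module.End.mul_apply, ← Module.End.mul_apply, ← Units.val_mul, ← Units.val_mul,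
      ← map_mul, ← map_mul, hcm2.eq]
  have hn3 : n = 3 ^ (2 * (a : ℕ)) := by rw [hn, hq, ha, ← pow_mul, mul_comm]
  have hnil : IsNilpotent (U - 1) := ⟨n, by
    rw [hn3, sub_pow_char_pow_of_commute (p := 3) (h := Commute.one_right U), one_pow, ← hn3, hUd,
      ← Units.val_pow_eq_pow_val, ← map_pow, hUn, map_one, Units.val_one, sub_self]⟩
  by_cases hr : ∃ l : F, l * l - c * l + 1 = 0
  · obtain ⟨l, hl⟩ := hr
    have hsq : ∀ k : F, k * k - c * k + 1 = 0 → k * k ≠ 1 := fun k hk h1 => hc (by
      linear_combination (-(c * c) + (c * k + 2)) * h1 + (-(c * k + 2)) * hk + three_eq_zero' (F := F))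
    refine cover_split_case C g hgSU hSU (spAct_sympB gS) (spAct_sympB gU) hnil (m := c - l)
      (hsq l hl) (hsq _ (by linear_combination hl)) (fun h => hc ?_) fun v => ?_
    · linear_combination (-(c + 2 * l) + 4 * l) * (sub_eq_zero.2 h) + (-4 : F) * hl +
        (1 : F) * three_eq_zero' (F := F)
    · rw [hquad, show l * (c - l) = 1 by linear_combination -hl, one_smul, add_sub_cancel]
  · push Not at hr
    exact cover_inert_case C g hgSU hSU (spAct_sympB gS) (spAct_sympB gU) hnil hc hquad hr

end DegOne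

theorem cover_psp_six [Fintype F] [CharP F 3] : TwoCover (Cfsg.PSp 3 F) := by
  classical
  obtain ⟨K, _, _, _, hK⟩ := exists_ext F 3 (by norm_num)
  haveI : FiniteDimensional F K := Module.Finite.of_finite
  obtain ⟨C⟩ := exists_cubic (F := F) (K := K) hK
  refine twoCover_quotient _ (sixP F) (sixL C) center_le_sixP (center_le_sixL C) sixP_ne_top
    (sixL_ne_top C) fun g => ?_
  have h2 : (2 : F) ≠ 0 := two_ne_zero_three
  set T := (spAct g : Module.End F V) with hTd
  set T' := (spAct g⁻¹ : Module.End F V) with hT'd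
  have hTT' : T * T' = 1 := LinearMap.ext fun v => spAct_apply_inv g v
  have hT'T : T' * T = 1 := LinearMap.ext fun v => spAct_inv_apply g v
  set y := T + T' with hy
  have hTy : Commute T y := by
    show T * (T + T') = (T + T') * T
    rw [mul_add, add_mul, hTT', hT'T]
  have hyadj : ∀ a b, B (y a) b = B a (y b) := fun a b => by
    rw [hy, LinearMap.add_apply, LinearMap.add_apply, map_add, LinearMap.add_apply, map_add,
      hTd, hT'd, adj_spAct g, adj_spAct g⁻¹, inv_inv, add_comm]
  have hTR : ∀ R : F[X], ∀ v, T (aeval y R v) = aeval y R (T v) := fun R v => by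
    have : Commute T (aeval y R) := by
      induction R using Polynomial.induction_on' with
      | add p q hp hq => rw [map_add]; exact hp.add_right hq
      | monomial k a =>
        rw [aeval_monomial]; exact (Algebra.commute_algebraMap_right a T).mul_right (hTy.pow_right k)
    rw [← Module.End.mul_apply, this.eq, Module.End.mul_apply]
  have hint : IsIntegral F y := Algebra.IsIntegral.isIntegral y
  obtain ⟨p, hpm, hp, hpdvd⟩ := Polynomial.exists_monic_irreducible_factor (minpoly F y)
    (minpoly.not_isUnit F y)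
  set A : Module.End F V := aeval y (p ^ 6) with hA
  set W := LinearMap.ker A with hW
  have hA2 : ∀ v, A (A v) = 0 → A v = 0 := fun v hv => by
    have h6 := Module.End.ker_pow_eq_ker_pow_finrank_of_le (f := aeval y p) (m := 6 + 6)
      (by rw [finrank_six]; omega)
    rw [finrank_six] at h6
    have hmem : v ∈ LinearMap.ker ((aeval y p) ^ (6 + 6)) := by
      rw [LinearMap.mem_ker, pow_add, Module.End.mul_apply, ← map_pow, ← hA]; exact hv
    rw [h6, LinearMap.mem_ker, ← map_pow, ← hA] at hmem
    exact hmem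
  have hWne : W ≠ ⊥ := fun hb => by
    obtain ⟨R, hR⟩ := hpdvd
    have hinj : Function.Injective (aeval y p) := by
      rw [← LinearMap.ker_eq_bot, eq_bot_iff]
      intro v hv
      rw [← hb, hW, hA, LinearMap.mem_ker, map_pow, pow_succ, Module.End.mul_apply,
        LinearMap.mem_ker.1 hv, map_zero]
    have hR0 : aeval y R = 0 := LinearMap.ext fun v => hinj (by
      rw [LinearMap.zero_apply, map_zero, ← Module.End.mul_apply, ← map_mul, ← hR, minpoly.aeval,
        LinearMap.zero_apply])
    have hdeg := minpoly.degree_le_of_ne_zero F y (right_ne_zero_of_mul (hR ▸ minpoly.ne_zero hint)) hR0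
    rw [hR, Polynomial.degree_mul] at hdeg
    have hRne : R ≠ 0 := right_ne_zero_of_mul (hR ▸ minpoly.ne_zero hint)
    rw [degree_eq_natDegree hp.ne_zero, degree_eq_natDegree hRne, ← Nat.cast_add,
      Nat.cast_le] at hdeg
    have := hp.natDegree_pos
    omega
  have hWT : ∀ w ∈ W, T w ∈ W := fun w hw => by
    rw [hW, LinearMap.mem_ker, hA, ← hTR, ← hA, LinearMap.mem_ker.1 hw, map_zero]
  have hWnd : ∀ x ∈ W, (∀ z ∈ W, B x z = 0) → x = 0 := fun x hx hxW => by
    have hd : W ⊓ LinearMap.range A = ⊥ := eq_bot_iff.2 fun v ⟨h1, u, hu⟩ => by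
      have h1' : A v = 0 := LinearMap.mem_ker.1 h1
      rw [← hu] at h1'
      rw [Submodule.mem_bot, ← hu, hA2 u h1']
    have hs : W ⊔ LinearMap.range A = ⊤ := by
      refine Submodule.eq_top_of_finrank_eq ?_
      have := Submodule.finrank_sup_add_finrank_inf_eq W (LinearMap.range A)
      rw [hd, finrank_bot] at this
      have h' := LinearMap.finrank_range_add_finrank_ker A
      rw [← hW] at h'
      omega
    refine GLOrder.sympB_nondeg x fun v => ?_
    obtain ⟨w, hw, _, ⟨u, rfl⟩, rfl⟩ := Submodule.mem_sup.1 (hs ▸ Submodule.mem_top : v ∈ W ⊔ _)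
    rw [map_add, hxW w hw, zero_add, hA, ← adj_aeval hyadj, ← hA, LinearMap.mem_ker.1 hx,
      map_zero, LinearMap.zero_apply]
  by_cases hWtop : W = ⊤
  swap
  · have heven := even_of_nondeg h2 W hWnd
    have h1 := Submodule.finrank_lt hWtop
    rw [finrank_six] at h1
    have h0 : Module.finrank F W ≠ 0 := fun h => hWne (Submodule.finrank_eq_zero.1 h)
    obtain ⟨s, hs⟩ := heven
    obtain ⟨h, hh⟩ := cover_of_nondeg g W hWT hWnd (by omega)
    exact ⟨h, Or.inl hh⟩
  have hA0 : aeval y (p ^ 6) = 0 := LinearMap.ext fun v =>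
    LinearMap.mem_ker.1 (hWtop ▸ Submodule.mem_top : v ∈ W)
  have hfac : ∀ f : F[X], Irreducible f → f ∣ p ^ 6 → f.natDegree = p.natDegree := fun f hf hfd =>
    natDegree_eq_of_degree_eq (degree_eq_degree_of_associated
      (hf.associated_of_dvd hp (hf.prime.dvd_of_dvd_pow hfd)))
  haveI := Fact.mk hp
  haveI : Module.Finite F (AdjoinRoot p) := hpm.finite_adjoinRoot
  haveI : Finite (AdjoinRoot p) := Module.finite_of_finite F
  have hfr : Module.finrank F (AdjoinRoot p) = p.natDegree := by
    rw [(AdjoinRoot.powerBasis hp.ne_zero).finrank, AdjoinRoot.powerBasis_dim]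
  obtain ⟨ρ, hρ⟩ := exists_aeval_ext (AdjoinRoot p) y (p ^ 6) (pow_ne_zero 6 hp.ne_zero) hA0
    (fun f hf hfd => by rw [hfr, hfac f hf hfd])
  have hadj : ∀ k a b, B (ρ k a) b = B a (ρ k b) := fun k a b => by
    obtain ⟨R, hR⟩ := hρ k; rw [hR]; exact adj_aeval hyadj R a b
  obtain ⟨r, -, M, hr, hM, hd, -, -⟩ := exists_skew_coords ρ hadj
  have h2' : (2 : AdjoinRoot p) ≠ 0 := fun h => h2
    ((algebraMap F (AdjoinRoot p)).injective (by rw [map_ofNat, map_zero]; exact h))
  obtain ⟨s, hs⟩ := even_of_skew h2' hM hd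
  rw [hfr] at hr
  have hd13 : p.natDegree ∣ 3 := ⟨s, by rw [hs, mul_add] at hr; omega⟩
  rcases Nat.prime_three.eq_one_or_self_of_dvd _ hd13 with hd1 | hd3
  · have hpX := hpm.eq_X_add_C hd1
    refine cover_deg_one C g (-p.coeff 0) ?_
    have hay : aeval y p = y - (-p.coeff 0) • (1 : Module.End F V) := by
      conv_lhs => rw [hpX]
      rw [map_add, aeval_X, aeval_C, Algebra.algebraMap_eq_smul_one]
      module
    have hcy : Commute T (aeval y p) := by
      rw [hay]; exact hTy.sub_right ((Commute.one_right T).smul_right _)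
    have he : T * T - (-p.coeff 0) • T + 1 = T * aeval y p := by
      rw [hay, mul_sub, Algebra.mul_smul_comm, mul_one, hy, mul_add, hTT']; abel
    rw [← hTd, he, hcy.mul_pow, ← map_pow, hA0, mul_zero]
  · haveI : Finite K := inferInstance
    obtain ⟨ρ', hρ'⟩ := exists_aeval_ext K y (p ^ 6) (pow_ne_zero 6 hp.ne_zero) hA0
      (fun f hf hfd => by rw [hK, hfac f hf hfd, hd3])
    obtain ⟨h, hh⟩ := cover_cubic C g ρ' (fun k a b => by
        obtain ⟨R, hR⟩ := hρ' k; rw [hR]; exact adj_aeval hyadj R a b) (fun k v => by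
        obtain ⟨R, hR⟩ := hρ' k; rw [hR]; exact hTR R v)
    exact ⟨h, Or.inr hh⟩

end Cfsg.Agent.TwoCover
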