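import Cfsg.Agent.Lib.TwoCover.SixFree
import Cfsg.Agent.Lib.Forms.RegularSympMatrix

/-
Unipotent elements of Sp₆(3^a).
* `pow_finrank_eq_zero`, `rank_step`, `adj_top`, `cube_of_nilpotent`, `tsum_eq`, `regular_value`
* `cover_unipotent`
-/
set_option autoImplicit false

open Matrix

namespace Cfsg.Agent.TwoCover

theorem pow_finrank_eq_zero {F W : Type*} [Field F] [AddCommGroup W] [Module F W]
    [FiniteDimensional F W] {N : Module.End F W} (h : IsNilpotent N) :
    N ^ Module.finrank F W = 0 := by
  have h1 := N.aeval_self_charpoly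
  rwa [IsNilpotent.charpoly_eq_X_pow_finrank h, map_pow, Polynomial.aeval_X] at h1

theorem rank_step {F W : Type*} [Field F] [AddCommGroup W] [Module F W] [FiniteDimensional F W]
    (N : Module.End F W) {i k : ℕ} (hik : i ≤ k) (hk : N ^ (k + 1) = 0) :
    Module.finrank F (LinearMap.range (N ^ (i + 1))) + Module.finrank F (LinearMap.range (N ^ k)) ≤
      Module.finrank F (LinearMap.range (N ^ i)) := by
  have h := LinearMap.finrank_range_add_finrank_ker (N.domRestrict (LinearMap.range (N ^ i)))
  have hr : LinearMap.range (N.domRestrict (LinearMap.range (N ^ i))) =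
      LinearMap.range (N ^ (i + 1)) := by
    rw [LinearMap.range_domRestrict, pow_succ', Module.End.mul_eq_comp, LinearMap.range_comp]
  rw [hr] at h
  have hsub : Module.finrank F (LinearMap.range (N ^ k)) ≤
      Module.finrank F (LinearMap.ker (N.domRestrict (LinearMap.range (N ^ i)))) := by
    have hmem : ∀ z ∈ LinearMap.range (N ^ k), z ∈ LinearMap.range (N ^ i) := by
      rintro _ ⟨x, rfl⟩
      refine ⟨(N ^ (k - i)) x, ?_⟩
      rw [← Module.End.mul_apply, ← pow_add, Nat.add_sub_cancel' hik]
    have hker : ∀ z : LinearMap.range (N ^ k),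
        N.domRestrict (LinearMap.range (N ^ i)) ⟨z.1, hmem z z.2⟩ = 0 := by
      rintro ⟨_, x, rfl⟩
      show N ((N ^ k) x) = 0
      rw [← Module.End.mul_apply, ← pow_succ', hk, LinearMap.zero_apply]
    let φ : LinearMap.range (N ^ k) →ₗ[F]
        LinearMap.ker (N.domRestrict (LinearMap.range (N ^ i))) :=
      { toFun := fun z => ⟨⟨z.1, hmem z z.2⟩, hker z⟩
        map_add' := fun _ _ => rfl
        map_smul' := fun _ _ => rfl }
    exact φ.finrank_le_finrank_of_injective fun a b hab => Subtype.ext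
      (congrArg (fun z => z.1.1) hab)
  omega

variable {F : Type*} [Field F]

local notation "V" => (Fin 3 ⊕ Fin 3 → F)
local notation "B" => Cfsg.Agent.GLOrder.sympB 3 F

theorem charP_endSix [CharP F 3] : CharP (Module.End F V) 3 :=
  charP_of_injective_algebraMap (algebraMap F (Module.End F V)).injective 3

theorem cube_of_nilpotent [CharP F 3] {U : Module.End F V} (h : (U - 1) ^ 3 = 0) (a : V) :
    U (U (U a)) = a := by
  haveI := charP_endSix (F := F)
  have h1 : U ^ 3 - 1 = 0 := by
    rw [← h, sub_pow_char_of_commute (p := 3) (h := Commute.one_right U), one_pow]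
  have := LinearMap.congr_fun (sub_eq_zero.1 h1) a
  simpa [pow_succ] using this

theorem sub_one_sq_apply [CharP F 3] (U : Module.End F V) (b : V) :
    ((U - 1) ^ 2 : Module.End F V) b = U (U b) + U b + b := by
  rw [pow_two, Module.End.mul_apply, LinearMap.sub_apply, LinearMap.sub_apply,
    Module.End.one_apply, Module.End.one_apply, map_sub]
  have h : (3 : F) • U b = 0 := by rw [three_eq_zero', zero_smul]
  linear_combination (norm := module) -h

theorem tsum_eq [CharP F 3] (U : Module.End F V) (a b : V) :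
    tsum U a b = B a (((U - 1) ^ 2 : Module.End F V) b) := by
  rw [sub_one_sq_apply, map_add, map_add, tsum]; ring

theorem exists_tsum_ne [CharP F 3] {U : Module.End F V} (h : (U - 1) ^ 2 ≠ 0) :
    ∃ a b, tsum U a b ≠ 0 := by
  by_contra! hc
  refine h (LinearMap.ext fun b => GLOrder.sympB_nondeg _ fun a => ?_)
  rw [GLOrder.sympB_swap, ← tsum_eq, hc, neg_zero]



theorem pair_zero {N : Module.End F V}
    (hrel : ∀ a b, B (N a) b + B a (N b) + B (N a) (N b) = 0) {j : ℕ} (hj : N ^ (j + 1) = 0) :
    ∀ i l : ℕ, j + 1 ≤ i + l → ∀ a b, B ((N ^ i) a) ((N ^ l) b) = 0 := by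
  have hbig : ∀ l, j + 1 ≤ l → ∀ b, (N ^ l) b = 0 := fun l hl b => by
    rw [pow_eq_zero_of_le hl hj, LinearMap.zero_apply]
  intro i
  induction i with
  | zero => intro l hl a b; rw [hbig l (by omega), map_zero]
  | succ i ih =>
    intro l
    induction h : j + 1 - l generalizing l with
    | zero => intro _ a b; rw [hbig l (by omega), map_zero]
    | succ d ihd =>
      intro hl a b
      have h1 := hrel ((N ^ i) a) ((N ^ l) b)
      rw [← Module.End.mul_apply, ← pow_succ', ← Module.End.mul_apply N (N ^ l), ← pow_succ'] at h1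
      rwa [ih (l + 1) (by omega) a b, ihd (l + 1) (by omega) (by omega) a b, add_zero, add_zero] at h1

theorem adj_top {N : Module.End F V}
    (hrel : ∀ a b, B (N a) b + B a (N b) + B (N a) (N b) = 0) {j : ℕ} (hj : N ^ (j + 1) = 0) :
    ∀ i, i ≤ j → ∀ a b, B ((N ^ i) a) ((N ^ (j - i)) b) = (-1) ^ i * B a ((N ^ j) b) := by
  intro i
  induction i with
  | zero => intro _ a b; simp
  | succ i ih =>
    intro hi a b
    have h1 := hrel ((N ^ i) a) ((N ^ (j - (i + 1))) b)
    rw [← Module.End.mul_apply, ← pow_succ', ← Module.End.mul_apply N (N ^ (j - (i + 1))),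
      ← pow_succ', show j - (i + 1) + 1 = j - i by omega, ih (by omega) a b,
      pair_zero hrel hj (i + 1) (j - i) (by omega) a b] at h1
    rw [pow_succ (-1 : F)]
    linear_combination h1

theorem rel_of_iso {U : Module.End F V} (hU : ∀ a b, B (U a) (U b) = B a b) (a b : V) :
    B ((U - 1) a) b + B a ((U - 1) b) + B ((U - 1) a) ((U - 1) b) = 0 := by
  simp only [LinearMap.sub_apply, Module.End.one_apply, map_sub, LinearMap.sub_apply, hU]
  ring

theorem exists_diag_ne (h2 : (2 : F) ≠ 0) {N : Module.End F V}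
    (hrel : ∀ a b, B (N a) b + B a (N b) + B (N a) (N b) = 0) {j : ℕ} (hj : N ^ (j + 1) = 0)
    (hodd : Odd j) (hne : N ^ j ≠ 0) : ∃ x, B x ((N ^ j) x) ≠ 0 := by
  by_contra! hc
  refine hne (LinearMap.ext fun b => GLOrder.sympB_nondeg _ fun a => ?_)
  have hsym : B b ((N ^ j) a) = B a ((N ^ j) b) := by
    have h1 := adj_top hrel hj j le_rfl a b
    rw [Nat.sub_self, pow_zero, Module.End.one_apply, hodd.neg_one_pow] at h1
    rw [GLOrder.sympB_swap, h1]; ring
  have h1 := hc (a + b)
  simp only [map_add, LinearMap.add_apply, hc a, hc b, hsym] at h1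
  rw [GLOrder.sympB_swap]
  have : B a ((N ^ j) b) = 0 := by
    have h' : (2 : F) * B a ((N ^ j) b) = 0 := by linear_combination h1
    exact (mul_eq_zero.1 h').resolve_left h2
  rw [this, neg_zero]

theorem cover_chain {N : Module.End F V} (g : Matrix.symplecticGroup (Fin 3) F)
    (hgN : ∀ v, (spAct g : Module.End F V) v = v + N v)
    (hrel : ∀ a b, B (N a) b + B a (N b) + B (N a) (N b) = 0) {j : ℕ} (hj : N ^ (j + 1) = 0)
    (hj' : j = 1 ∨ j = 3) {x : V} (hx : B x ((N ^ j) x) ≠ 0) :
    ∃ h, h * g * h⁻¹ ∈ sixP F := by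
  let w : Fin (j + 1) → V := fun i => (N ^ (i : ℕ)) x
  have hkey : ∀ c : Fin (j + 1) → F, (∀ l : Fin (j + 1), B (∑ i, c i • w i) (w l) = 0) → c = 0 := by
    intro c hc
    have : ∀ (i : ℕ) (hi : i < j + 1), c ⟨i, hi⟩ = 0 := by
      intro i
      induction i using Nat.strong_induction_on with
      | _ i ih =>
        intro hi
        have h1 := hc ⟨j - i, by omega⟩
        rw [map_sum, LinearMap.coe_sum, Finset.sum_apply, Finset.sum_eq_single ⟨i, hi⟩] at h1
        · simp only [w, map_smul, LinearMap.smul_apply, smul_eq_mul] at h1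
          rw [adj_top hrel hj i (by omega) x x] at h1
          rcases mul_eq_zero.1 h1 with h | h
          · exact h
          · exact absurd ((mul_eq_zero.1 h).resolve_left (pow_ne_zero _ (neg_ne_zero.2 one_ne_zero))) hx
        · intro b _ hb
          simp only [w, map_smul, LinearMap.smul_apply, smul_eq_mul]
          rcases Nat.lt_or_ge (b : ℕ) i with hlt | hge
          · rw [show c b = 0 from ih b hlt b.2, zero_mul]
          · have hne : (b : ℕ) ≠ i := fun h => hb (Fin.ext h)
            rw [pair_zero hrel hj (b : ℕ) (j - i) (by omega), mul_zero]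
        · simp
    exact funext fun i => this i i.2
  have hli : LinearIndependent F w := Fintype.linearIndependent_iff.2 fun c hc i =>
    congrFun (hkey c fun l => by rw [hc, map_zero, LinearMap.zero_apply]) i
  refine cover_of_nondeg g (Submodule.span F (Set.range w)) (fun z hz => ?_) (fun z hz hz0 => ?_) ?_
  · induction hz using Submodule.span_induction with
    | mem z hz =>
      obtain ⟨i, rfl⟩ := hz
      rw [hgN]
      refine Submodule.add_mem _ (Submodule.subset_span ⟨i, rfl⟩) ?_
      show N ((N ^ (i : ℕ)) x) ∈ _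
      rw [← Module.End.mul_apply, ← pow_succ']
      by_cases hi : (i : ℕ) + 1 < j + 1
      · exact Submodule.subset_span ⟨⟨(i : ℕ) + 1, hi⟩, rfl⟩
      · rw [pow_eq_zero_of_le (by omega) hj, LinearMap.zero_apply]; exact Submodule.zero_mem _
    | zero => simp
    | add a b _ _ ha hb => rw [map_add]; exact Submodule.add_mem _ ha hb
    | smul c a _ ha => rw [map_smul]; exact Submodule.smul_mem _ c ha
  · obtain ⟨c, rfl⟩ := (Submodule.mem_span_range_iff_exists_fun F).1 hz
    rw [hkey c fun l => hz0 _ (Submodule.subset_span ⟨l, rfl⟩)]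
    simp
  · rw [finrank_span_eq_card hli, Fintype.card_fin]
    omega

theorem no_height_five (h2 : (2 : F) ≠ 0) {N : Module.End F V}
    (hrel : ∀ a b, B (N a) b + B a (N b) + B (N a) (N b) = 0) (h5 : N ^ 5 = 0) : N ^ 4 = 0 := by
  by_contra h4
  have hγ : ∀ a, B a ((N ^ 4) a) = 0 := fun a => by
    have h := adj_top hrel (j := 4) h5 4 le_rfl a a
    rw [Nat.sub_self, pow_zero, Module.End.one_apply, GLOrder.sympB_swap] at h
    have h' : (2 : F) * B a ((N ^ 4) a) = 0 := by linear_combination -h
    exact (mul_eq_zero.1 h').resolve_left h2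
  have hr4 : 2 ≤ Module.finrank F (LinearMap.range (N ^ 4)) := by
    by_contra hlt
    obtain ⟨a, ha⟩ : ∃ a, (N ^ 4) a ≠ 0 := by
      by_contra! hall; exact h4 (LinearMap.ext hall)
    set w := (N ^ 4) a
    have hspan : F ∙ w = LinearMap.range (N ^ 4) := Submodule.eq_of_le_of_finrank_le
      ((Submodule.span_singleton_le_iff_mem _ _).2 ⟨a, rfl⟩)
      (by rw [finrank_span_singleton ha]; omega)
    obtain ⟨b, hb⟩ : ∃ b, B b w ≠ 0 := by
      by_contra! hall
      exact ha (GLOrder.sympB_nondeg _ fun b => by rw [GLOrder.sympB_swap, hall b, neg_zero])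
    obtain ⟨μ, hμ⟩ := Submodule.mem_span_singleton.1
      (hspan ▸ ⟨b, rfl⟩ : (N ^ 4) b ∈ F ∙ w)
    have hb0 := hγ b
    rw [← hμ, map_smul, smul_eq_mul, mul_eq_zero] at hb0
    have hμ0 : μ = 0 := hb0.resolve_right hb
    have hab := hγ (a + b)
    rw [map_add (N ^ 4), ← hμ, hμ0, zero_smul, add_zero, map_add, LinearMap.add_apply,
      hγ a, zero_add] at hab
    exact hb hab
  have s0 := rank_step N (i := 0) (k := 4) (by omega) h5
  have s1 := rank_step N (i := 1) (k := 4) (by omega) h5
  have s2 := rank_step N (i := 2) (k := 4) (by omega) h5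
  have s3 := rank_step N (i := 3) (k := 4) (by omega) h5
  have := Submodule.finrank_le (LinearMap.range (N ^ 0))
  rw [finrank_six] at this
  simp only [Nat.reduceAdd] at s0 s1 s2 s3
  omega

section Regular

open Cfsg.Agent.Forms.Regular

theorem isRegUnip_of [CharP F 3] (g : Matrix.symplecticGroup (Fin 3) F)
    (h6 : ((spAct g : Module.End F V) - 1) ^ 6 = 0) (h5 : ((spAct g : Module.End F V) - 1) ^ 5 ≠ 0) :
    IsRegUnip g := by
  set N := (spAct g : Module.End F V) - 1 with hN
  have hmat : Matrix.toLinAlgEquiv' ((g : Matrix (Fin 3 ⊕ Fin 3) (Fin 3 ⊕ Fin 3) F) - 1) = N := by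
    refine LinearMap.ext fun v => ?_
    rw [Matrix.toLinAlgEquiv'_apply, hN, Matrix.sub_mulVec, Matrix.one_mulVec, LinearMap.sub_apply,
      Module.End.one_apply, spAct_apply]
  refine ⟨Matrix.toLinAlgEquiv'.injective (by rw [map_pow, hmat, map_zero]; exact h6), ?_⟩
  have hrk : ((g : Matrix (Fin 3 ⊕ Fin 3) (Fin 3 ⊕ Fin 3) F) - 1).rank =
      Module.finrank F (LinearMap.range N) := by
    rw [← hmat]; rfl
  rw [hrk]
  have h0 : 0 < Module.finrank F (LinearMap.range (N ^ 5)) := Nat.pos_of_ne_zero fun h0 =>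
    h5 (LinearMap.range_eq_bot.1 (Submodule.finrank_eq_zero.1 h0))
  have s1 := rank_step N (i := 1) (k := 5) (by omega) h6
  have s2 := rank_step N (i := 2) (k := 5) (by omega) h6
  have s3 := rank_step N (i := 3) (k := 5) (by omega) h6
  have s4 := rank_step N (i := 4) (k := 5) (by omega) h6
  have hlt : Module.finrank F (LinearMap.range N) < 6 := by
    refine lt_of_le_of_ne ((Submodule.finrank_le _).trans_eq finrank_six) fun h => ?_
    have hs : Function.Surjective N := LinearMap.range_eq_top.1
      (Submodule.eq_top_of_finrank_eq (h.trans finrank_six.symm))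
    refine h5 (LinearMap.ext fun v => LinearMap.injective_iff_surjective.2 hs ?_)
    rw [← Module.End.mul_apply, ← pow_succ', h6, LinearMap.zero_apply, map_zero]
  simp only [Nat.reduceAdd] at s1 s2 s3 s4
  rw [pow_one] at s1
  omega

theorem cay_pow_five [CharP F 3] (g : Matrix.symplecticGroup (Fin 3) F) (hg : IsRegUnip g) :
    cay (spLin g) ^ 5 = -(((spAct g : Module.End F V) - 1) ^ 5) := by
  haveI := charP_endSix (F := F)
  have h2 : (2 : F) ≠ 0 := fun h => by
    have : ((2 : ℕ) : F) = 0 := h
    rw [CharP.cast_eq_zero_iff F 3] at this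
    omega
  have hU : spLin g = (spAct g : Module.End F V) := rfl
  rw [hU]
  set U := (spAct g : Module.End F V)
  have hu : IsUnit (U + 1) := hU ▸ isUnit_spLin_add h2 hg
  have hcomm := (cay_spec hu).2
  have h6 : (U - 1) ^ 6 = 0 := by
    have h := congrArg Matrix.toLinAlgEquiv' hg.1
    rw [map_pow, map_zero, map_sub, map_one] at h
    exact h
  have hneg : (U - 1) ^ 5 * Ring.inverse (U + 1) = -((U - 1) ^ 5) := by
    have h1 : (U - 1) ^ 5 * (U + 1) = (U - 1) ^ 6 + 2 • (U - 1) ^ 5 := by
      rw [pow_succ (U - 1) 5, two_smul, ← mul_two, ← mul_add]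
      congr 1
      rw [← one_add_one_eq_two]; abel
    rw [h6, zero_add] at h1
    have h3 : 2 • (U - 1) ^ 5 = -((U - 1) ^ 5) := by
      rw [two_smul, eq_neg_iff_add_eq_zero]
      have : ((3 : ℕ) : Module.End F V) = 0 := CharP.cast_eq_zero _ 3
      calc (U - 1) ^ 5 + (U - 1) ^ 5 + (U - 1) ^ 5 = ((3 : ℕ) : Module.End F V) * (U - 1) ^ 5 := by
            push_cast; rw [show (3 : Module.End F V) = 1 + 1 + 1 by norm_num, add_mul, add_mul, one_mul]
        _ = 0 := by rw [this, zero_mul]
    rw [h3] at h1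
    have := congrArg (· * Ring.inverse (U + 1)) h1
    simp only [mul_assoc, Ring.mul_inverse_cancel _ hu, mul_one, neg_mul] at this
    exact neg_eq_iff_eq_neg.1 ((neg_mul _ _).symm.trans this.symm)
  have hpow : ∀ k : ℕ, (U - 1) ^ 5 * Ring.inverse (U + 1) ^ k = (-1 : F) ^ k • (U - 1) ^ 5 := fun k => by
    induction k with
    | zero => simp
    | succ k ih =>
      rw [pow_succ (Ring.inverse (U + 1)) k, ← mul_assoc, ih, smul_mul_assoc, hneg, smul_neg,
        ← neg_smul, pow_succ (-1 : F) k]
      congr 1; ring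
  rw [cay, hcomm.mul_pow, hpow 5, Odd.neg_one_pow (by decide : Odd 5)]
  exact neg_one_smul F ((U - 1) ^ 5)

variable [Finite F] {K : Type*} [Field K] [Algebra F K] [FiniteDimensional F K]

/-- A regular unipotent element of the extension field group with prescribed invariant. -/
theorem exists_regular_mem [CharP F 3] (C : Cubic F K) {b : F} (hb : b ≠ 0) :
    ∃ h ∈ sixL C, ((spAct h : Module.End F V) - 1) ^ 6 = 0 ∧
      ∃ v, B v (((((spAct h : Module.End F V) - 1) ^ 5 : Module.End F V)) v) = b := by
  haveI := charP_endSix (F := F)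
  set a := -b with ha
  let c : K := a • C.th
  have hone : C.th + C.sig C.th + C.sig (C.sig C.th) = 1 := by
    refine C.coord.injective (funext fun i => ?_)
    have h1 : C.coord (1 : K) i = 1 := by
      rw [C.coord_apply, one_mul]
      fin_cases i <;> simp [Cubic.orb, C.tr_inv, C.trth]
    have e : C.th + C.sig C.th + C.sig (C.sig C.th) = C.orb 0 + C.orb 1 + C.orb 2 := rfl
    rw [h1, e, map_add, map_add, C.coord_orb, C.coord_orb, C.coord_orb]
    fin_cases i <;> simp
  let M : Module.End F (Fin 2 → K) :=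
    { toFun := fun x => ![C.sig (x 0) + c * C.sig (x 1), C.sig (x 1)]
      map_add' := fun x y => by
        funext j; fin_cases j <;> simp [mul_add]; abel
      map_smul' := fun r x => by
        funext j; fin_cases j <;> simp [smul_add, mul_smul_comm] }
  obtain ⟨h, hh⟩ := exists_sp_of_isom (C.model.conjAlgEquiv F M) fun u v => by
    obtain ⟨x, rfl⟩ := C.model.surjective u
    obtain ⟨y, rfl⟩ := C.model.surjective v
    show B (C.model (M (C.model.symm (C.model x)))) (C.model (M (C.model.symm (C.model y)))) = _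
    rw [LinearEquiv.symm_apply_apply, LinearEquiv.symm_apply_apply, C.model_form, C.model_form,
      modelB, modelB, ← C.tr_inv (x 0 * y 1 - x 1 * y 0)]
    congr 1
    simp [M]
    ring
  have hM : ∀ x, (spAct h : Module.End F V) (C.model x) = C.model (M x) := fun x => by
    rw [hh]; show C.model (M (C.model.symm (C.model x))) = _
    rw [LinearEquiv.symm_apply_apply]
  have hN3 : ∀ x : Fin 2 → K,
      (((spAct h : Module.End F V) - 1) ^ 3 : Module.End F V) (C.model x) = C.model ![a • x 1, 0] := by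
    intro x
    rw [sub_pow_char_of_commute (p := 3) (h := Commute.one_right _), one_pow, LinearMap.sub_apply,
      Module.End.one_apply]
    show (spAct h : Module.End F V) ((spAct h : Module.End F V) ((spAct h : Module.End F V) (C.model x))) - _ = _
    rw [hM, hM, hM, ← map_sub]
    congr 1
    funext j
    fin_cases j
    · simp [M, c, C.cube, smul_mul_assoc]
      have h' := congrArg (fun z => a • (z * x 1)) hone
      simp only [add_mul, smul_add, one_mul] at h'
      linear_combination h'
    · simp [M, C.cube]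
  have hsig : ∀ z : K, M ![z, 0] = ![C.sig z, 0] := fun z => by
    funext j; fin_cases j <;> simp [M]
  refine ⟨h, ?_, ?_, C.model ![0, C.th], ?_⟩
  · refine ⟨C.sig, fun k => LinearMap.ext fun v => ?_⟩
    obtain ⟨x, rfl⟩ := C.model.surjective v
    rw [Module.End.mul_apply, Module.End.mul_apply, C.rho_apply, hM, hM, C.rho_apply]
    congr 1
    funext j
    fin_cases j <;> simp [M]; ring
  · refine LinearMap.ext fun v => ?_
    obtain ⟨x, rfl⟩ := C.model.surjective v
    rw [show (6 : ℕ) = 3 + 3 from rfl, pow_add, Module.End.mul_apply, hN3, hN3, LinearMap.zero_apply,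
      ← map_zero C.model]
    congr 1
    funext j
    fin_cases j <;> simp
  · rw [show (5 : ℕ) = 2 + 3 from rfl, pow_add, Module.End.mul_apply, hN3, sub_one_sq_apply, hM, hsig,
      hM, hsig, ← map_add, ← map_add, C.model_form, modelB]
    have h1 : a • C.sig (C.sig C.th) + a • C.sig C.th + a • C.th = a • (1 : K) := by
      rw [← hone]; module
    simp [map_smul, ha]
    rw [show C.th * (-(b • C.sig (C.sig C.th)) + -(b • C.sig C.th) + -(b • C.th)) = -(b • C.th) by
      simp only [Algebra.smul_def]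
      linear_combination (-(algebraMap F K b) * C.th) * hone]
    simp [map_smul, C.trth]

theorem cover_unipotent [CharP F 3] (C : Cubic F K) (g : Matrix.symplecticGroup (Fin 3) F)
    (hnil : IsNilpotent ((spAct g : Module.End F V) - 1)) :
    ∃ h, h * g * h⁻¹ ∈ sixP F ∨ h * g * h⁻¹ ∈ sixL C := by
  have h2 : (2 : F) ≠ 0 := fun h => by
    have : ((2 : ℕ) : F) = 0 := h
    rw [CharP.cast_eq_zero_iff F 3] at this
    omega
  set U := (spAct g : Module.End F V) with hUd
  set N := U - 1 with hN
  have hgN : ∀ v, (spAct g : Module.End F V) v = v + N v := fun v => by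
    rw [hN, LinearMap.sub_apply, Module.End.one_apply, hUd]; abel
  have hrel : ∀ a b, B (N a) b + B a (N b) + B (N a) (N b) = 0 := rel_of_iso (spAct_sympB g)
  have h6 : N ^ 6 = 0 := by
    have := pow_finrank_eq_zero hnil
    rwa [finrank_six] at this
  by_cases h1 : N = 0
  · set x₀ : V := Pi.single (Sum.inl 0) 1 with hx₀
    set y₀ : V := Pi.single (Sum.inr 0) 1 with hy₀
    have hxy : B x₀ y₀ ≠ 0 := by rw [single_pair 0]; exact one_ne_zero
    have hfix : ∀ v, (spAct g : Module.End F V) v = v := fun v => by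
      rw [hgN, h1, LinearMap.zero_apply, add_zero]
    have hx' : (spAct g : Module.End F V) x₀ ∈ Submodule.span F {x₀, y₀} := by
      rw [hfix]; exact Submodule.subset_span (Set.mem_insert _ _)
    have hy' : (spAct g : Module.End F V) y₀ ∈ Submodule.span F {x₀, y₀} := by
      rw [hfix]; exact Submodule.subset_span (Set.mem_insert_of_mem _ rfl)
    obtain ⟨x, hx⟩ := cover_of_pair g hxy hx' hy'
    exact ⟨x, Or.inl hx⟩
  by_cases h2' : N ^ 2 = 0
  · obtain ⟨x, hx⟩ := exists_diag_ne h2 hrel (j := 1) h2' (by decide) (by rwa [pow_one])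
    obtain ⟨y, hy⟩ := cover_chain g hgN hrel h2' (Or.inl rfl) hx
    exact ⟨y, Or.inl hy⟩
  by_cases h3 : N ^ 3 = 0
  · have hU : IsCube U := ⟨spAct_sympB g, cube_of_nilpotent h3⟩
    obtain ⟨e, x, ht⟩ := exists_tsum_ne h2'
    obtain ⟨y, hy⟩ := cover_free C hU g 1 (fun v => by rw [one_smul, hUd]) e x ht
    exact ⟨y, Or.inr hy⟩
  by_cases h4 : N ^ 4 = 0
  · obtain ⟨x, hx⟩ := exists_diag_ne h2 hrel (j := 3) h4 (by decide) h3
    obtain ⟨y, hy⟩ := cover_chain g hgN hrel h4 (Or.inr rfl) hx
    exact ⟨y, Or.inl hy⟩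
  have h5 : N ^ 5 ≠ 0 := fun h5 => h4 (no_height_five h2 hrel h5)
  obtain ⟨x, hx⟩ := exists_diag_ne h2 hrel (j := 5) h6 (by decide) h5
  obtain ⟨h, hh, hh6, v, hv⟩ := exists_regular_mem C hx
  have hh5 : ((spAct h : Module.End F V) - 1) ^ 5 ≠ 0 := fun h0 => hx (by
    rw [← hv, h0, LinearMap.zero_apply, map_zero])
  have hgr := isRegUnip_of g h6 h5
  have hhr := isRegUnip_of h hh6 hh5
  have hconj : IsConj g h := by
    rw [isConj_iff_sqType h2 (by norm_num) hgr hhr]
    have hgx : (cay (spLin g) ^ (2 * 3 - 1)) x ≠ 0 := fun h0 => hx (by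
      rw [cay_pow_five g hgr, LinearMap.neg_apply, neg_eq_zero] at h0
      rw [h0, map_zero])
    have hhv : (cay (spLin h) ^ (2 * 3 - 1)) v ≠ 0 := fun h0 => hx (by
      rw [cay_pow_five h hhr, LinearMap.neg_apply, neg_eq_zero] at h0
      rw [← hv, h0, map_zero])
    rw [(regSkew_cay h2 (by norm_num) hgr).sqType_iff hgx,
      (regSkew_cay h2 (by norm_num) hhr).sqType_iff hhv, cay_pow_five g hgr, cay_pow_five h hhr,
      LinearMap.neg_apply, LinearMap.neg_apply, map_neg, map_neg, hv]
  obtain ⟨y, hy⟩ := isConj_iff.1 hconj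
  exact ⟨y, Or.inr (hy ▸ hh)⟩

end Regular

end Cfsg.Agent.TwoCover
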