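import Cfsg.Agent.Lib.TwoCover.Linear
import Cfsg.Agent.Lib.Linear.Symplectic

/-
Mathlib's symplectic group acting on its space.
* `spAct`, `spAct_preserve`, `exists_sp_of_preserve`, `spAct_center`, `spTransv`
-/
set_option autoImplicit false

open Matrix

namespace Cfsg.Agent.TwoCover

variable {m : ℕ} {F : Type*} [Field F]

local notation "V" => (Fin m ⊕ Fin m → F)
local notation "f" => Cfsg.sympForm m F

/-- The action on column vectors. -/
noncomputable def spAct : Matrix.symplecticGroup (Fin m) F →* (Module.End F V)ˣ :=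
  Matrix.GeneralLinearGroup.toLin.toMonoidHom.comp
    ((Submonoid.subtype (Matrix.symplecticGroup (Fin m) F)).toHomUnits)

theorem spAct_apply (g : Matrix.symplecticGroup (Fin m) F) (v : V) :
    (spAct g : Module.End F V) v = g.1 *ᵥ v := rfl

theorem spAct_injective : Function.Injective (spAct (m := m) (F := F)) := fun a b h =>
  Subtype.ext (Matrix.ext_iff_mulVec.2 fun v => LinearMap.congr_fun (congrArg Units.val h) v)

theorem spAct_preserve (g : Matrix.symplecticGroup (Fin m) F) (u v : V) :
    f ((spAct g : Module.End F V) u) ((spAct g : Module.End F V) v) = f u v :=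
  Linear.mem_symplecticGroup_iff.1 g.2 u v

theorem spAct_inv_apply (g : Matrix.symplecticGroup (Fin m) F) (v : V) :
    (spAct g⁻¹ : Module.End F V) ((spAct g : Module.End F V) v) = v := by
  rw [← Module.End.mul_apply, ← Units.val_mul, ← map_mul, inv_mul_cancel, map_one, Units.val_one,
    Module.End.one_apply]

theorem spAct_apply_inv (g : Matrix.symplecticGroup (Fin m) F) (v : V) :
    (spAct g : Module.End F V) ((spAct g⁻¹ : Module.End F V) v) = v := by
  rw [← Module.End.mul_apply, ← Units.val_mul, ← map_mul, mul_inv_cancel, map_one, Units.val_one,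
    Module.End.one_apply]

theorem exists_sp_of_preserve (T : Module.End F V) (hT : ∀ u v, f (T u) (T v) = f u v) :
    ∃ g : Matrix.symplecticGroup (Fin m) F, (spAct g : Module.End F V) = T :=
  ⟨⟨LinearMap.toMatrix' T, Linear.mem_symplecticGroup_iff.2 fun u v => by
    rw [LinearMap.toMatrix'_mulVec, LinearMap.toMatrix'_mulVec]; exact hT u v⟩,
    LinearMap.ext fun v => LinearMap.toMatrix'_mulVec T v⟩

/-- The symplectic transvection `x ↦ x + c f(x,v) v`. -/
noncomputable def spTransv (v : V) (c : F) : Matrix.symplecticGroup (Fin m) F :=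
  (Linear.spEquiv m F).symm (Linear.spTv v c)

theorem spTransv_apply (v : V) (c : F) (x : V) :
    (spAct (spTransv v c) : Module.End F V) x = x + (c * f x v) • v :=
  Linear.spTv_smul v c x

theorem spAct_center {z : Matrix.symplecticGroup (Fin m) F}
    (hz : z ∈ Subgroup.center (Matrix.symplecticGroup (Fin m) F)) :
    ∃ r : F, r * r = 1 ∧ ∀ v, (spAct z : Module.End F V) v = r • v := by
  set Z := (spAct z : Module.End F V) with hZ
  have hcomm : ∀ v x : V, f (Z x) v • v = f x v • Z v := fun v x => by
    have h := Subgroup.mem_center_iff.1 hz (spTransv v 1)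
    have h' : (spAct (spTransv v 1) : Module.End F V) (Z x) =
        Z ((spAct (spTransv v 1) : Module.End F V) x) := by
      rw [← Module.End.mul_apply, ← Module.End.mul_apply, hZ, ← Units.val_mul, ← Units.val_mul,
        ← map_mul, ← map_mul, h]
    rw [spTransv_apply, spTransv_apply, one_mul, one_mul, map_add, map_smul] at h'
    exact add_left_cancel h'
  by_cases hV : ∀ v : V, v = 0
  · exact ⟨1, one_mul 1, fun v => by rw [hV v, map_zero, smul_zero]⟩
  obtain ⟨v₀, hv₀⟩ := not_forall.1 hV
  obtain ⟨x₀, hx₀⟩ := Linear.exists_sympForm_ne_zero hv₀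
  have hline : ∀ v : V, v ≠ 0 → ∃ c : F, Z v = c • v := fun v hv => by
    obtain ⟨x, hx⟩ := Linear.exists_sympForm_ne_zero hv
    have hx' : f x v ≠ 0 := by rw [Linear.sympForm_swap]; exact neg_ne_zero.2 hx
    refine ⟨(f x v)⁻¹ * f (Z x) v, ?_⟩
    rw [mul_smul, hcomm v x, smul_smul, inv_mul_cancel₀ hx', one_smul]
  obtain ⟨a, ha⟩ := hline v₀ hv₀
  have hall : ∀ v, Z v = a • v := fun v => by
    by_cases hv : v = 0
    · rw [hv, map_zero, smul_zero]
    obtain ⟨b, hb⟩ := hline v hv
    by_cases hli : LinearIndependent F ![v₀, v]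
    · have hs : v₀ + v ≠ 0 := fun h0 => by
        have := linearIndependent_fin2.1 hli
        exact this.2 (-1) (by
          show (-1 : F) • v = v₀
          rw [neg_one_smul]; exact (eq_neg_of_add_eq_zero_left h0).symm)
      obtain ⟨c, hc⟩ := hline _ hs
      rw [map_add, ha, hb, smul_add] at hc
      have h := LinearIndependent.eq_of_pair hli hc
      rw [hb, h.2, h.1]
    · rw [linearIndependent_fin2] at hli
      simp only [Matrix.cons_val_one, Matrix.cons_val_fin_one, ne_eq, hv, not_false_eq_true,
        Matrix.cons_val_zero, true_and, not_forall, not_not] at hli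
      obtain ⟨c, hc⟩ := hli
      have hc0 : c ≠ 0 := fun h => hv₀ (by rw [← hc, h, zero_smul])
      have h2 : v = c⁻¹ • v₀ := by rw [← hc, smul_smul, inv_mul_cancel₀ hc0, one_smul]
      rw [h2, map_smul, ha, smul_comm]
  refine ⟨a, ?_, hall⟩
  have hp := spAct_preserve z v₀ x₀
  rw [← hZ, hall, hall, Linear.sympForm_smul_left, Linear.sympForm_smul_right, ← mul_assoc] at hp
  exact mul_left_eq_self₀.1 hp |>.resolve_right hx₀

end Cfsg.Agent.TwoCover
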