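import Cfsg.Agent.Lib.TwoCover.SpBase
import Cfsg.Agent.Lib.Forms.Bases
import Cfsg.Prelude.Def_Classical

/-
Sp_2m(2^k) is covered by the conjugates of two orthogonal groups (Dye).
* `exists_invariant_form`, `cover_psp_even`
-/
set_option autoImplicit false

open Matrix

namespace Cfsg.Agent.TwoCover

variable {m : ℕ} {F : Type*} [Field F] [Fintype F]

local notation "V" => (Fin m ⊕ Fin m → F)
local notation "f" => Cfsg.sympForm m F

theorem char_two_of_even (he : ¬ Odd (Fintype.card F)) : CharP F 2 := by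
  have h : Fintype.card F % 2 = 0 := Nat.even_iff.1 (Nat.not_odd_iff_even.1 he)
  exact ringChar.of_eq (FiniteField.even_card_iff_char_two.2 h)

/-- The orthogonal group inside Sp. -/
noncomputable def orthIn (Q : QuadraticForm F V) : Subgroup (Matrix.symplecticGroup (Fin m) F) where
  carrier := {g | ∀ v, Q ((spAct g : Module.End F V) v) = Q v}
  one_mem' := by simp
  mul_mem' := by
    intro a b ha hb v
    rw [map_mul, Units.val_mul, Module.End.mul_apply, ha, hb]
  inv_mem' := by
    intro a ha v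
    have := ha ((spAct a⁻¹ : Module.End F V) v)
    rw [spAct_apply_inv] at this
    exact this.symm

theorem exists_invariant_form [CharP F 2] (g : Matrix.symplecticGroup (Fin m) F) :
    ∃ Q : QuadraticForm F V, (∀ u v, QuadraticMap.polar Q u v = f u v) ∧ g ∈ orthIn Q := by
  set T := (spAct g : Module.End F V) with hT
  have hQ0 : ∀ u v, QuadraticMap.polar (Forms.qfPlus m F) u v = f u v := fun u v => by
    rw [Forms.polar_qfPlus, Linear.sympForm_eq_sum]
    refine Finset.sum_congr rfl fun i _ => ?_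
    rw [CharTwo.sub_eq_add]; ring
  let D : V → F := fun x => Forms.qfPlus m F (T x) - Forms.qfPlus m F x
  have hDadd : ∀ x y, D (x + y) = D x + D y := fun x y => by
    have h1 := hQ0 (T x) (T y)
    have h2 := hQ0 x y
    have h3 := spAct_preserve g x y
    simp only [QuadraticMap.polar] at h1 h2
    simp only [D, map_add]
    rw [← hT] at h3
    linear_combination h1 - h2 + h3
  have hDsmul : ∀ (c : F) x, D (c • x) = c ^ 2 * D x := fun c x => by
    simp only [D, map_smul, QuadraticMap.map_smul, smul_eq_mul]; ring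
  have hsq : Function.Bijective (fun x : F => x ^ 2) := by
    rw [← Finite.injective_iff_bijective]
    intro x y hxy
    have : (x - y) ^ 2 = 0 := by rw [sub_pow_char]; exact sub_eq_zero.2 hxy
    exact sub_eq_zero.1 (pow_eq_zero_iff two_ne_zero |>.1 this)
  let r := Function.surjInv hsq.2
  have hr : ∀ a, r a ^ 2 = a := Function.surjInv_eq hsq.2
  let ℓ : V →ₗ[F] F :=
    { toFun := fun x => r (D x)
      map_add' := fun x y => hsq.1 (by
        show r _ ^ 2 = (r _ + r _) ^ 2
        rw [add_pow_char, hr, hr, hr, hDadd])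
      map_smul' := fun c x => hsq.1 (by
        show r _ ^ 2 = (RingHom.id F c • r _) ^ 2
        rw [RingHom.id_apply, smul_eq_mul, mul_pow, hr, hr, hDsmul]) }
  -- `ℓ` factors through `T - 1`
  have hker : LinearMap.ker (T - 1) ≤ LinearMap.ker ℓ := fun x hx => by
    rw [LinearMap.mem_ker, LinearMap.sub_apply, Module.End.one_apply, sub_eq_zero] at hx
    apply hsq.1
    show r (D x) ^ 2 = (0 : F) ^ 2
    simp [hr, D, hx]
  have hℓ : ℓ ∈ (LinearMap.ker (T - 1)).dualAnnihilator :=
    (Submodule.mem_dualAnnihilator _).2 fun x hx => LinearMap.mem_ker.1 (hker hx)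
  rw [← LinearMap.range_dualMap_eq_dualAnnihilator_ker] at hℓ
  obtain ⟨φ, hφ⟩ := hℓ
  refine ⟨Forms.qfPlus m F + QuadraticMap.linMulLin φ φ, fun u v => ?_, fun v => ?_⟩
  · have h1 := hQ0 u v
    simp only [QuadraticMap.polar, QuadraticMap.add_apply, QuadraticMap.linMulLin_apply, map_add] at h1 ⊢
    linear_combination h1 + φ u * φ v * CharTwo.two_eq_zero (R := F)
  · rw [← hT]
    have hv : φ (T v) - φ v = ℓ v := by
      rw [← hφ]; simp [LinearMap.dualMap_apply, map_sub]
    have hD : ℓ v ^ 2 = Forms.qfPlus m F (T v) - Forms.qfPlus m F v := hr _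
    simp only [QuadraticMap.add_apply, QuadraticMap.linMulLin_apply]
    linear_combination -hD + (φ (T v) + φ v + ℓ v) * hv +
      (ℓ v ^ 2 + φ v * ℓ v) * CharTwo.two_eq_zero (R := F)

theorem orthIn_ne_top (hm : 2 ≤ m) (Q : QuadraticForm F V) (hQ : ∀ u v, QuadraticMap.polar Q u v = f u v) :
    orthIn Q ≠ ⊤ := by
  intro htop
  obtain ⟨v, hv, hQv⟩ : ∃ v, v ≠ 0 ∧ Q v = 0 :=
    Forms.exists_singular_of_three_le Q (by
      rw [Module.finrank_pi, Fintype.card_sum, Fintype.card_fin]; omega)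
  obtain ⟨x, hx⟩ := Linear.exists_sympForm_ne_zero hv
  have h : spTransv v 1 ∈ orthIn Q := htop ▸ Subgroup.mem_top _
  have h1 := h x
  rw [spTransv_apply, one_mul] at h1
  have h2 := hQ x (f x v • v)
  rw [QuadraticMap.polar, h1, Linear.sympForm_smul_right, QuadraticMap.map_smul, hQv, smul_zero,
    sub_zero, sub_self] at h2
  rw [Linear.sympForm_swap v x, neg_ne_zero] at hx
  exact hx (mul_self_eq_zero.1 h2.symm)

theorem cover_psp_even (he : ¬ Odd (Fintype.card F)) (hm : 2 ≤ m) : TwoCover (Cfsg.PSp m F) := by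
  classical
  haveI := char_two_of_even he
  obtain ⟨b, hb⟩ : ∃ b : F, ∀ y, y ^ 2 + y ≠ b := by
    by_contra! hc
    have hinj := Finite.injective_iff_surjective.2 (hc : Function.Surjective fun y : F => y ^ 2 + y)
    have : (0 : F) = 1 := hinj (by
      show (0 : F) ^ 2 + 0 = 1 ^ 2 + 1
      linear_combination -(CharTwo.two_eq_zero (R := F)))
    exact zero_ne_one this
  have hab : ∀ x y : F, x ^ 2 + 1 * x * y + b * y ^ 2 = 0 → x = 0 ∧ y = 0 := fun x y h => by
    by_cases hy : y = 0
    · subst hy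
      simp only [mul_zero, add_zero, ne_eq, OfNat.ofNat_ne_zero, not_false_eq_true, zero_pow] at h
      exact ⟨pow_eq_zero_iff two_ne_zero |>.1 h, rfl⟩
    · exfalso
      apply hb (x / y)
      field_simp
      linear_combination h - b * y ^ 2 * CharTwo.two_eq_zero (R := F)
  have hV : Module.finrank F V = 2 * m := by
    rw [Module.finrank_pi, Fintype.card_sum, Fintype.card_fin, two_mul]
  let IsoTo : QuadraticForm F V → QuadraticForm F V → Prop :=
    fun Q Q' => ∃ e : V ≃ₗ[F] V, ∀ v, Q' (e v) = Q v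
  let Qp := Forms.qfPlus m F
  have hpP : ∀ u v, QuadraticMap.polar Qp u v = f u v := fun u v => by
    rw [Forms.polar_qfPlus, Linear.sympForm_eq_sum]
    refine Finset.sum_congr rfl fun i _ => ?_
    rw [CharTwo.sub_eq_add]; ring
  have hnd : ∀ Q : QuadraticForm F V, (∀ u v, QuadraticMap.polar Q u v = f u v) →
      (QuadraticMap.polarBilin Q).Nondegenerate := fun Q hQ => by
    rw [Forms.nondegenerate_polarBilin_iff]
    intro x hx
    by_contra h
    obtain ⟨w, hw⟩ := Linear.exists_sympForm_ne_zero h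
    exact hw ((hQ x w) ▸ hx w)
  obtain ⟨Qm, hpM, hmin⟩ : ∃ Qm : QuadraticForm F V, (∀ u v, QuadraticMap.polar Qm u v = f u v) ∧
      ∀ Q : QuadraticForm F V, (∀ u v, QuadraticMap.polar Q u v = f u v) →
        IsoTo Q Qp ∨ IsoTo Q Qm := by
    by_cases hM : ∀ Q : QuadraticForm F V, (∀ u v, QuadraticMap.polar Q u v = f u v) → IsoTo Q Qp
    · exact ⟨Qp, hpP, fun Q hQ => Or.inl (hM Q hQ)⟩
    · simp only [not_forall] at hM
      obtain ⟨Qm, hQm, hnot⟩ := hM
      refine ⟨Qm, hQm, fun Q hQ => ?_⟩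
      rcases Forms.classify_even Qm (hnd Qm hQm) hV hab with ⟨e, he'⟩ | ⟨-, e, he'⟩
      · exact absurd ⟨e.symm, fun v => by
          rw [← he' (e.symm v), LinearEquiv.apply_symm_apply]⟩ hnot
      rcases Forms.classify_even Q (hnd Q hQ) hV hab with ⟨e', he''⟩ | ⟨-, e', he''⟩
      · exact Or.inl ⟨e'.symm, fun v => by rw [← he'' (e'.symm v), LinearEquiv.apply_symm_apply]⟩
      · exact Or.inr ⟨e'.symm.trans e, fun v => by
          rw [LinearEquiv.trans_apply, he', ← he'', LinearEquiv.apply_symm_apply]⟩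
  have hcent : ∀ Q : QuadraticForm F V,
      Subgroup.center (Matrix.symplecticGroup (Fin m) F) ≤ orthIn Q := fun Q z hz v => by
    obtain ⟨r, hr, hrv⟩ := spAct_center hz
    rw [hrv, QuadraticMap.map_smul, hr, one_smul]
  refine twoCover_quotient _ (orthIn Qp) (orthIn Qm) (hcent _) (hcent _)
    (orthIn_ne_top hm Qp hpP) (orthIn_ne_top hm Qm hpM) fun g => ?_
  obtain ⟨Q, hQ, hgQ⟩ := exists_invariant_form g
  have key : ∀ Q' : QuadraticForm F V, (∀ u v, QuadraticMap.polar Q' u v = f u v) → IsoTo Q Q' →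
      ∃ x, x * g * x⁻¹ ∈ orthIn Q' := fun Q' hQ' ⟨e, he'⟩ => by
    obtain ⟨x, hx⟩ := exists_sp_of_preserve (e : V →ₗ[F] V) fun u v => by
      rw [← hQ', ← hQ]
      simp [QuadraticMap.polar, ← map_add, he']
    refine ⟨x, fun v => ?_⟩
    simp only [map_mul, Units.val_mul, Module.End.mul_apply]
    conv_rhs => rw [← spAct_apply_inv x v]
    rw [hx]
    simp only [LinearEquiv.coe_coe, he', hgQ _]
  rcases hmin Q hQ with h | h
  · obtain ⟨x, hx⟩ := key Qp hpP h
    exact ⟨x, Or.inl hx⟩
  · obtain ⟨x, hx⟩ := key Qm hpM h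
    exact ⟨x, Or.inr hx⟩

end Cfsg.Agent.TwoCover
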