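import Cfsg.Agent.Lib.TwoCover.Linear
import Cfsg.Agent.Lib.TwoCover.Irred
import Cfsg.Agent.Lib.Unitary.Simple
import Cfsg.Agent.Lib.Unitary.Center
import Cfsg.Agent.Lib.Unitary.Subspaces

/-
Generalities for SU acting on its hermitian space.
* `suEnd`, `suEnd_center`, `conj_mem_setStab`, `exists_move_nondeg`, `finrank_perp`
* `exists_eigen_or_nondeg` : eigenvectors of isometries in dimension 3 and 4
-/
set_option autoImplicit false

open Matrix

namespace Cfsg.Agent.TwoCover

open Cfsg.Agent.Unitary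

/-- Conjugating a stabilised subspace. -/
theorem conj_mem_setStab {G : Type*} [Group G] {F V : Type*} [Field F] [AddCommGroup V] [Module F V]
    (φ : G →* (Module.End F V)ˣ) {W W' : Submodule F V} {g x : G}
    (hg : g ∈ setStab φ W) (hx : W.map ((φ x : Module.End F V)) = W') :
    x * g * x⁻¹ ∈ setStab φ W' := by
  have hg' : W.map ((φ g : Module.End F V)) = W := hg
  show W'.map _ = W'
  conv_rhs => rw [← hx, ← hg', ← Submodule.map_comp]
  rw [← hx, ← Submodule.map_comp]
  congr 1
  rw [← Module.End.mul_eq_comp, ← Module.End.mul_eq_comp, ← Units.val_mul, ← Units.val_mul,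
    ← map_mul, ← map_mul, inv_mul_cancel_right]

theorem mem_setStab_of_le {G : Type*} [Group G] {F V : Type*} [Field F] [AddCommGroup V] [Module F V]
    [FiniteDimensional F V]
    (φ : G →* (Module.End F V)ˣ) {W : Submodule F V} {g : G}
    (h : ∀ w ∈ W, (φ g : Module.End F V) w ∈ W) : g ∈ setStab φ W := by
  show W.map _ = W
  refine Submodule.eq_of_le_of_finrank_eq (Submodule.map_le_iff_le_comap.2 h) ?_
  refine (Submodule.equivMapOfInjective _ (fun a b hab => ?_) W).finrank_eq.symm
  have := congrArg ((φ g)⁻¹ : (Module.End F V)ˣ).val hab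
  rwa [← Module.End.mul_apply, ← Module.End.mul_apply, Units.inv_mul, Module.End.one_apply,
    Module.End.one_apply] at this

variable {F : Type*} [Field F] [Fintype F] {q n : ℕ}

/-- SU acting on column vectors. -/
def suEnd : Cfsg.SU n F q →* (Module.End F (Fin n → F))ˣ := slAct.comp (Cfsg.SU n F q).subtype

omit [Fintype F] in
theorem suEnd_apply (g : Cfsg.SU n F q) (v : Fin n → F) :
    (suEnd g : Module.End F (Fin n → F)) v = suAct g v := rfl

omit [Fintype F] in
theorem suEnd_herm (g : Cfsg.SU n F q) (u v : Fin n → F) :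
    Cfsg.hermForm n F q ((suEnd g : Module.End F (Fin n → F)) u)
      ((suEnd g : Module.End F (Fin n → F)) v) = Cfsg.hermForm n F q u v :=
  suAct_herm g u v

theorem suEnd_center (hF : Fintype.card F = q ^ 2) (hn : 2 ≤ n) {z : Cfsg.SU n F q}
    (hz : z ∈ Subgroup.center (Cfsg.SU n F q)) :
    ∃ c : F, ∀ v, (suEnd z : Module.End F (Fin n → F)) v = c • v := by
  obtain ⟨c, -, -, hc⟩ := center_SU_scalar hF hn hz
  refine ⟨c, fun v => ?_⟩
  show (z : Matrix.SpecialLinearGroup (Fin n) F).1 *ᵥ v = _
  rw [show ((z : Matrix.SpecialLinearGroup (Fin n) F)).1 = Matrix.scalar (Fin n) c from hc]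
  funext i
  simp [Matrix.mulVec_diagonal]

theorem center_le_setStab (hF : Fintype.card F = q ^ 2) (hn : 2 ≤ n) (W : Submodule F (Fin n → F)) :
    Subgroup.center (Cfsg.SU n F q) ≤ setStab suEnd W := fun z hz => by
  obtain ⟨c, hc⟩ := suEnd_center hF hn hz
  exact mem_setStab_of_le (F := F) (V := Fin n → F) suEnd fun w hw => by
    rw [hc]; exact W.smul_mem c hw

theorem conj_mem_suStab {W W' : Submodule F (Fin n → F)} {g x : Cfsg.SU n F q}
    (hW : ∀ w ∈ W, (suEnd g : Module.End F (Fin n → F)) w ∈ W)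
    (hx : W.map (suEnd x : Module.End F (Fin n → F)) = W') :
    x * g * x⁻¹ ∈ setStab suEnd W' :=
  conj_mem_setStab (F := F) (V := Fin n → F) suEnd
    (mem_setStab_of_le (F := F) (V := Fin n → F) suEnd hW) hx

/-- SU moves any nondegenerate line to any other. -/
theorem exists_move_nondeg (hF : Fintype.card F = q ^ 2) (hn : 2 ≤ n) {v w : Fin n → F}
    (hv : Cfsg.hermForm n F q v v ≠ 0) (hw : Cfsg.hermForm n F q w w ≠ 0) :
    ∃ x : Cfsg.SU n F q, (F ∙ v).map (suEnd x : Module.End F (Fin n → F)) = F ∙ w := by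
  have H := hermForm_isHerm hF n
  have key : ∀ u : Fin n → F, Cfsg.hermForm n F q u u ≠ 0 →
      ∃ a : F, a ≠ 0 ∧ Cfsg.hermForm n F q (a • u) (a • u) = 1 := fun u hu => by
    obtain ⟨a, ha⟩ := exists_norm_eq hF (c := (Cfsg.hermForm n F q u u)⁻¹)
      (by rw [inv_pow, H.self_fixed])
    refine ⟨a, fun h0 => inv_ne_zero hu (by rw [← ha, h0]; simp), ?_⟩
    rw [H.smul_left, H.smul_right, ← mul_assoc, ← pow_succ', ha, inv_mul_cancel₀ hu]
  obtain ⟨a, ha0, ha⟩ := key v hv
  obtain ⟨b, hb0, hb⟩ := key w hw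
  obtain ⟨c, hc, hcb⟩ := exists_orthonormal_extend hF H (hermForm_nondeg hF n)
    (b := ![b • w]) ⟨fun i => by fin_cases i; simpa using hb, fun i j hij => by
      exact absurd (Subsingleton.elim i j) hij⟩ (n := 2) (by omega)
      (by rw [Module.finrank_fin_fun]; omega)
  obtain ⟨g, hg⟩ := exists_su_witt hF (k := 1) (u := ![a • v]) (w := ![b • w]) (e := c 1)
    (LinearIndependent.of_subsingleton 0 (by
      intro h0; simp only [Matrix.cons_val_fin_one] at h0
      rw [h0, H.zero_left] at ha; exact zero_ne_one ha))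
    (LinearIndependent.of_subsingleton 0 (by
      intro h0; simp only [Matrix.cons_val_fin_one] at h0
      rw [h0, H.zero_left] at hb; exact zero_ne_one hb))
    (fun i j => by fin_cases i; fin_cases j; simpa using hb.trans ha.symm)
    (hc.1 1) (fun i => by
      have := hc.2 (show (0 : Fin 2) ≠ 1 by decide)
      have e : c 0 = ![b • w] i := (hcb 0).trans (by fin_cases i; rfl)
      simp only at this
      rwa [e] at this)
  refine ⟨g, ?_⟩
  have h1 : suAct g (a • v) = b • w := hg 0
  rw [suAct_smul] at h1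
  rw [Submodule.map_span, Set.image_singleton, suEnd_apply,
    ← Submodule.span_singleton_smul_eq (isUnit_iff_ne_zero.2 ha0), h1,
    Submodule.span_singleton_smul_eq (isUnit_iff_ne_zero.2 hb0)]

/-- The orthogonal complement. -/
def hperp (hF : Fintype.card F = q ^ 2) (W : Submodule F (Fin n → F)) : Submodule F (Fin n → F) where
  carrier := {x | ∀ w ∈ W, Cfsg.hermForm n F q x w = 0}
  add_mem' {a b} ha hb w hw := by rw [(hermForm_isHerm hF n).add_left, ha w hw, hb w hw, add_zero]
  zero_mem' w _ := (hermForm_isHerm hF n).zero_left w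
  smul_mem' c x hx w hw := by rw [(hermForm_isHerm hF n).smul_left, hx w hw, mul_zero]

theorem mem_hperp {hF : Fintype.card F = q ^ 2} {W : Submodule F (Fin n → F)} {x : Fin n → F} :
    x ∈ hperp hF W ↔ ∀ w ∈ W, Cfsg.hermForm n F q x w = 0 := Iff.rfl

theorem finrank_hperp (hF : Fintype.card F = q ^ 2) (W : Submodule F (Fin n → F)) :
    Module.finrank F (hperp hF W) + Module.finrank F W = n := by
  classical
  have H := hermForm_isHerm hF n
  let b := Module.finBasis F W
  let Λ : (Fin n → F) →ₗ[F] (Fin (Module.finrank F W) → F) :=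
    { toFun := fun x i => Cfsg.hermForm n F q x (b i)
      map_add' := fun x y => funext fun i => H.add_left _ _ _
      map_smul' := fun c x => funext fun i => H.smul_left c _ _ }
  have hker : LinearMap.ker Λ = hperp hF W := by
    ext x
    rw [LinearMap.mem_ker, mem_hperp]
    constructor
    · intro h w hw
      obtain ⟨c, hc⟩ : ∃ c : Fin (Module.finrank F W) → F, ∑ i, c i • (b i : Fin n → F) = w :=
        ⟨b.repr ⟨w, hw⟩, by
          have := congrArg Subtype.val (b.sum_repr ⟨w, hw⟩)
          simpa only [Submodule.coe_sum, Submodule.coe_smul] using this⟩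
      rw [← hc, H.sum_right hF]
      refine Finset.sum_eq_zero fun i _ => ?_
      rw [H.smul_right, show Cfsg.hermForm n F q x (b i) = 0 from congrFun h i, mul_zero]
    · intro h; funext i; exact h _ (b i).2
  have hsurj : Function.Surjective Λ := by
    rw [← LinearMap.range_eq_top]
    by_contra hne
    obtain ⟨χ, hχ0, hχ⟩ := Submodule.exists_le_ker_of_lt_top _ (lt_top_iff_ne_top.2 hne)
    let c : Fin (Module.finrank F W) → F := fun i => χ (Pi.single i 1) ^ q
    have hzero : ∑ i, c i • (b i : Fin n → F) = 0 := by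
      refine hermForm_nondeg hF n _ fun x => (H.eq_zero_symm hF).1 ?_
      have h0 : χ (Λ x) = 0 := LinearMap.mem_ker.1 (hχ (LinearMap.mem_range_self Λ x))
      rw [pi_eq_sum_univ' (Λ x), map_sum] at h0
      rw [H.sum_right hF, ← h0]
      refine Finset.sum_congr rfl fun i _ => ?_
      rw [H.smul_right, map_smul, smul_eq_mul, pow_q_pow_q hF, mul_comm]
      rfl
    apply hχ0
    refine LinearMap.pi_ext' fun i => LinearMap.ext_ring ?_
    have hc0 := Fintype.linearIndependent_iff.1
      (b.linearIndependent.map' W.subtype W.ker_subtype) c (by simpa using hzero) i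
    simpa using (pow_q_eq_zero hF).1 hc0
  have := LinearMap.finrank_range_add_finrank_ker Λ
  rw [hker, LinearMap.range_eq_top.2 hsurj, finrank_top, Module.finrank_fin_fun,
    Module.finrank_fin_fun] at this
  omega

theorem finrank_le_of_isotropic (hF : Fintype.card F = q ^ 2) {W : Submodule F (Fin n → F)}
    (hW : ∀ u ∈ W, ∀ v ∈ W, Cfsg.hermForm n F q u v = 0) : 2 * Module.finrank F W ≤ n := by
  have h1 := finrank_hperp hF W
  have h2 : Module.finrank F W ≤ Module.finrank F (hperp hF W) :=
    Submodule.finrank_mono fun u hu => mem_hperp.2 (hW u hu)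
  omega

/-- An isometry of 3-space or of 4-space without eigenvectors is irreducible, or fixes a
totally isotropic plane. -/
theorem exists_eigen_or_plane (hF : Fintype.card F = q ^ 2) (hn : n = 3 ∨ n = 4)
    (T : Module.End F (Fin n → F))
    (hiso : ∀ u v, Cfsg.hermForm n F q (T u) (T v) = Cfsg.hermForm n F q u v) :
    (∃ v ≠ (0 : Fin n → F), ∃ c : F, T v = c • v) ∨
    (n = 3 ∧ IsIrred T) ∨
    (n = 4 ∧ ∃ W : Submodule F (Fin n → F), Module.finrank F W = 2 ∧ (∀ w ∈ W, T w ∈ W) ∧
      ∀ u ∈ W, ∀ v ∈ W, Cfsg.hermForm n F q u v = 0) := by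
  have H := hermForm_isHerm hF n
  by_cases hev : ∃ v ≠ (0 : Fin n → F), ∃ c : F, T v = c • v
  · exact Or.inl hev
  simp only [not_exists, not_and] at hev
  have hTinj : Function.Injective T := fun a b hab => by
    refine sub_eq_zero.1 (hermForm_nondeg hF n _ fun y => ?_)
    rw [← hiso, map_sub, hab, sub_self, H.zero_left]
  have hno1 : ∀ W : Submodule F (Fin n → F), (∀ w ∈ W, T w ∈ W) → Module.finrank F W ≠ 1 := by
    intro W hW h1
    obtain ⟨⟨v, hv⟩, hv0, hspan⟩ := finrank_eq_one_iff'.1 h1
    obtain ⟨c, hc⟩ := hspan ⟨T v, hW v hv⟩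
    exact hev v (fun h0 => hv0 (Subtype.ext h0)) c (congrArg Subtype.val hc).symm
  have hperp : ∀ W : Submodule F (Fin n → F), (∀ w ∈ W, T w ∈ W) →
      ∀ x ∈ hperp hF W, T x ∈ hperp hF W := by
    intro W hW x hx
    refine mem_hperp.2 fun w hw => ?_
    have hsurj : ∀ w ∈ W, ∃ w' ∈ W, T w' = w := fun w hw => by
      have hb : Function.Surjective (T.restrict hW) :=
        LinearMap.injective_iff_surjective.1 (fun a b hab => Subtype.ext (hTinj (congrArg Subtype.val hab)))
      obtain ⟨⟨w', hw'⟩, he⟩ := hb ⟨w, hw⟩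
      exact ⟨w', hw', congrArg Subtype.val he⟩
    obtain ⟨w', hw', rfl⟩ := hsurj w hw
    rw [hiso]
    exact mem_hperp.1 hx w' hw'
  by_cases hirr : IsIrred T
  · rcases hn with rfl | rfl
    · exact Or.inr (Or.inl ⟨rfl, hirr⟩)
    · exfalso
      have := (irreducible_isometry hF H (hermForm_nondeg hF 4) T hiso hirr).1
      rw [Module.finrank_fin_fun] at this
      exact absurd this (by decide)
  simp only [IsIrred, not_forall, not_or] at hirr
  obtain ⟨W, hW, hW0, hWt⟩ := hirr
  have h0 : Module.finrank F W ≠ 0 := fun h => hW0 (Submodule.finrank_eq_zero.1 h)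
  have htop : Module.finrank F W < n := by
    have := Submodule.finrank_lt hWt
    rwa [Module.finrank_fin_fun] at this
  have hdim := finrank_hperp hF W
  have h1 := hno1 W hW
  have h1' := hno1 _ (hperp W hW)
  obtain ⟨rfl, hW2⟩ : n = 4 ∧ Module.finrank F W = 2 := by omega
  refine Or.inr (Or.inr ⟨rfl, W, hW2, hW, ?_⟩)
  by_contra hns
  -- otherwise the restriction to `W` has an eigenvector
  have hinf : W ⊓ TwoCover.hperp hF W = ⊥ ∨ W ≤ TwoCover.hperp hF W := by
    have h2 := hno1 (W ⊓ TwoCover.hperp hF W) fun x hx =>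
      ⟨hW x hx.1, hperp W hW x hx.2⟩
    have hle : Module.finrank F (W ⊓ TwoCover.hperp hF W : Submodule F (Fin 4 → F)) ≤ 2 :=
      hW2 ▸ Submodule.finrank_mono inf_le_left
    rcases (show Module.finrank F (W ⊓ TwoCover.hperp hF W : Submodule F (Fin 4 → F)) = 0 ∨
      Module.finrank F (W ⊓ TwoCover.hperp hF W : Submodule F (Fin 4 → F)) = 2 by omega) with h | h
    · exact Or.inl (Submodule.finrank_eq_zero.1 h)
    · exact Or.inr (inf_eq_left.1 (Submodule.eq_of_le_of_finrank_eq inf_le_left (h.trans hW2.symm)))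
  rcases hinf with hinf | hinf
  · haveI : Nontrivial W := Module.nontrivial_of_finrank_pos (R := F) (by omega)
    have HW : IsHerm q (fun a b : W => Cfsg.hermForm 4 F q a b) := H.comap W.subtype
    obtain ⟨v, hv, c, hc⟩ := exists_eigen_of_plane hF HW (fun a ha => by
      have : (a : Fin 4 → F) ∈ W ⊓ TwoCover.hperp hF W := ⟨a.2, mem_hperp.2 fun w hw => ha ⟨w, hw⟩⟩
      rw [hinf, Submodule.mem_bot] at this
      exact Subtype.ext this) (T.restrict hW) (fun a b => hiso a b) hW2
    exact hev v (fun h => hv (Subtype.ext h)) c (congrArg Subtype.val hc)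
  · exact hns fun u hu v hv => mem_hperp.1 (hinf hu) v hv

end Cfsg.Agent.TwoCover
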