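import Cfsg.Agent.Lib.TwoCover.UBase

/-
An isometry with an isotropic eigenvector.
* `exists_frame` : complement of a hyperbolic pair
* `eigen_four` : nondegenerate eigenvector or totally isotropic invariant plane
* `eigen_three` : nondegenerate eigenvector or unipotent (up to the scalar with cube one)
-/
set_option autoImplicit false

open Matrix

namespace Cfsg.Agent.TwoCover

open Cfsg.Agent.Unitary

variable {F : Type*} [Field F] [Fintype F] {q n : ℕ}

local notation "h[" a ", " b "]" => Cfsg.hermForm _ _ q a b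

/-- The complement of a hyperbolic pair inside `v⊥`, with the projection and the induced map. -/
theorem exists_frame (hF : Fintype.card F = q ^ 2) {v : Fin n → F} (hv : v ≠ 0)
    (hv0 : Cfsg.hermForm n F q v v = 0) (T : Module.End F (Fin n → F))
    (hiso : ∀ a b, Cfsg.hermForm n F q (T a) (T b) = Cfsg.hermForm n F q a b) {c : F}
    (hTv : T v = c • v) :
    ∃ (U : Submodule F (Fin n → F)) (S : Module.End F U) (r : U → F),
      Module.finrank F U + 2 = n ∧
      (∀ a : U, Cfsg.hermForm n F q (a : Fin n → F) v = 0) ∧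
      (∀ a : U, (∀ b : U, Cfsg.hermForm n F q (a : Fin n → F) (b : Fin n → F) = 0) → a = 0) ∧
      (∀ a b : U, Cfsg.hermForm n F q (S a : Fin n → F) (S b : Fin n → F) =
        Cfsg.hermForm n F q (a : Fin n → F) (b : Fin n → F)) ∧
      ∀ a : U, T a = (S a : Fin n → F) + r a • v := by
  have H := hermForm_isHerm hF n
  obtain ⟨u, hu0, hvu⟩ := exists_iso_partner hF hv hv0
  have huv : Cfsg.hermForm n F q u v = 1 := by rw [H.conj_symm v u, hvu, one_pow]
  let P := Submodule.span F (Set.range ![v, u])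
  let U := hperp hF P
  have hUv : ∀ a ∈ U, Cfsg.hermForm n F q a v = 0 := fun a ha =>
    mem_hperp.1 ha v (Submodule.subset_span ⟨0, rfl⟩)
  have hUu : ∀ a ∈ U, Cfsg.hermForm n F q a u = 0 := fun a ha =>
    mem_hperp.1 ha u (Submodule.subset_span ⟨1, rfl⟩)
  have hmem : ∀ a, Cfsg.hermForm n F q a v = 0 → Cfsg.hermForm n F q a u = 0 → a ∈ U := by
    intro a h1 h2
    refine mem_hperp.2 fun w hw => ?_
    obtain ⟨d, rfl⟩ := (Submodule.mem_span_range_iff_exists_fun F).1 hw
    rw [Fin.sum_univ_two, H.add_right hF, H.smul_right, H.smul_right]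
    simp [h1, h2]
  have hdim : Module.finrank F U + 2 = n := by
    have h1 := finrank_hperp hF P
    rwa [show Module.finrank F P = 2 by
      show Module.finrank F (Submodule.span F (Set.range ![v, u])) = 2
      rw [finrank_span_eq_card (linearIndependent_hyperbolic hF hv0 hu0 hvu), Fintype.card_fin]] at h1
  have hc0 : c ≠ 0 := fun h => by
    have := hiso v u
    rw [hTv, h, zero_smul, H.zero_left, hvu] at this
    exact zero_ne_one this
  have hTv' : ∀ a ∈ U, Cfsg.hermForm n F q (T a) v = 0 := fun a ha => by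
    have h1 := hiso a v
    rw [hTv, H.smul_right, hUv a ha] at h1
    exact (mul_eq_zero.1 h1).resolve_left (pow_ne_zero _ hc0)
  let pr : (Fin n → F) →ₗ[F] (Fin n → F) :=
    { toFun := fun a => a - Cfsg.hermForm n F q a u • v
      map_add' := fun a b => by rw [H.add_left, add_smul]; abel
      map_smul' := fun d a => by rw [H.smul_left, mul_smul, RingHom.id_apply, smul_sub] }
  have hpr : ∀ a ∈ U, pr (T a) ∈ U := fun a ha => by
    refine hmem _ ?_ ?_
    · show Cfsg.hermForm n F q (T a - _ • v) v = 0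
      rw [H.sub_left, H.smul_left, hTv' a ha, hv0, mul_zero, sub_zero]
    · show Cfsg.hermForm n F q (T a - _ • v) u = 0
      rw [H.sub_left, H.smul_left, hvu, mul_one, sub_self]
  refine ⟨U, (pr ∘ₗ T).restrict hpr, fun a => Cfsg.hermForm n F q (T a) u, hdim,
    fun a => hUv a a.2, fun a ha => ?_, fun a b => ?_, fun a => ?_⟩
  · refine Subtype.ext (hermForm_nondeg hF n _ fun y => ?_)
    let y' := y - Cfsg.hermForm n F q y u • v - Cfsg.hermForm n F q y v • u
    have hy' : y' ∈ U := hmem _ (by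
        simp only [y', H.sub_left, H.smul_left, hv0, huv]; ring) (by
        simp only [y', H.sub_left, H.smul_left, hu0, hvu]; ring)
    have h1 : Cfsg.hermForm n F q (a : Fin n → F) y' = 0 := ha ⟨y', hy'⟩
    simp only [y', H.sub_right hF, H.smul_right, hUv a a.2, hUu a a.2, mul_zero, sub_zero] at h1
    exact h1
  · show Cfsg.hermForm n F q (T a - _ • v) (T b - _ • v) = _
    rw [H.sub_left, H.smul_left, H.sub_right hF, H.sub_right hF, H.smul_right, H.smul_right,
      hTv' a a.2, (H.eq_zero_symm hF).1 (hTv' b b.2), hv0, hiso]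
    simp
  · show T a = (T a - Cfsg.hermForm n F q (T a) u • v) + Cfsg.hermForm n F q (T a) u • v
    rw [sub_add_cancel]

theorem eigen_four (hF : Fintype.card F = q ^ 2) (T : Module.End F (Fin 4 → F))
    (hiso : ∀ a b, Cfsg.hermForm 4 F q (T a) (T b) = Cfsg.hermForm 4 F q a b) :
    (∃ v, Cfsg.hermForm 4 F q v v ≠ 0 ∧ ∃ c : F, T v = c • v) ∨
    ∃ W : Submodule F (Fin 4 → F), Module.finrank F W = 2 ∧ (∀ w ∈ W, T w ∈ W) ∧
      ∀ u ∈ W, ∀ v ∈ W, Cfsg.hermForm 4 F q u v = 0 := by
  have H := hermForm_isHerm hF 4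
  rcases exists_eigen_or_plane hF (Or.inr rfl) T hiso with ⟨v, hv, c, hTv⟩ | ⟨h, -⟩ | ⟨-, hW⟩
  rotate_left
  · exact absurd h (by decide)
  · exact Or.inr hW
  by_cases hv0 : Cfsg.hermForm 4 F q v v = 0
  swap
  · exact Or.inl ⟨v, hv0, c, hTv⟩
  refine or_iff_not_imp_left.2 fun hno => ?_
  simp only [not_exists, not_and] at hno
  obtain ⟨U, S, r, hdim, hUv, hUnd, hS, hTS⟩ := exists_frame hF hv hv0 T hiso hTv
  -- an invariant plane from an isotropic eigenvector of the induced map
  have plane : ∀ w : U, w ≠ 0 → Cfsg.hermForm 4 F q (w : Fin 4 → F) (w : Fin 4 → F) = 0 →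
      ∀ d : F, S w = d • w → ∃ W : Submodule F (Fin 4 → F), Module.finrank F W = 2 ∧
        (∀ x ∈ W, T x ∈ W) ∧ ∀ a ∈ W, ∀ b ∈ W, Cfsg.hermForm 4 F q a b = 0 := by
    intro w hw hw0 d hd
    have hli : LinearIndependent F ![v, (w : Fin 4 → F)] := by
      rw [linearIndependent_fin2]
      refine ⟨fun h => hw (Subtype.ext h), fun a ha => hv ?_⟩
      have ha' : a • (w : Fin 4 → F) = v := ha
      have h0 : a • w = (0 : U) := hUnd _ fun b => by
        rw [Submodule.coe_smul, ha']; exact (H.eq_zero_symm hF).1 (hUv b)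
      rw [← ha', ← Submodule.coe_smul, h0, Submodule.coe_zero]
    refine ⟨Submodule.span F (Set.range ![v, (w : Fin 4 → F)]),
      by rw [finrank_span_eq_card hli, Fintype.card_fin], fun x hx => ?_, fun a ha b hb => ?_⟩
    · obtain ⟨e, rfl⟩ := (Submodule.mem_span_range_iff_exists_fun F).1 hx
      rw [Fin.sum_univ_two, map_add, map_smul, map_smul]
      show e 0 • T v + e 1 • T (w : Fin 4 → F) ∈ _
      rw [hTv, hTS, hd]
      refine (Submodule.mem_span_range_iff_exists_fun F).2 ⟨![e 0 * c + e 1 * r w, e 1 * d], ?_⟩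
      rw [Fin.sum_univ_two, Submodule.coe_smul]
      simp only [Matrix.cons_val_zero, Matrix.cons_val_one, Matrix.cons_val_fin_one]
      module
    · obtain ⟨e, rfl⟩ := (Submodule.mem_span_range_iff_exists_fun F).1 ha
      obtain ⟨e', rfl⟩ := (Submodule.mem_span_range_iff_exists_fun F).1 hb
      rw [Fin.sum_univ_two, Fin.sum_univ_two]
      simp [H.add_left, H.add_right hF, H.smul_left, H.smul_right, hv0, hw0, hUv w,
        (H.eq_zero_symm hF).1 (hUv w)]
  have mu_eq : ∀ w : U, Cfsg.hermForm 4 F q (w : Fin 4 → F) (w : Fin 4 → F) ≠ 0 →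
      ∀ d : F, S w = d • w → d = c := by
    intro w hw d hd
    by_contra hne
    refine hno ((w : Fin 4 → F) + (r w / (d - c)) • v) ?_ d ?_
    · simpa [H.add_left, H.add_right hF, H.smul_left, H.smul_right, hv0, hUv w,
        (H.eq_zero_symm hF).1 (hUv w)] using hw
    · rw [map_add, map_smul, hTv, hTS, hd, Submodule.coe_smul]
      have h' : r w + r w / (d - c) * c = d * (r w / (d - c)) := by
        field_simp [sub_ne_zero.2 hne]
        ring
      linear_combination (norm := module) congrArg (fun z : F => z • v) h'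
  haveI : Nontrivial U := Module.nontrivial_of_finrank_pos (R := F) (by omega)
  have hU2 : Module.finrank F U = 2 := by omega
  have HU : IsHerm q (fun a b : U => Cfsg.hermForm 4 F q a b) := H.comap U.subtype
  obtain ⟨w, hw, d, hd⟩ := exists_eigen_of_plane hF HU hUnd S hS hU2
  by_cases hw0 : Cfsg.hermForm 4 F q (w : Fin 4 → F) (w : Fin 4 → F) = 0
  · exact plane w hw hw0 d hd
  obtain rfl := mu_eq w hw0 d hd
  -- the orthogonal eigenvector
  let ℓ : U →ₗ[F] F :=
    { toFun := fun a => Cfsg.hermForm 4 F q (a : Fin 4 → F) (w : Fin 4 → F)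
      map_add' := fun a b => H.add_left _ _ _
      map_smul' := fun e a => H.smul_left e _ _ }
  obtain ⟨w', hw'm, hw'0⟩ := Submodule.exists_mem_ne_zero_of_ne_bot (fun h : LinearMap.ker ℓ = ⊥ => by
    have := LinearMap.finrank_range_add_finrank_ker ℓ
    have hle := Submodule.finrank_le (LinearMap.range ℓ)
    rw [Module.finrank_self] at hle
    rw [h, finrank_bot] at this
    omega)
  have hw'w : Cfsg.hermForm 4 F q (w' : Fin 4 → F) (w : Fin 4 → F) = 0 := hw'm
  have hline : ∀ a : U, Cfsg.hermForm 4 F q (a : Fin 4 → F) (w : Fin 4 → F) = 0 →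
      ∃ e : F, a = e • w' := by
    intro a ha
    have hk : Module.finrank F (LinearMap.ker ℓ) = 1 := by
      have hnk : LinearMap.ker ℓ ≠ ⊤ := fun h => hw0 ((h ▸ Submodule.mem_top : w ∈ LinearMap.ker ℓ))
      have h1 := Submodule.finrank_lt hnk
      have h2 : Module.finrank F (LinearMap.ker ℓ) ≠ 0 := fun h => hw'0 (by
        have := hw'm
        rwa [Submodule.finrank_eq_zero.1 h, Submodule.mem_bot] at this)
      omega
    have hle : F ∙ w' = LinearMap.ker ℓ := Submodule.eq_of_le_of_finrank_eq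
      ((Submodule.span_singleton_le_iff_mem _ _).2 hw'm) (by rw [finrank_span_singleton hw'0, hk])
    have ha' : a ∈ F ∙ w' := hle ▸ (show a ∈ LinearMap.ker ℓ from ha)
    obtain ⟨e, he⟩ := Submodule.mem_span_singleton.1 ha'
    exact ⟨e, he.symm⟩
  have hdne : d ≠ 0 := fun h => hw0 (by rw [← hS w w, hd, h, zero_smul, Submodule.coe_zero, H.zero_left])
  obtain ⟨e, he⟩ := hline (S w') (by
    have h1 := hS w' w
    rw [hd, Submodule.coe_smul, H.smul_right, hw'w] at h1
    exact (mul_eq_zero.1 h1).resolve_left (pow_ne_zero _ hdne))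
  by_cases hw'' : Cfsg.hermForm 4 F q (w' : Fin 4 → F) (w' : Fin 4 → F) = 0
  · exact plane w' hw'0 hw'' e he
  obtain rfl := mu_eq w' hw'' e he
  obtain ⟨s, hs⟩ := exists_norm_eq hF
    (c := -Cfsg.hermForm 4 F q (w : Fin 4 → F) (w : Fin 4 → F) /
      Cfsg.hermForm 4 F q (w' : Fin 4 → F) (w' : Fin 4 → F))
    (by rw [div_pow, neg_pow_q hF, H.self_fixed, H.self_fixed])
  refine plane (w + s • w') (fun h => hw0 ?_) ?_ e (by rw [map_add, map_smul, hd, he, smul_add, smul_comm])
  · have := congrArg (fun a : U => Cfsg.hermForm 4 F q (a : Fin 4 → F) (w : Fin 4 → F)) h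
    simpa [H.add_left, H.smul_left, hw'w, H.zero_left] using this
  · simp only [Submodule.coe_add, Submodule.coe_smul, H.add_left, H.add_right hF, H.smul_left,
      H.smul_right, hw'w, (H.eq_zero_symm hF).1 hw'w, mul_zero, zero_add, add_zero]
    rw [← mul_assoc, ← pow_succ', hs, div_mul_cancel₀ _ hw'', add_neg_cancel]

theorem eigen_three (hF : Fintype.card F = q ^ 2) [CharP F 3] (T : Module.End F (Fin 3 → F))
    (hiso : ∀ a b, Cfsg.hermForm 3 F q (T a) (T b) = Cfsg.hermForm 3 F q a b)
    (hdet : LinearMap.det T = 1) :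
    (∃ v, Cfsg.hermForm 3 F q v v ≠ 0 ∧ ∃ c : F, T v = c • v) ∨ IsIrred T ∨
      ((T - 1) ^ 3 = 0 ∧ (T - 1) ^ 2 ≠ 0) := by
  have H := hermForm_isHerm hF 3
  rcases exists_eigen_or_plane hF (Or.inl rfl) T hiso with ⟨v, hv, c, hTv⟩ | ⟨-, hirr⟩ | ⟨h, -⟩
  rotate_left
  · exact Or.inr (Or.inl hirr)
  · exact absurd h (by decide)
  refine or_iff_not_imp_left.2 fun hno => Or.inr ?_
  simp only [not_exists, not_and] at hno
  have hv0 : Cfsg.hermForm 3 F q v v = 0 := by
    by_contra hne; exact hno v hne c hTv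
  obtain ⟨U, S, r, hdim, hUv, hUnd, hS, hTS⟩ := exists_frame hF hv hv0 T hiso hTv
  obtain ⟨w, hw, hspan⟩ := finrank_eq_one_iff'.1 (show Module.finrank F U = 1 by omega)
  obtain ⟨d, hd⟩ := hspan (S w)
  have hw0 : Cfsg.hermForm 3 F q (w : Fin 3 → F) (w : Fin 3 → F) ≠ 0 := fun h => hw (hUnd w fun b => by
    obtain ⟨e, rfl⟩ := hspan b
    rw [Submodule.coe_smul, H.smul_right, h, mul_zero])
  obtain rfl : d = c := by
    by_contra hne
    refine hno ((w : Fin 3 → F) + (r w / (d - c)) • v) ?_ d ?_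
    · simpa [H.add_left, H.add_right hF, H.smul_left, H.smul_right, hv0, hUv w,
        (H.eq_zero_symm hF).1 (hUv w)] using hw0
    · rw [map_add, map_smul, hTv, hTS, ← hd, Submodule.coe_smul]
      have h' : r w + r w / (d - c) * c = d * (r w / (d - c)) := by
        field_simp [sub_ne_zero.2 hne]
        ring
      linear_combination (norm := module) congrArg (fun z : F => z • v) h'
  have hnorm : d ^ (q + 1) = 1 := by
    have h1 := hS w w
    rw [← hd, Submodule.coe_smul, H.smul_left, H.smul_right, ← mul_assoc, ← pow_succ'] at h1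
    exact (mul_eq_right₀ hw0).1 h1
  have hd0 : d ≠ 0 := fun h => by rw [h, zero_pow (by omega)] at hnorm; exact zero_ne_one hnorm
  -- `T - d` is nilpotent
  obtain ⟨u, -, hvu⟩ := exists_iso_partner hF hv hv0
  have huv : Cfsg.hermForm 3 F q u v = 1 := by rw [H.conj_symm v u, hvu, one_pow]
  have hperpv : ∀ a, Cfsg.hermForm 3 F q a v = 0 → ∃ e f : F, a = e • (w : Fin 3 → F) + f • v := by
    intro a ha
    let W := Submodule.span F (Set.range ![v, (w : Fin 3 → F)])
    have hli : LinearIndependent F ![v, (w : Fin 3 → F)] := by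
      rw [linearIndependent_fin2]
      refine ⟨fun h => hw (Subtype.ext h), fun e he => hw0 ?_⟩
      have he' : e • (w : Fin 3 → F) = v := he
      have h2 := hUv w
      rw [← he', H.smul_right] at h2
      rcases mul_eq_zero.1 h2 with h3 | h3
      · exact absurd (by rw [← he', (pow_q_eq_zero hF).1 h3, zero_smul]) hv
      · exact h3
    have hWle : W ≤ hperp hF (F ∙ v) := by
      rw [Submodule.span_le]
      rintro x ⟨i, rfl⟩
      refine mem_hperp.2 fun y hy => ?_
      obtain ⟨e, rfl⟩ := Submodule.mem_span_singleton.1 hy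
      fin_cases i <;> simp [H.smul_right, hv0, hUv w]
    have hWeq : W = hperp hF (F ∙ v) := Submodule.eq_of_le_of_finrank_eq hWle (by
      have h1 := finrank_hperp hF (F ∙ v)
      rw [finrank_span_singleton hv] at h1
      rw [show Module.finrank F W = 2 by
        show Module.finrank F (Submodule.span F (Set.range ![v, (w : Fin 3 → F)])) = 2
        rw [finrank_span_eq_card hli, Fintype.card_fin]]
      omega)
    have haW : a ∈ W := hWeq ▸ mem_hperp.2 fun y hy => by
      obtain ⟨e, rfl⟩ := Submodule.mem_span_singleton.1 hy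
      rw [H.smul_right, ha, mul_zero]
    obtain ⟨e, rfl⟩ := (Submodule.mem_span_range_iff_exists_fun F).1 haW
    exact ⟨e 1, e 0, by rw [Fin.sum_univ_two, add_comm]; rfl⟩
  set N := T - d • (1 : Module.End F (Fin 3 → F)) with hN
  have hNv : N v = 0 := by simp [hN, hTv]
  have hNw : N (w : Fin 3 → F) = r w • v := by
    simp [hN, hTS, ← hd]
  have hN1 : ∀ a, Cfsg.hermForm 3 F q (N a) v = 0 := fun a => by
    have h1 := hiso a v
    rw [hTv, H.smul_right] at h1
    show Cfsg.hermForm 3 F q (T a - d • a) v = 0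
    rw [H.sub_left, H.smul_left, ← h1, ← mul_assoc, ← pow_succ', hnorm, one_mul, sub_self]
  have hN3 : N ^ 3 = 0 := LinearMap.ext fun a => by
    obtain ⟨e, f, hef⟩ := hperpv (N a) (hN1 a)
    show N (N (N a)) = 0
    rw [hef, map_add, map_smul, map_smul, hNv, hNw, smul_zero, add_zero, map_smul, map_smul, hNv,
      smul_zero, smul_zero]
  have hd3 : d ^ 3 = 1 := by
    have h1 := LinearMap.eval_charpoly N (-d)
    rw [IsNilpotent.charpoly_eq_X_pow_finrank (φ := N) ⟨3, hN3⟩] at h1
    simp only [Polynomial.eval_pow, Polynomial.eval_X, Module.finrank_fin_fun] at h1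
    have h2 : algebraMap F ((Fin 3 → F) →ₗ[F] (Fin 3 → F)) (-d) - N = (-1 : F) • T := by
      rw [hN]
      refine LinearMap.ext fun a => ?_
      simp [neg_sub, sub_eq_add_neg, add_comm]
    rw [h2, LinearMap.det_smul, hdet, Module.finrank_fin_fun] at h1
    linear_combination -h1
  have hd1 : d = 1 := by
    have : (d - 1) ^ 3 = 0 := by rw [sub_pow_char, hd3, one_pow, sub_self]
    exact sub_eq_zero.1 (pow_eq_zero_iff three_ne_zero |>.1 this)
  subst hd1
  rw [hN, one_smul] at hN3
  refine ⟨hN3, fun hN2 => ?_⟩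
  -- a fixed nondegenerate vector
  set M := T - 1 with hM
  have hrk : Module.finrank F (LinearMap.range M) ≤ Module.finrank F (LinearMap.ker M) :=
    Submodule.finrank_mono (by
      rintro _ ⟨a, rfl⟩
      rw [LinearMap.mem_ker, ← Module.End.mul_apply, ← pow_two, hN2, LinearMap.zero_apply])
  have hsum := LinearMap.finrank_range_add_finrank_ker M
  rw [Module.finrank_fin_fun] at hsum
  have hex : ∃ a ∈ LinearMap.ker M, Cfsg.hermForm 3 F q a a ≠ 0 := by
    by_contra hall
    simp only [not_exists, not_and, not_not] at hall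
    have hti : ∀ a ∈ LinearMap.ker M, ∀ b ∈ LinearMap.ker M, Cfsg.hermForm 3 F q a b = 0 :=
      fun a ha b hb => (H.comap (LinearMap.ker M).subtype).eq_zero_of_isotropic hF
        (fun x => hall x x.2) ⟨a, ha⟩ ⟨b, hb⟩
    have := finrank_le_of_isotropic hF hti
    omega
  obtain ⟨a, ha, ha0⟩ := hex
  refine hno a ha0 1 ?_
  rw [LinearMap.mem_ker, hM, LinearMap.sub_apply, Module.End.one_apply, sub_eq_zero] at ha
  rw [ha, one_smul]

end Cfsg.Agent.TwoCover
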