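import Cfsg.Agent.Lib.TwoCover.UEigen

/-
PSU₄(q) is covered by the stabilisers of a totally isotropic plane and of a nondegenerate point.
* `cover_psu_four`
-/
set_option autoImplicit false

open Matrix

namespace Cfsg.Agent.TwoCover

open Cfsg.Agent.Unitary

variable {F : Type*} [Field F] [Fintype F] {q : ℕ}

theorem exists_move_plane (hF : Fintype.card F = q ^ 2) {W W₀ : Submodule F (Fin 4 → F)}
    (hW : IsTISubspace q 2 W) (hW₀ : IsTISubspace q 2 W₀) :
    ∃ x : Cfsg.SU 4 F q, W.map (suEnd x : Module.End F (Fin 4 → F)) = W₀ := by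
  let bW := Module.finBasisOfFinrankEq F W hW.1
  let b₀ := Module.finBasisOfFinrankEq F W₀ hW₀.1
  obtain ⟨g, hg⟩ := exists_gu_witt hF (bW.linearIndependent.map' _ (Submodule.ker_subtype _))
    (b₀.linearIndependent.map' _ (Submodule.ker_subtype _))
    (fun i j => by
      simp only [Function.comp_apply, Submodule.subtype_apply]
      rw [hW.2 _ (bW i).2 _ (bW j).2, hW₀.2 _ (b₀ i).2 _ (b₀ j).2])
  have hu : (detHom 4 F q g)⁻¹ ∈ (powMonoidHom (q + 1) : Fˣ →* Fˣ).ker :=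
    inv_mem (detHom_range hF (n := 4) (by omega) ▸ MonoidHom.mem_range.2 ⟨g, rfl⟩)
  obtain ⟨h, hh, hhd⟩ := tiStab_det_surj hF (by omega) (by omega) hW₀ hu
  have hker : h * g ∈ (detHom 4 F q).ker := by
    rw [MonoidHom.mem_ker, map_mul, hhd, inv_mul_cancel]
  rw [← range_suToGU] at hker
  obtain ⟨x, hx⟩ := hker
  refine ⟨x, Submodule.eq_of_le_of_finrank_eq ?_ ?_⟩
  · rintro _ ⟨w, hw, rfl⟩
    have e : (suEnd x : Module.End F (Fin 4 → F)) w =
        ((h : Matrix.GeneralLinearGroup (Fin 4) F) : Matrix (Fin 4) (Fin 4) F) *ᵥ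
          (((g : Matrix.GeneralLinearGroup (Fin 4) F) : Matrix (Fin 4) (Fin 4) F) *ᵥ w) := by
      rw [mulVec_mulVec]
      show ((suToGU 4 F q x : Cfsg.GU 4 F q) : Matrix.GeneralLinearGroup (Fin 4) F).val *ᵥ w = _
      rw [hx]; rfl
    rw [e]
    refine (hh _).1 ?_
    have hw' := congrArg (fun z : W => (z : Fin 4 → F)) (bW.sum_repr ⟨w, hw⟩)
    simp only [Submodule.coe_sum, Submodule.coe_smul] at hw'
    rw [← hw', mulVec_sum]
    refine Submodule.sum_mem _ fun i _ => ?_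
    rw [mulVec_smul]
    refine Submodule.smul_mem _ _ ?_
    have := hg i
    simp only [Function.comp_apply, Submodule.subtype_apply] at this
    rw [this]
    exact (b₀ i).2
  · rw [hW₀.1]
    refine ((Submodule.equivMapOfInjective _ (fun a b hab => ?_) W).finrank_eq.symm).trans hW.1
    rw [suEnd_apply, suEnd_apply] at hab
    rw [← suAct_inv_suAct x a, hab, suAct_inv_suAct]

theorem cover_psu_four (hF : Fintype.card F = q ^ 2) : TwoCover (Cfsg.PSU 4 F q) := by
  have H := hermForm_isHerm hF 4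
  obtain ⟨w, hwi, hw0⟩ := exists_isTI (n := 4) (k := 2) hF le_rfl
  let W₀ := Submodule.span F (Set.range w)
  have hW₀ : IsTISubspace q 2 W₀ := by
    refine ⟨by rw [finrank_span_eq_card hwi, Fintype.card_fin], fun u hu v hv => ?_⟩
    obtain ⟨a, rfl⟩ := (Submodule.mem_span_range_iff_exists_fun F).1 hu
    obtain ⟨b, rfl⟩ := (Submodule.mem_span_range_iff_exists_fun F).1 hv
    simp [Fin.sum_univ_two, H.add_left, H.add_right hF, H.smul_left, H.smul_right, hw0]
  let e0 : Fin 4 → F := Pi.single 0 1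
  let e1 : Fin 4 → F := Pi.single 1 1
  have he0 : Cfsg.hermForm 4 F q e0 e0 ≠ 0 := by simp [e0, hermForm_single_right hF]
  have he1 : Cfsg.hermForm 4 F q e1 e1 ≠ 0 := by simp [e1, hermForm_single_right hF]
  refine twoCover_quotient _ (setStab suEnd W₀) (setStab suEnd (F ∙ e0))
    (center_le_setStab hF (by omega) _) (center_le_setStab hF (by omega) _) ?_ ?_ fun g => ?_
  · intro htop
    have hv : w 0 ∈ W₀ := Submodule.subset_span ⟨0, rfl⟩
    obtain ⟨z, hz, hwz⟩ := exists_iso_partner hF (hwi.ne_zero 0) (hw0 0 0)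
    have hz0 : z ≠ 0 := fun h => by rw [h, H.zero_right hF] at hwz; exact zero_ne_one hwz
    obtain ⟨x, hx⟩ := su_transitive_iso hF (by omega) (hwi.ne_zero 0) (hw0 0 0) hz0 hz
    have h1 : W₀.map (suEnd x : Module.End F (Fin 4 → F)) = W₀ :=
      (htop ▸ Subgroup.mem_top x : x ∈ setStab suEnd W₀)
    have hzW : z ∈ W₀ := h1 ▸ ⟨w 0, hv, hx⟩
    exact one_ne_zero (α := F) (hwz ▸ hW₀.2 _ hv _ hzW)
  · intro htop
    obtain ⟨x, hx⟩ := exists_move_nondeg hF (by omega) he0 he1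
    have h1 : (F ∙ e0).map (suEnd x : Module.End F (Fin 4 → F)) = F ∙ e0 :=
      (htop ▸ Subgroup.mem_top x : x ∈ setStab suEnd (F ∙ e0))
    have h2 : e1 ∈ F ∙ e0 := (hx.symm.trans h1) ▸ Submodule.mem_span_singleton_self e1
    obtain ⟨c, hc⟩ := Submodule.mem_span_singleton.1 h2
    simpa [e0, e1] using congrFun hc 1
  rcases eigen_four hF (suEnd g : Module.End F (Fin 4 → F)) (suEnd_herm g) with
    ⟨v, hv, c, hc⟩ | ⟨W, hW2, hWi, hWt⟩
  · obtain ⟨x, hx⟩ := exists_move_nondeg hF (by omega) hv he0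
    refine ⟨x, Or.inr (conj_mem_suStab (fun u hu => ?_) hx)⟩
    obtain ⟨a, rfl⟩ := Submodule.mem_span_singleton.1 hu
    rw [map_smul, hc, smul_smul]
    exact Submodule.smul_mem _ _ (Submodule.mem_span_singleton_self v)
  · obtain ⟨x, hx⟩ := exists_move_plane hF ⟨hW2, hWt⟩ hW₀
    exact ⟨x, Or.inl (conj_mem_suStab hWi hx)⟩

end Cfsg.Agent.TwoCover
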