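import Cfsg.Agent.Lib.TwoCover.UEigen

/-
PSU₃(3^a) is covered by a nondegenerate point stabiliser and the normaliser of a Singer Sylow subgroup.
* `exists_singer_gen`, `exists_regular_in_normalizer`, `regular_conj`, `cover_psu_three`
-/
set_option autoImplicit false

open Matrix
open scoped Pointwise

namespace Cfsg.Agent.TwoCover

open Cfsg.Agent.Unitary

variable {F : Type*} [Field F] [Fintype F] {q : ℕ}

section Arith

theorem singer_prime {q r : ℕ} (hq3 : 3 ∣ q) (hr : r.Prime)
    (hrd : r ∣ q * (q - 1) + 1) : ¬ r ∣ q ∧ ¬ r ∣ q + 1 ∧ ¬ r ∣ q - 1 ∧ r ≠ 3 := by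
  refine ⟨fun h => ?_, fun h => ?_, fun h => ?_, fun h => ?_⟩
  · exact hr.one_lt.ne' (Nat.dvd_one.1 ((Nat.dvd_add_right (dvd_mul_of_dvd_left h _)).1 hrd))
  · have h3 : r ∣ 3 := by
      obtain ⟨k, hk⟩ := h
      obtain ⟨l, hl⟩ := hrd
      rcases Nat.eq_zero_or_pos q with rfl | hq
      · simp at hl; exact absurd (Nat.dvd_one.1 ⟨l, hl⟩) hr.one_lt.ne'
      have e : q * (q - 1) + 1 + 2 * (q + 1) = (q + 1) * q + 3 := by
        obtain ⟨s, rfl⟩ : ∃ s, q = s + 1 := ⟨q - 1, by omega⟩
        rw [Nat.add_sub_cancel]; ring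
      rw [hl, hk] at e
      have h1 : r ∣ r * k * q + 3 := e ▸ dvd_add (dvd_mul_right r l) (dvd_mul_of_dvd_right (dvd_mul_right r k) 2)
      exact (Nat.dvd_add_right (dvd_mul_of_dvd_left (dvd_mul_right r k) q)).1 h1
    have := (Nat.prime_dvd_prime_iff_eq hr Nat.prime_three).1 h3
    subst this
    exact absurd ((Nat.dvd_add_right (dvd_mul_of_dvd_left hq3 _)).1 hrd) (by decide)
  · exact hr.one_lt.ne' (Nat.dvd_one.1 ((Nat.dvd_add_right (dvd_mul_of_dvd_right h _)).1 hrd))
  · subst h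
    exact absurd ((Nat.dvd_add_right (dvd_mul_of_dvd_left hq3 _)).1 hrd) (by decide)

end Arith

/-- Scalars acting on vectors separate the elements. -/
theorem suEnd_injective {n : ℕ} : Function.Injective (suEnd (F := F) (q := q) (n := n)) :=
  fun _ _ h => suAct_ext fun x => LinearMap.congr_fun (congrArg Units.val h) x

theorem card_su_three (hF : Fintype.card F = q ^ 2) :
    Nat.card (Cfsg.SU 3 F q) = (q ^ 3 * (q + 1) * (q ^ 2 - 1)) * (q * (q - 1) + 1) := by
  have h := card_SU hF 3 (by norm_num)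
  have hq := two_le_q hF
  obtain ⟨s, rfl⟩ : ∃ s, q = s + 1 := ⟨q - 1, by omega⟩
  simp [Finset.prod_range_succ, show ¬ Even 1 from Nat.not_even_one] at h
  refine Nat.eq_of_mul_eq_mul_left (show 0 < s + 1 + 1 by omega) ?_
  rw [h, Nat.add_sub_cancel]
  ring

/-- Elements of prime order coprime to `q(q²-1)` are irreducible. -/
theorem irred_of_singer_order (hF : Fintype.card F = q ^ 2) [CharP F 3] {r : ℕ} (hr : r.Prime)
    (hr3 : r ≠ 3) (hrn : ¬ r ∣ q + 1 ∧ ¬ r ∣ q - 1) (x : Cfsg.SU 3 F q) (hx : orderOf x = r) :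
    IsIrred (suEnd x : Module.End F (Fin 3 → F)) := by
  have H := hermForm_isHerm hF 3
  set T := (suEnd x : Module.End F (Fin 3 → F)) with hT
  have hTr : T ^ r = 1 := by
    rw [hT, ← Units.val_pow_eq_pow_val, ← map_pow, ← hx, pow_orderOf_eq_one, map_one, Units.val_one]
  have hrF : (r : F) ≠ 0 := fun h0 => hr3
    ((Nat.prime_dvd_prime_iff_eq Nat.prime_three hr).1 ((CharP.cast_eq_zero_iff F 3 r).1 h0)).symm
  by_contra hirr
  -- eigenvalues in the field are one
  have heig : ∀ (v : Fin 3 → F) (c : F), v ≠ 0 → T v = c • v → c = 1 := by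
    intro v c hv hc
    have hp : ∀ k : ℕ, (T ^ k) v = c ^ k • v := fun k => by
      induction k with
      | zero => simp
      | succ k ih => rw [pow_succ', Module.End.mul_apply, ih, map_smul, hc, smul_smul, pow_succ]
    have hcr : c ^ r = 1 := by
      have := hp r
      rw [hTr, Module.End.one_apply] at this
      exact (smul_left_injective F hv (by simpa using this)).symm
    by_contra hc1
    haveI := Fact.mk hr
    have ho : orderOf c = r := orderOf_eq_prime hcr hc1
    have hd : r ∣ q ^ 2 - 1 := by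
      rw [← ho, ← hF]
      exact orderOf_dvd_of_pow_eq_one (FiniteField.pow_card_sub_one_eq_one c (fun h0 => by
        rw [h0, zero_pow hr.ne_zero] at hcr; exact zero_ne_one hcr))
    rw [show q ^ 2 - 1 = (q + 1) * (q - 1) by simpa using Nat.sq_sub_sq q 1] at hd
    rcases hr.dvd_mul.1 hd with h | h
    · exact hrn.1 h
    · exact hrn.2 h
  let Fx := LinearMap.ker (T - 1)
  let Mv := LinearMap.range (T - 1)
  have hmemFx : ∀ z, z ∈ Fx ↔ T z = z := fun z => by
    simp [Fx, sub_eq_zero]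
  have hdisj : ∀ z ∈ Mv, T z = z → z = 0 := by
    rintro _ ⟨y, rfl⟩ hz
    set z := (T - 1) y with hzd
    have hy : T y = y + z := by rw [hzd, LinearMap.sub_apply, Module.End.one_apply, add_sub_cancel]
    have hp : ∀ k : ℕ, (T ^ k) y = y + (k : F) • z := fun k => by
      induction k with
      | zero => simp
      | succ k ih =>
        rw [pow_succ', Module.End.mul_apply, ih, map_add, map_smul, hz, hy]
        push_cast
        rw [add_smul, one_smul]; abel
    have := hp r
    rw [hTr, Module.End.one_apply, left_eq_add, smul_eq_zero] at this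
    exact this.resolve_left hrF
  have hperp : ∀ z ∈ Mv, ∀ f, T f = f → Cfsg.hermForm 3 F q z f = 0 := by
    rintro _ ⟨y, rfl⟩ f hf
    rw [LinearMap.sub_apply, Module.End.one_apply, H.sub_left]
    have e := suEnd_herm x y f
    rw [← hT, hf] at e
    rw [e, sub_self]
  have hMinv : ∀ z ∈ Mv, T z ∈ Mv := by
    rintro _ ⟨y, rfl⟩
    exact ⟨T y, by simp [LinearMap.sub_apply, map_sub]⟩
  have hnoeig : ∀ z ∈ Mv, z ≠ 0 → ∀ c : F, T z ≠ c • z := fun z hz hz0 c hc =>
    hz0 (hdisj z hz (by rw [hc, heig z c hz0 hc, one_smul]))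
  have hev : ∃ v ≠ (0 : Fin 3 → F), ∃ c : F, T v = c • v := by
    rcases exists_eigen_or_plane hF (Or.inl rfl) T (suEnd_herm x) with h | ⟨-, h⟩ | ⟨h, -⟩
    · exact h
    · exact absurd h hirr
    · exact absurd h (by decide)
  obtain ⟨v, hv, c, hc⟩ := hev
  have hFx : Module.finrank F Fx ≠ 0 := fun h0 => hv (by
    have : v ∈ Fx := (hmemFx v).2 (by rw [hc, heig v c hv hc, one_smul])
    rwa [Submodule.finrank_eq_zero.1 h0, Submodule.mem_bot] at this)
  have hsum : Module.finrank F Mv + Module.finrank F Fx = 3 := by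
    have := LinearMap.finrank_range_add_finrank_ker (T - 1)
    rwa [Module.finrank_fin_fun] at this
  have hM0 : Module.finrank F Mv ≠ 0 := fun h0 => by
    have h1 : T - 1 = 0 := LinearMap.range_eq_bot.1 (Submodule.finrank_eq_zero.1 h0)
    have : suEnd x = 1 := Units.ext (sub_eq_zero.1 h1)
    rw [← map_one suEnd] at this
    rw [suEnd_injective this, orderOf_one] at hx
    exact hr.one_lt.ne hx
  rcases (show Module.finrank F Mv = 1 ∨ Module.finrank F Mv = 2 by omega) with h1 | h2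
  · obtain ⟨⟨z, hz⟩, hz0, hspan⟩ := finrank_eq_one_iff'.1 h1
    obtain ⟨e, he⟩ := hspan ⟨T z, hMinv z hz⟩
    exact hnoeig z hz (fun h0 => hz0 (Subtype.ext h0)) e (congrArg Subtype.val he).symm
  · haveI : Nontrivial Mv := Module.nontrivial_of_finrank_pos (R := F) (by omega)
    have htop : Fx ⊔ Mv = ⊤ := Submodule.eq_top_of_finrank_eq (by
      have h3 := Submodule.finrank_sup_add_finrank_inf_eq Fx Mv
      have h4 : Fx ⊓ Mv = ⊥ := (Submodule.eq_bot_iff _).2 fun z hz => hdisj z hz.2 ((hmemFx z).1 hz.1)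
      rw [h4, finrank_bot] at h3
      rw [Module.finrank_fin_fun]; omega)
    have HM : IsHerm q (fun a b : Mv => Cfsg.hermForm 3 F q a b) := H.comap Mv.subtype
    obtain ⟨z, hz0, e, he⟩ := exists_eigen_of_plane hF HM (fun a ha => Subtype.ext
      (hermForm_nondeg hF 3 _ fun y => by
        obtain ⟨f, hf, m, hm, rfl⟩ := Submodule.mem_sup.1 (htop ▸ Submodule.mem_top : y ∈ Fx ⊔ Mv)
        rw [H.add_right hF, hperp _ a.2 f ((hmemFx f).1 hf), zero_add]
        exact ha ⟨m, hm⟩)) (T.restrict hMinv) (fun a b => suEnd_herm x _ _) h2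
    exact hnoeig z z.2 (fun h0 => hz0 (Subtype.ext h0)) e (congrArg Subtype.val he)

theorem field_elem_order {K : Type*} [Field K] [Finite K] {m : ℕ} (hm : m ∣ Nat.card Kˣ) :
    ∃ a : Kˣ, orderOf a = m := by
  obtain ⟨g, hg⟩ := IsCyclic.exists_generator (α := Kˣ)
  have hgo : orderOf g = Nat.card Kˣ := orderOf_eq_card_of_forall_mem_zpowers hg
  obtain ⟨c, hc⟩ := hm
  refine ⟨g ^ c, ?_⟩
  have hc0 : c ≠ 0 := fun h => Nat.card_pos.ne' (by rw [hc, h, mul_zero])
  rw [orderOf_pow_of_dvd hc0 (hgo ▸ ⟨m, by rw [hc, mul_comm]⟩), hgo, hc,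
    Nat.mul_div_cancel _ (Nat.pos_of_ne_zero hc0)]

/-- An irreducible element centralises a Sylow `r`-subgroup generator. -/
theorem exists_singer_gen (hF : Fintype.card F = q ^ 2) (hq3 : 3 ∣ q) {r : ℕ} (hr : r.Prime)
    (hrd : r ∣ q * (q - 1) + 1) (g : Cfsg.SU 3 F q)
    (hg : IsIrred (suEnd g : Module.End F (Fin 3 → F))) :
    ∃ a : Cfsg.SU 3 F q, orderOf a = r ^ (Nat.card (Cfsg.SU 3 F q)).factorization r ∧
      Commute a g := by
  classical
  obtain ⟨hnq, hnp, hnm, -⟩ := singer_prime hq3 hr hrd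
  have hq := two_le_q hF
  obtain ⟨-, K, _, _, _, ρ, hK, hadj, -, θ, hθ⟩ :=
    irreducible_isometry hF (hermForm_isHerm hF 3) (hermForm_nondeg hF 3) _ (suEnd_herm g) hg
  rw [Module.finrank_fin_fun] at hK hadj
  haveI : FiniteDimensional F K := Module.Finite.of_finite
  set e := (q * (q - 1) + 1).factorization r with he
  have hcard : (Nat.card (Cfsg.SU 3 F q)).factorization r = e := by
    have h1 : (q ^ 3 * (q + 1) * (q ^ 2 - 1)).factorization r = 0 := by
      refine Nat.factorization_eq_zero_of_not_dvd fun h => ?_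
      rcases hr.dvd_mul.1 h with h | h
      · rcases hr.dvd_mul.1 h with h | h
        · exact hnq (hr.dvd_of_dvd_pow h)
        · exact hnp h
      · rw [show q ^ 2 - 1 = (q + 1) * (q - 1) by simpa using Nat.sq_sub_sq q 1] at h
        exact (hr.dvd_mul.1 h).elim hnp hnm
    have h2 : q ^ 3 * (q + 1) * (q ^ 2 - 1) ≠ 0 := by
      have : 1 < q ^ 2 := Nat.one_lt_pow two_ne_zero hq
      refine Nat.mul_ne_zero (Nat.mul_ne_zero (pow_ne_zero _ (by omega)) (by omega)) (by omega)
    rw [card_su_three hF, Nat.factorization_mul h2 (by omega), Finsupp.add_apply, h1, zero_add]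
  have hdvd : r ^ e ∣ q * (q - 1) + 1 := Nat.ordProj_dvd _ _
  have hq6 : r ^ e ∣ q ^ 3 + 1 := by
    refine hdvd.trans ⟨q + 1, ?_⟩
    obtain ⟨s, rfl⟩ : ∃ s, q = s + 1 := ⟨q - 1, by omega⟩
    rw [Nat.add_sub_cancel]; ring
  have hKu : Nat.card Kˣ = (q ^ 3 + 1) * (q ^ 3 - 1) := by
    rw [Nat.card_units, Module.natCard_eq_pow_finrank (K := F) (V := K), hK,
      Nat.card_eq_fintype_card, hF, show (q ^ 2) ^ 3 = (q ^ 3) ^ 2 by ring]
    simpa using Nat.sq_sub_sq (q ^ 3) 1
  obtain ⟨k, hk⟩ := field_elem_order (K := K) (hKu ▸ dvd_mul_of_dvd_left hq6 _)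
  have hk1 : (k : K) ^ (q ^ 3 + 1) = 1 := by
    rw [← Units.val_pow_eq_pow_val, orderOf_dvd_iff_pow_eq_one.1 (hk ▸ hq6), Units.val_one]
  have hdet : LinearMap.det (ρ k) = 1 := by
    set D := LinearMap.det (ρ k) with hD
    have hDp : D ^ r ^ e = 1 := by
      rw [hD, ← map_pow, ← map_pow ρ, ← Units.val_pow_eq_pow_val, ← hk, pow_orderOf_eq_one,
        Units.val_one, map_one, map_one]
    have hD0 : D ≠ 0 := fun h => by
      rw [h, zero_pow (pow_ne_zero _ hr.ne_zero)] at hDp; exact zero_ne_one hDp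
    have h1 : orderOf D ∣ r ^ e := orderOf_dvd_of_pow_eq_one hDp
    have h2 : orderOf D ∣ q ^ 2 - 1 := hF ▸ orderOf_dvd_of_pow_eq_one
      (FiniteField.pow_card_sub_one_eq_one D hD0)
    have hco : Nat.Coprime (r ^ e) (q ^ 2 - 1) := by
      refine Nat.Coprime.pow_left _ (hr.coprime_iff_not_dvd.2 fun h => ?_)
      rw [show q ^ 2 - 1 = (q + 1) * (q - 1) by simpa using Nat.sq_sub_sq q 1] at h
      exact (hr.dvd_mul.1 h).elim hnp hnm
    exact orderOf_eq_one_iff.1 (Nat.eq_one_of_dvd_coprimes hco h1 h2)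
  let M := LinearMap.toMatrix' (ρ k)
  have hM : IsUnitary q M := fun u v => by
    simp only [M, LinearMap.toMatrix'_mulVec]
    rw [hadj, ← Module.End.mul_apply, ← map_mul, ← pow_succ, hk1, map_one, Module.End.one_apply]
  let a : Cfsg.SU 3 F q := suOfUnitary M hM (by rw [LinearMap.det_toMatrix', hdet])
  have haρ : (suEnd a : Module.End F (Fin 3 → F)) = ρ k :=
    LinearMap.ext fun v => LinearMap.toMatrix'_mulVec _ v
  refine ⟨a, ?_, ?_⟩
  · rw [hcard, ← hk, ← orderOf_injective suEnd suEnd_injective a, ← orderOf_units, haρ,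
      ← orderOf_units (y := k)]
    exact orderOf_injective (ρ : K →* Module.End F (Fin 3 → F)) (fun x y hxy => by
      refine structure_eq_of_apply_eq ρ (v := Pi.single 0 1) ?_ (by simp only [show ρ x = ρ y from hxy])
      intro h0
      simpa using congrFun h0 0) (k : K)
  · refine suEnd_injective (Units.ext ?_)
    rw [map_mul, map_mul, Units.val_mul, Units.val_mul, haρ, ← hθ, ← map_mul, ← map_mul, mul_comm]

theorem regular_normal_form (hF : Fintype.card F = q ^ 2) [CharP F 3]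
    (T : Module.End F (Fin 3 → F))
    (hiso : ∀ a b, Cfsg.hermForm 3 F q (T a) (T b) = Cfsg.hermForm 3 F q a b)
    (h3 : (T - 1) ^ 3 = 0) (h2 : (T - 1) ^ 2 ≠ 0) :
    ∃ w : Fin 3 → (Fin 3 → F), LinearIndependent F w ∧
      T (w 0) = w 0 + w 1 ∧ T (w 1) = w 1 + w 2 ∧ T (w 2) = w 2 ∧
      ∀ i j, Cfsg.hermForm 3 F q (w i) (w j) = !![0, 1, -1; 1, 1, 0; -1, 0, (0 : F)] i j := by
  have H := hermForm_isHerm hF 3
  set N := T - 1 with hN
  have hTN : ∀ x, T x = x + N x := fun x => by
    rw [hN, LinearMap.sub_apply, Module.End.one_apply, add_sub_cancel]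
  have hrel : ∀ x y, Cfsg.hermForm 3 F q (N x) y + Cfsg.hermForm 3 F q x (N y) +
      Cfsg.hermForm 3 F q (N x) (N y) = 0 := fun x y => by
    have h := hiso x y
    rw [hTN, hTN, H.add_left, H.add_right hF, H.add_right hF] at h
    linear_combination h
  have hN3 : ∀ x, N (N (N x)) = 0 := fun x => LinearMap.congr_fun h3 x
  obtain ⟨v, hv⟩ : ∃ v, N (N v) ≠ 0 := by
    by_contra! hc
    exact h2 (LinearMap.ext fun x => by rw [pow_two, Module.End.mul_apply]; exact hc x)
  have haa : ∀ x y, Cfsg.hermForm 3 F q (N (N x)) (N (N y)) = 0 := fun x y => by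
    have := hrel (N (N x)) (N y)
    rw [hN3, H.zero_left, H.zero_left] at this
    simpa using this
  have hab : ∀ x y, Cfsg.hermForm 3 F q (N (N x)) (N y) = 0 := fun x y => by
    have := hrel (N (N x)) y
    rw [hN3, H.zero_left, H.zero_left] at this
    simpa using this
  have hav : ∀ x, Cfsg.hermForm 3 F q (N (N x)) x = -Cfsg.hermForm 3 F q (N x) (N x) := fun x => by
    have := hrel (N x) x
    rw [hab] at this
    linear_combination this
  have hli : ∀ x, N (N x) ≠ 0 → LinearIndependent F ![x, N x, N (N x)] := fun x hx => by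
    rw [Fintype.linearIndependent_iff]
    intro c hc
    rw [Fin.sum_univ_three] at hc
    simp only [Matrix.cons_val_zero, Matrix.cons_val_one, Matrix.cons_val_two, Matrix.head_cons,
      Matrix.tail_cons] at hc
    have h0 : c 0 = 0 := by
      have := congrArg (fun z => N (N z)) hc
      simpa [map_add, hN3, hx] using this
    have h1 : c 1 = 0 := by
      have := congrArg N hc
      simpa [map_add, hN3, h0, hx] using this
    intro i
    fin_cases i
    · exact h0
    · exact h1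
    · simpa [h0, h1, hx] using hc
  have hβ : ∀ x, N (N x) ≠ 0 → Cfsg.hermForm 3 F q (N x) (N x) ≠ 0 := fun x hx h0 => by
    have hspan := (hli x hx).span_eq_top_of_card_eq_finrank (by simp)
    refine hx (hermForm_nondeg hF 3 _ fun y => ?_)
    obtain ⟨c, rfl⟩ := (Submodule.mem_span_range_iff_exists_fun F).1
      (hspan ▸ Submodule.mem_top : y ∈ Submodule.span F (Set.range ![x, N x, N (N x)]))
    rw [Fin.sum_univ_three]
    simp [H.add_right hF, H.smul_right, haa, hab, hav, h0]
  -- normalise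
  obtain ⟨c, hc⟩ := exists_norm_eq hF (c := (Cfsg.hermForm 3 F q (N v) (N v))⁻¹)
    (by rw [inv_pow, H.self_fixed])
  let v1 := c • v
  have hv1a : N (N v1) ≠ 0 := by
    simp only [v1, map_smul, ne_eq, smul_eq_zero, hv, or_false]
    intro h0; rw [h0, zero_pow (by omega)] at hc
    exact inv_ne_zero (hβ v hv) hc.symm
  have hv1b : Cfsg.hermForm 3 F q (N v1) (N v1) = 1 := by
    simp only [v1, map_smul, H.smul_left, H.smul_right]
    rw [← mul_assoc, ← pow_succ', hc, inv_mul_cancel₀ (hβ v hv)]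
  let t := Cfsg.hermForm 3 F q (N v1) v1 - 1
  have h30 : (3 : F) = 0 := by exact_mod_cast CharP.cast_eq_zero F 3
  have ht : t + t ^ q = 0 := by
    have h := hrel v1 v1
    rw [hv1b, H.conj_symm (N v1) v1] at h
    simp only [t, sub_pow_q hF, one_pow]
    linear_combination h - h30
  let v2 := v1 + (-t) • N v1
  have hb2 : N v2 = N v1 + (-t) • N (N v1) := by simp [v2]
  have ha2 : N (N v2) = N (N v1) := by simp [v2, hN3]
  have hv2b : Cfsg.hermForm 3 F q (N v2) (N v2) = 1 := by
    rw [hb2]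
    simp only [H.add_left, H.add_right hF, H.smul_left, H.smul_right, hv1b, haa, hab,
      (H.eq_zero_symm hF).1 (hab v1 v1), mul_zero, add_zero]
  have hv2c : Cfsg.hermForm 3 F q (N v2) v2 = 1 := by
    rw [hb2]
    simp only [v2, H.add_left, H.add_right hF, H.smul_left, H.smul_right, hav, hv1b, hab,
      neg_pow_q hF, mul_zero, add_zero]
    have : Cfsg.hermForm 3 F q (N v1) v1 = t + 1 := by simp [t]
    rw [this]
    linear_combination -ht + t * h30
  let γ := Cfsg.hermForm 3 F q v2 v2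
  let v3 := v2 + (-γ) • N (N v2)
  have hb3 : N v3 = N v2 := by simp [v3, hN3]
  have ha3 : N (N v3) = N (N v2) := by simp [v3, hN3]
  have hva : Cfsg.hermForm 3 F q v2 (N (N v2)) = -1 := by
    rw [H.conj_symm (N (N v2)) v2, hav, hv2b, neg_pow_q hF, one_pow]
  have hv3c : Cfsg.hermForm 3 F q (N v3) v3 = 1 := by
    rw [hb3]
    simp only [v3, H.add_right hF, H.smul_right, hv2c, (H.eq_zero_symm hF).1 (hab v2 v2), mul_zero,
      add_zero]
  have hv3d : Cfsg.hermForm 3 F q v3 v3 = 0 := by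
    simp only [v3, H.add_left, H.add_right hF, H.smul_left, H.smul_right, haa, hva,
      show Cfsg.hermForm 3 F q (N (N v2)) v2 = -1 by rw [hav, hv2b], neg_pow_q hF,
      show γ ^ q = γ from H.self_fixed v2]
    linear_combination γ * h30
  have hv3b : Cfsg.hermForm 3 F q (N v3) (N v3) = 1 := by rw [hb3, hv2b]
  have hv3a : N (N v3) ≠ 0 := by rw [ha3, ha2]; exact hv1a
  refine ⟨![v3, N v3, N (N v3)], hli v3 hv3a, hTN v3, hTN (N v3), ?_, fun i j => ?_⟩
  · show T (N (N v3)) = N (N v3)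
    rw [hTN, hN3, add_zero]
  · fin_cases i <;> fin_cases j <;> simp [haa, hab, hav, hv3b, hv3c, hv3d,
      (H.eq_zero_symm hF).1 (hab v3 v3)]
    · rw [H.conj_symm (N v3) v3, hv3c, one_pow]
    · rw [H.conj_symm (N (N v3)) v3, hav, hv3b, neg_pow_q hF, one_pow]

/-- All regular unipotent elements are conjugate. -/
theorem regular_conj (hF : Fintype.card F = q ^ 2) [CharP F 3] (g g' : Cfsg.SU 3 F q)
    (hg : ((suEnd g : Module.End F (Fin 3 → F)) - 1) ^ 3 = 0 ∧
      ((suEnd g : Module.End F (Fin 3 → F)) - 1) ^ 2 ≠ 0)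
    (hg' : ((suEnd g' : Module.End F (Fin 3 → F)) - 1) ^ 3 = 0 ∧
      ((suEnd g' : Module.End F (Fin 3 → F)) - 1) ^ 2 ≠ 0) :
    ∃ x : Cfsg.SU 3 F q, x * g * x⁻¹ = g' := by
  obtain ⟨u, hu, hu0, hu1, hu2, hug⟩ := regular_normal_form hF _ (suEnd_herm g) hg.1 hg.2
  obtain ⟨w, hw, hw0, hw1, hw2, hwg⟩ := regular_normal_form hF _ (suEnd_herm g') hg'.1 hg'.2
  obtain ⟨γ, hγ⟩ := exists_gu_witt hF hu hw (fun i j => (hwg i j).trans (hug i j).symm)
  set G := ((γ : Matrix.GeneralLinearGroup (Fin 3) F) : Matrix (Fin 3) (Fin 3) F) with hG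
  have hd : G.det ^ (q + 1) = 1 := IsUnitary.det_norm hF (γ.2 : IsUnitary q _)
  have hcube : Function.Surjective (fun z : F => z ^ 3) := by
    refine Finite.injective_iff_surjective.1 fun a b hab => ?_
    have : (a - b) ^ 3 = 0 := by rw [sub_pow_char]; exact sub_eq_zero.2 hab
    exact sub_eq_zero.1 (pow_eq_zero_iff three_ne_zero |>.1 this)
  obtain ⟨c, hc⟩ := hcube (G.det)⁻¹
  have hc3 : c ^ 3 = (G.det)⁻¹ := hc
  have hG0 : G.det ≠ 0 := fun h => by
    simp [h] at hd
  have hc1 : c ^ (q + 1) = 1 := by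
    have h1 : (c ^ (q + 1) - 1) ^ 3 = 0 := by
      rw [sub_pow_char, one_pow, ← pow_mul, mul_comm, pow_mul, hc3, inv_pow, hd, inv_one, sub_self]
    exact sub_eq_zero.1 (pow_eq_zero_iff three_ne_zero |>.1 h1)
  have hU : IsUnitary q (c • G) := fun a b => by
    rw [smul_mulVec, smul_mulVec, (hermForm_isHerm hF 3).smul_left,
      (hermForm_isHerm hF 3).smul_right, ← mul_assoc, ← pow_succ', hc1, one_mul]
    exact γ.2 a b
  let x := suOfUnitary (c • G) hU (by rw [det_smul, Fintype.card_fin, hc3, inv_mul_cancel₀ hG0])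
  have hx : ∀ i, suAct x (u i) = c • w i := fun i => by
    show (c • G) *ᵥ u i = _
    rw [smul_mulVec, hG, hγ]
  refine ⟨x, suEnd_injective (Units.ext (LinearMap.ext_on
    (hw.span_eq_top_of_card_eq_finrank (by simp)) ?_))⟩
  rintro _ ⟨i, rfl⟩
  have hc0 : c ≠ 0 := fun h => by rw [h, zero_pow (by omega)] at hc1; exact zero_ne_one hc1
  have hinv : suAct x⁻¹ (w i) = c⁻¹ • u i := by
    rw [← suAct_inv_suAct x (c⁻¹ • u i), suAct_smul, hx, smul_smul, inv_mul_cancel₀ hc0, one_smul]
  show suAct (x * g * x⁻¹) (w i) = suAct g' (w i)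
  rw [suAct_mul, suAct_mul, hinv, suAct_smul, suAct_smul]
  simp only [suEnd_apply] at hu0 hu1 hu2 hw0 hw1 hw2
  fin_cases i
  · simp [hu0, hw0, suAct_add, hx, smul_smul, inv_mul_cancel₀ hc0, smul_add]
  · simp [hu1, hw1, suAct_add, hx, smul_smul, inv_mul_cancel₀ hc0, smul_add]
  · simp [hu2, hw2, hx, smul_smul, inv_mul_cancel₀ hc0]

theorem cover_psu_three (hF : Fintype.card F = q ^ 2) (hq3 : 3 ∣ q) :
    TwoCover (Cfsg.PSU 3 F q) := by
  classical
  have hq := two_le_q hF
  have hq' : 3 ≤ q := Nat.le_of_dvd (by omega) hq3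
  haveI hchar : CharP F 3 := by
    obtain ⟨p, _⟩ := CharP.exists F
    haveI : Fact p.Prime := ⟨CharP.char_is_prime F p⟩
    obtain ⟨n, hp, hn⟩ := FiniteField.card F p
    have : 3 ∣ p := Nat.prime_three.dvd_of_dvd_pow (n := n)
      (hn ▸ hF ▸ dvd_pow hq3 two_ne_zero)
    rw [(Nat.prime_dvd_prime_iff_eq Nat.prime_three hp).1 this]
    infer_instance
  obtain ⟨r, hr, hrd⟩ := Nat.exists_prime_and_dvd (show q * (q - 1) + 1 ≠ 1 by
    have : 0 < q * (q - 1) := Nat.mul_pos (by omega) (by omega)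
    omega)
  haveI := Fact.mk hr
  obtain ⟨hnq, hnp, hnm, hr3⟩ := singer_prime hq3 hr hrd
  have hrG : r ∣ Nat.card (Cfsg.SU 3 F q) := card_su_three hF ▸ dvd_mul_of_dvd_right hrd _
  obtain ⟨x, hx⟩ := exists_prime_orderOf_dvd_card' r hrG
  have hxi := irred_of_singer_order hF hr hr3 ⟨hnp, hnm⟩ x hx
  obtain ⟨a, ha, -⟩ := exists_singer_gen hF hq3 hr hrd x hxi
  set e := (Nat.card (Cfsg.SU 3 F q)).factorization r with he
  have he0 : e ≠ 0 := (hr.factorization_pos_of_dvd Nat.card_pos.ne' hrG).ne'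
  let P : Sylow r (Cfsg.SU 3 F q) := Sylow.ofCard (Subgroup.zpowers a) (by rw [Nat.card_zpowers, ha])
  have hP : (P : Subgroup (Cfsg.SU 3 F q)) = Subgroup.zpowers a := Sylow.coe_ofCard _ _
  let L := Subgroup.normalizer ((Subgroup.zpowers a : Subgroup (Cfsg.SU 3 F q)) : Set (Cfsg.SU 3 F q))
  have hsimple : IsSimpleGroup (Cfsg.SU 3 F q) := by
    have h1 : Subgroup.center (Cfsg.SU 3 F q) = ⊥ := by
      rw [← Subgroup.card_eq_one, card_center_SU hF (by norm_num)]
      exact (Nat.prime_three.coprime_iff_not_dvd.2 fun h => by omega)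
    haveI := isSimpleGroup_PSU (n := 3) hF (Or.inr ⟨rfl, hq'⟩)
    exact ((QuotientGroup.quotientMulEquivOfEq h1).trans QuotientGroup.quotientBot).symm.isSimpleGroup
  have hPne : Subgroup.zpowers a ≠ ⊥ := fun h => by
    have h' := Subgroup.card_eq_one.2 h
    rw [Nat.card_zpowers, ha] at h'
    exact he0 (Nat.pow_eq_one.1 h' |>.resolve_left hr.ne_one)
  have hPtop : Subgroup.zpowers a ≠ ⊤ := fun h => by
    have h' : Nat.card (Cfsg.SU 3 F q) = r ^ e := by rw [← ha, ← Nat.card_zpowers, h, Subgroup.card_top]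
    have h1 : 3 ∣ Nat.card (Cfsg.SU 3 F q) := card_su_three hF ▸
      dvd_mul_of_dvd_left (dvd_mul_of_dvd_left (dvd_mul_of_dvd_left (dvd_pow hq3 three_ne_zero) _) _) _
    rw [h'] at h1
    exact hr3 ((Nat.prime_dvd_prime_iff_eq Nat.prime_three hr).1
      (Nat.prime_three.dvd_of_dvd_pow h1)).symm
  have hLtop : L ≠ ⊤ := fun h => by
    haveI : (Subgroup.zpowers a).Normal := Subgroup.normalizer_eq_top_iff.1 h
    rcases hsimple.eq_bot_or_eq_top_of_normal _ ‹_› with h1 | h1
    · exact hPne h1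
    · exact hPtop h1
  -- the field of the Singer generator
  have haord : ∃ j : ℕ, orderOf (a ^ j) = r := by
    refine ⟨r ^ (e - 1), ?_⟩
    rw [orderOf_pow_of_dvd (pow_ne_zero _ hr.ne_zero) (ha ▸ pow_dvd_pow r (Nat.sub_le e 1)), ha,
      Nat.pow_div (Nat.sub_le e 1) hr.pos, Nat.sub_sub_self (Nat.one_le_iff_ne_zero.2 he0), pow_one]
  have hai : IsIrred (suEnd a : Module.End F (Fin 3 → F)) := fun W hW => by
    obtain ⟨j, hj⟩ := haord
    refine irred_of_singer_order hF hr hr3 ⟨hnp, hnm⟩ _ hj W fun w hw => ?_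
    rw [map_pow, Units.val_pow_eq_pow_val]
    clear hj
    induction j with
    | zero => simpa using hw
    | succ j ih => rw [pow_succ', Module.End.mul_apply]; exact hW _ ih
  obtain ⟨-, K, _, _, _, ρ, hK, -, hcomm, θ, hθ⟩ :=
    irreducible_isometry hF (hermForm_isHerm hF 3) (hermForm_nondeg hF 3) _ (suEnd_herm a) hai
  rw [Module.finrank_fin_fun] at hK
  haveI : FiniteDimensional F K := Module.Finite.of_finite
  have hex : ∃ n : (Cfsg.SU 3 F q), n ∈ L ∧ ¬ Commute n a := by
    by_contra! hall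
    have hle : Subgroup.normalizer ((P : Subgroup (Cfsg.SU 3 F q)) : Set (Cfsg.SU 3 F q)) ≤
        Subgroup.centralizer ((P : Subgroup (Cfsg.SU 3 F q)) : Set (Cfsg.SU 3 F q)) := by
      rw [hP]
      intro n hn z hz
      obtain ⟨i, rfl⟩ := hz
      exact ((hall n hn).zpow_right i).symm.eq
    have hc := MonoidHom.ker_transferSylow_isComplement' P hle
    rcases hsimple.eq_bot_or_eq_top_of_normal (MonoidHom.transferSylow P hle).ker inferInstance
      with h | h
    · rw [h] at hc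
      exact hPtop (hP ▸ Subgroup.isComplement'_bot_left.1 hc)
    · rw [h] at hc
      exact hPne (hP ▸ Subgroup.isComplement'_top_left.1 hc)
  obtain ⟨n, hn, hna⟩ := hex
  have hσ : ∀ y : (Cfsg.SU 3 F q), y ∈ L → ∃ σ : K ≃ₐ[F] K, ∀ k, (suEnd y : Module.End F (Fin 3 → F)) * ρ k =
      ρ (σ k) * (suEnd y : Module.End F (Fin 3 → F)) := by
    intro y hy
    have hya : a ∈ Subgroup.zpowers (y * a * y⁻¹) := by
      have hm : y * a * y⁻¹ ∈ Subgroup.zpowers a :=
        (Subgroup.mem_normalizer_iff.1 hy a).1 (Subgroup.mem_zpowers a)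
      have : Subgroup.zpowers (y * a * y⁻¹) = Subgroup.zpowers a := by
        refine Subgroup.eq_of_le_of_card_ge (Subgroup.zpowers_le.2 hm) ?_
        rw [Nat.card_zpowers, Nat.card_zpowers, ← MulAut.conj_apply, MulEquiv.orderOf_eq]
      rw [this]; exact Subgroup.mem_zpowers a
    set Y := (suEnd y : Module.End F (Fin 3 → F))
    set Y' := (((suEnd y)⁻¹ : (Module.End F (Fin 3 → F))ˣ) : Module.End F (Fin 3 → F))
    have hmem : ∀ k, ∃ l, ρ l = Y * ρ k * Y' := by
      intro k
      refine hcomm _ ?_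
      obtain ⟨i, hi⟩ := hya
      have h1 : Commute ((suEnd y * (suEnd a) * (suEnd y)⁻¹ : (Module.End F (Fin 3 → F))ˣ) :
          Module.End F (Fin 3 → F)) (Y * ρ k * Y') := by
        simp only [Units.val_mul]
        show _ * _ = _ * _
        simp only [mul_assoc, Y, Y', Units.inv_mul_cancel_left]
        rw [← hθ, ← mul_assoc (ρ θ), ← mul_assoc (ρ k) (ρ θ), ← map_mul, ← map_mul, mul_comm θ k]
      have h2 : suEnd a = (suEnd y * suEnd a * (suEnd y)⁻¹) ^ i := by
        rw [← map_inv, ← map_mul, ← map_mul, ← map_zpow]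
        exact congrArg suEnd hi.symm
      rw [h2]
      exact (Commute.units_zpow_right h1.symm i)
    choose s hs using hmem
    have hinj : ∀ {l l' : K}, ρ l = ρ l' → l = l' := fun {l l'} h =>
      structure_eq_of_apply_eq ρ (v := Pi.single 0 1) (fun h0 => by simpa using congrFun h0 0)
        (by simp only [h])
    let σ0 : K →ₐ[F] K :=
      { toFun := s
        map_one' := hinj (by rw [hs, map_one, mul_one, Units.mul_inv])
        map_mul' := fun b c => hinj (by
          rw [hs, map_mul, map_mul, hs, hs]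
          simp only [mul_assoc, Y, Y', Units.inv_mul_cancel_left])
        map_zero' := hinj (by rw [hs, map_zero, mul_zero, zero_mul])
        map_add' := fun b c => hinj (by rw [hs, map_add, map_add, hs, hs, mul_add, add_mul])
        commutes' := fun c => hinj (by
          rw [hs, AlgHom.commutes, (Algebra.commutes c Y).symm, mul_assoc, Units.mul_inv, mul_one]) }
    refine ⟨AlgEquiv.ofBijective σ0 σ0.bijective, fun k => ?_⟩
    show Y * ρ k = ρ (s k) * Y
    rw [hs, mul_assoc, Units.inv_mul, mul_one]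
  obtain ⟨σ, hσn⟩ := hσ n hn
  have hσ1 : σ ≠ 1 := fun h => hna (suEnd_injective (Units.ext (by
    rw [map_mul, map_mul, Units.val_mul, Units.val_mul, ← hθ, hσn, h]; rfl)))
  have hσp : ∀ (j : ℕ) (k : K), (suEnd n : Module.End F (Fin 3 → F)) ^ j * ρ k =
      ρ ((σ ^ j) k) * (suEnd n : Module.End F (Fin 3 → F)) ^ j := fun j => by
    induction j with
    | zero => intro k; simp
    | succ j ih =>
      intro k
      rw [pow_succ, mul_assoc, hσn, ← mul_assoc, ih, mul_assoc, ← pow_succ, pow_succ σ]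
      rfl
  have hcard3 : Nat.card (K ≃ₐ[F] K) = 3 := by rw [IsGalois.card_aut_eq_finrank, hK]
  have hσ3 : σ ^ 3 = 1 := hcard3 ▸ pow_card_eq_one'
  obtain ⟨ex, m, hm, hom⟩ := Nat.exists_eq_pow_mul_and_not_dvd (orderOf_pos n).ne' 3 (by norm_num)
  set T := (suEnd (n ^ m) : Module.End F (Fin 3 → F)) with hT
  have hTm : ∀ k, T * ρ k = ρ ((σ ^ m) k) * T := fun k => by
    rw [hT, map_pow, Units.val_pow_eq_pow_val]; exact hσp m k
  have hσm : σ ^ m ≠ 1 := fun h => hσ1 (by
    obtain ⟨u, v, huv⟩ : ∃ u v : ℤ, u * 3 + v * m = 1 :=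
      Int.isCoprime_iff_nat_coprime.2 (Nat.prime_three.coprime_iff_not_dvd.2 hm)
    rw [← zpow_one σ, ← huv, _root_.zpow_add, mul_comm u, mul_comm v, _root_.zpow_mul, _root_.zpow_mul]
    simp [h, hσ3])
  have hT3 : T ^ 3 = 1 := by
    have hcom : Commute (T ^ 3) (suEnd a : Module.End F (Fin 3 → F)) := by
      rw [← hθ, hT, map_pow, Units.val_pow_eq_pow_val, ← pow_mul]
      show _ * _ = _ * _
      rw [hσp, mul_comm m 3, pow_mul σ, hσ3, one_pow]; rfl
    obtain ⟨k, hk⟩ := hcomm _ hcom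
    have hk1 : k ^ 3 ^ ex = 1 := by
      refine structure_eq_of_apply_eq ρ (v := Pi.single 0 1)
        (fun h0 => by simpa using congrFun h0 0) ?_
      rw [map_pow, hk, hT, ← Units.val_pow_eq_pow_val, ← Units.val_pow_eq_pow_val, ← map_pow,
        ← map_pow, ← pow_mul, ← pow_mul,
        orderOf_dvd_iff_pow_eq_one.1 ⟨3, by rw [hom]; ring⟩, map_one, Units.val_one, map_one]
    haveI : CharP K 3 := charP_of_injective_algebraMap (algebraMap F K).injective 3
    have h1 : (k - 1) ^ 3 ^ ex = 0 := by rw [sub_pow_char_pow, hk1, one_pow, sub_self]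
    rw [← hk, sub_eq_zero.1 ((pow_eq_zero_iff (pow_ne_zero _ three_ne_zero)).1 h1), map_one]
  have hnil : (T - 1) ^ 3 = 0 := by
    have := congrArg (Polynomial.aeval (R := F) T) (sub_pow_char (p := 3) (Polynomial.X : Polynomial F) 1)
    simp only [map_pow, map_sub, Polynomial.aeval_X, map_one, one_pow, hT3, sub_self] at this
    exact this
  have hreg : (T - 1) ^ 2 ≠ 0 := fun h2 => by
    have hrk : Module.finrank F (LinearMap.range (T - 1)) ≤ Module.finrank F (LinearMap.ker (T - 1)) :=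
      Submodule.finrank_mono (by
        rintro _ ⟨z, rfl⟩
        rw [LinearMap.mem_ker, ← Module.End.mul_apply, ← pow_two, h2, LinearMap.zero_apply])
    have hsum := LinearMap.finrank_range_add_finrank_ker (T - 1)
    rw [Module.finrank_fin_fun] at hsum
    obtain ⟨u, hu, hu0⟩ := Submodule.exists_mem_ne_zero_of_ne_bot
      (fun h : LinearMap.ker (T - 1) = ⊥ => by rw [h, finrank_bot] at hrk hsum; omega)
    obtain ⟨u', hu', hspan⟩ := SetLike.not_le_iff_exists.1
      (fun hle : LinearMap.ker (T - 1) ≤ F ∙ u => by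
        have := Submodule.finrank_mono hle
        rw [finrank_span_singleton hu0] at this
        omega)
    let ev : K →ₗ[F] (Fin 3 → F) := (LinearMap.applyₗ u) ∘ₗ ρ.toLinearMap
    obtain ⟨k0, hk0⟩ := (LinearMap.injective_iff_surjective_of_finrank_eq_finrank
      (hK.trans (Module.finrank_fin_fun F).symm)).1
      (show Function.Injective ev from fun b c hbc => structure_eq_of_apply_eq ρ hu0 hbc) u'
    have hk0' : ρ k0 u = u' := hk0
    rw [LinearMap.mem_ker, LinearMap.sub_apply, Module.End.one_apply, sub_eq_zero] at hu hu'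
    have hfix : (σ ^ m) k0 = k0 := structure_eq_of_apply_eq ρ hu0 (by
      have := LinearMap.congr_fun (hTm k0) u
      rw [Module.End.mul_apply, Module.End.mul_apply, hu, hk0', hu'] at this
      rw [← this, hk0'])
    have hk0F : k0 ∉ (⊥ : IntermediateField F K) := fun hmem => by
      obtain ⟨c, hc⟩ := IntermediateField.mem_bot.1 hmem
      apply hspan
      rw [← hk0', ← hc, AlgHom.commutes, Module.algebraMap_end_apply]
      exact Submodule.smul_mem _ c (Submodule.mem_span_singleton_self u)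
    haveI := IntermediateField.isSimpleOrder_of_finrank_prime F K (hK ▸ Nat.prime_three)
    have htop : IntermediateField.adjoin F {k0} = ⊤ :=
      (eq_bot_or_eq_top _).resolve_left fun h =>
        hk0F (h ▸ IntermediateField.mem_adjoin_simple_self F k0)
    refine hσm (AlgEquiv.ext fun k => ?_)
    have hle : IntermediateField.adjoin F {k0} ≤
        IntermediateField.fixedField (Subgroup.zpowers (σ ^ m)) := by
      rw [IntermediateField.adjoin_simple_le_iff, IntermediateField.mem_fixedField_iff]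
      intro f hf
      have : Subgroup.zpowers (σ ^ m) ≤ MulAction.stabilizer (K ≃ₐ[F] K) k0 := by
        rw [Subgroup.zpowers_le]; exact hfix
      exact this hf
    rw [htop] at hle
    exact (IntermediateField.mem_fixedField_iff _ k).1 (hle IntermediateField.mem_top) _
      (Subgroup.mem_zpowers _)
  let e0 : Fin 3 → F := Pi.single 0 1
  let e1 : Fin 3 → F := Pi.single 1 1
  have he0' : Cfsg.hermForm 3 F q e0 e0 ≠ 0 := by simp [e0, hermForm_single_right hF]
  have he1 : Cfsg.hermForm 3 F q e1 e1 ≠ 0 := by simp [e1, hermForm_single_right hF]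
  refine twoCover_quotient _ (setStab suEnd (F ∙ e0)) L (center_le_setStab hF (by omega) _)
    (Subgroup.center_le_normalizer _) ?_ hLtop fun g => ?_
  · intro htop
    obtain ⟨y, hy⟩ := exists_move_nondeg hF (by omega) he0' he1
    have h1 : (F ∙ e0).map (suEnd y : Module.End F (Fin 3 → F)) = F ∙ e0 :=
      (htop ▸ Subgroup.mem_top y : y ∈ setStab suEnd (F ∙ e0))
    have h2 : e1 ∈ F ∙ e0 := (hy.symm.trans h1) ▸ Submodule.mem_span_singleton_self e1
    obtain ⟨c, hc⟩ := Submodule.mem_span_singleton.1 h2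
    simpa [e0, e1] using congrFun hc 1
  rcases eigen_three hF (suEnd g : Module.End F (Fin 3 → F)) (suEnd_herm g) (by
      rw [show (suEnd g : Module.End F (Fin 3 → F)) =
        Matrix.toLin' (g : Matrix.SpecialLinearGroup (Fin 3) F).1 from
          LinearMap.ext fun v => (Matrix.toLin'_apply _ v).symm, LinearMap.det_toLin']
      exact (g : Matrix.SpecialLinearGroup (Fin 3) F).2) with ⟨v, hv, c, hc⟩ | hirr | ⟨hg3, hg2⟩
  · obtain ⟨y, hy⟩ := exists_move_nondeg hF (by omega) hv he0'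
    refine ⟨y, Or.inl (conj_mem_suStab (fun u hu => ?_) hy)⟩
    obtain ⟨b, rfl⟩ := Submodule.mem_span_singleton.1 hu
    rw [map_smul, hc, smul_smul]
    exact Submodule.smul_mem _ _ (Submodule.mem_span_singleton_self v)
  · obtain ⟨b, hb, hbg⟩ := exists_singer_gen hF hq3 hr hrd g hirr
    let Q : Sylow r (Cfsg.SU 3 F q) := Sylow.ofCard (Subgroup.zpowers b) (by rw [Nat.card_zpowers, hb])
    obtain ⟨y, hy⟩ := MulAction.exists_smul_eq (Cfsg.SU 3 F q) Q P
    refine ⟨y, Or.inr ?_⟩
    have h1 : (MulAut.conj y • Subgroup.zpowers b : Subgroup (Cfsg.SU 3 F q)) = Subgroup.zpowers a := by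
      rw [← hP, ← hy, Sylow.coe_subgroup_smul, Sylow.coe_ofCard]
    refine Subgroup.centralizer_le_normalizer _ ?_
    rw [Subgroup.mem_centralizer_iff]
    intro z hz
    rw [SetLike.mem_coe, ← h1, Subgroup.mem_pointwise_smul_iff_inv_smul_mem] at hz
    obtain ⟨i, hi⟩ := hz
    have hz' : z = y * b ^ i * y⁻¹ := by
      rw [show b ^ i = (MulAut.conj y)⁻¹ • z from hi, MulAut.smul_def, MulAut.conj_inv_apply]
      group
    rw [hz']
    have := (hbg.zpow_left i).eq
    calc y * b ^ i * y⁻¹ * (y * g * y⁻¹) = y * (b ^ i * g) * y⁻¹ := by group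
      _ = y * (g * b ^ i) * y⁻¹ := by rw [this]
      _ = y * g * y⁻¹ * (y * b ^ i * y⁻¹) := by group
  · obtain ⟨y, hy⟩ := regular_conj hF g (n ^ m) ⟨hg3, hg2⟩ ⟨hnil, hreg⟩
    exact ⟨y, Or.inr (hy ▸ Subgroup.pow_mem _ hn m)⟩

end Cfsg.Agent.TwoCover
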